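import Cfsg.Agent.MinIndexForm.O.Points

/-!
The second exceptional configuration: a point with a maximal totally singular set of transformations and a point
with a non-orthogonal pair of them.
-/

set_option autoImplicit false

namespace Cfsg.Agent.MinIndexForm.O

open Cfsg.Agent.Classical Cfsg.Agent.Classical.Quad Module QuadraticMap Matrix
open scoped MatrixGroups

universe uF uV

variable {F : Type uF} {V : Type uV} [Field F] [AddCommGroup V] [Module F V] {Q : QuadraticForm F V}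

/-- The Siegel transformations at the vector in the subgroup form a totally singular four-space. -/
def SingKind (K : Subgroup (eo Q)) (y : V) (T : Submodule F V) : Prop :=
  y ∈ T ∧ (∀ w ∈ T, Q w = 0) ∧ finrank F T = 4 ∧ ∀ w, polar Q y w = 0 → (E Q y w ∈ K ↔ w ∈ T)

/-- Two non-orthogonal Siegel transformations at the vector in the subgroup. -/
def PairKind (K : Subgroup (eo Q)) (y : V) : Prop :=
  ∃ w w', polar Q y w = 0 ∧ polar Q y w' = 0 ∧ E Q y w ∈ K ∧ E Q y w' ∈ K ∧ polar Q w w' ≠ 0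

theorem polar_of_ts {T : Submodule F V} (h : ∀ w ∈ T, Q w = 0) {a b : V} (ha : a ∈ T) (hb : b ∈ T) :
    polar Q a b = 0 := by
  rw [polar, h _ (T.add_mem ha hb), h a ha, h b hb, sub_zero, sub_zero]

theorem not_sing_of_pair {K : Subgroup (eo Q)} {y : V} {T : Submodule F V} (h : PairKind K y) :
    ¬SingKind K y T := by
  rintro ⟨-, hTS, -, hT⟩
  obtain ⟨w, w', hw, hw', hm, hm', hne⟩ := h
  exact hne (polar_of_ts hTS ((hT w hw).1 hm) ((hT w' hw').1 hm'))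

/-- The product of three Siegel transformations on a hyperbolic pair. -/
theorem swap_apply {e f u : V} (he : Q e = 0) (hf : Q f = 0) (hef : polar Q e f = 1) (heu : polar Q e u = 0)
    (hfu : polar Q f u = 0) (hu : Q u ≠ 0) :
    ((E Q e u * E Q f ((Q u)⁻¹ • u) * E Q e u).1.1 e = (-(Q u)⁻¹) • f) ∧
    ((E Q e u * E Q f ((Q u)⁻¹ • u) * E Q e u).1.1 f = (-Q u) • e) ∧
    ∀ x, polar Q e x = 0 → polar Q f x = 0 →
      (E Q e u * E Q f ((Q u)⁻¹ • u) * E Q e u).1.1 x = x + (-(polar Q x u / Q u)) • u := by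
  have h : (E Q e u * E Q f ((Q u)⁻¹ • u) * E Q e u).1 = rPair he hf hef hu * rO hu := by
    rw [Subgroup.coe_mul, Subgroup.coe_mul, E_val he heu, E_val hf (polar_perp_smul hfu _),
      weyl_eq he hf hef heu hfu hu]
  refine ⟨?_, ?_, fun x hex hfx => ?_⟩
  all_goals
    rw [h, oG_mul_apply, rO_apply]
    simp only [rPair, rO_apply, Q_pair he hf hef, polar_comm Q _ u, polar_sub_left, polar_smul_left, smul_eq_mul]
  · simp only [polar_comm Q u e, heu, polar_comm Q u (_ • e + f), polar_add_right, polar_add_left, polar_smul_right,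
      polar_smul_left, polar_self', he, hef, zero_div, zero_smul, sub_zero, smul_eq_mul]
    match_scalars <;> field_simp <;> ring
  · simp only [polar_comm Q u f, hfu, polar_comm Q u (_ • e + f), polar_add_right, polar_add_left, polar_smul_right,
      polar_smul_left, polar_self', hf, polar_comm Q f e, hef, zero_div, zero_smul, sub_zero, smul_eq_mul]
    match_scalars <;> field_simp <;> ring
  · simp only [polar_comm Q u x, polar_add_right, polar_add_left, polar_smul_right, polar_smul_left,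
      polar_comm Q x e, polar_comm Q x f, hex, hfx, polar_comm Q u e, polar_comm Q u f, heu, hfu, smul_eq_mul]
    match_scalars <;> field_simp <;> ring

namespace LF

variable (τ : LF Q) (K : Subgroup (eo Q))

theorem qe_conj_qe (x1 x2 a b : τ.W) (c : F) :
    ∃ c', τ.qe x1 x2 0 * τ.qe a b c * (τ.qe x1 x2 0)⁻¹ = τ.qe a b c' := by
  rw [τ.qe_inv, τ.qe_mul, τ.qe_mul]
  exact ⟨_, by congr 1 <;> abel⟩

theorem conj_qe_z (a b : τ.W) (c d : F) : τ.qe a b d * τ.z c * (τ.qe a b d)⁻¹ = τ.z c := by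
  rw [← τ.z_comm_qe, mul_inv_cancel_right]

theorem betaBad_conj_qe {Z : Submodule F τ.W} (h : τ.BetaBad K Z) (x1 x2 : τ.W) :
    τ.BetaBad (conjO (τ.qe x1 x2 0) K) Z := by
  obtain ⟨h4, h2, hZ, hTS, hS, hl, hI⟩ := h
  set g := τ.qe x1 x2 0 with hg
  have hgP : g ∈ τ.P1 := τ.P2_le (τ.qe_mem_P2 _ _ _)
  have hlg : τ.lam ⟨g, hgP.1⟩ = 1 := τ.lam_eq_one fun w => τ.pr_qe_W _ _ _ _
  have hsg : τ.sl ⟨g, hgP⟩ = 1 := Subtype.ext (τ.mat_P2 (τ.qe_mem_P2 _ _ _))
  have hgi : ∀ c, g⁻¹ * τ.z c * g = τ.z c := fun c => by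
    rw [mul_assoc, τ.z_comm_qe, inv_mul_cancel_left]
  have hqi : ∀ (a b : τ.W) (c : F), ∃ c', g⁻¹ * τ.qe a b c * g = τ.qe a b c' := fun a b c => by
    rw [hg, τ.qe_inv, τ.qe_mul, τ.qe_mul]
    exact ⟨_, by congr 1 <;> abel⟩
  refine ⟨h4, h2, ?_, hTS, fun a b => ?_, fun A => ?_, fun l hl' => ?_⟩
  · rw [AddSubgroup.eq_bot_iff_forall]
    intro c hc
    rw [mem_Zp, mem_conjO, hgi, ← mem_Zp, hZ, AddSubgroup.mem_bot] at hc
    exact hc
  · rw [← hS a b]
    constructor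
    · rintro ⟨c, hc⟩
      obtain ⟨c', e⟩ := hqi a b c
      exact ⟨c', e ▸ mem_conjO.1 hc⟩
    · rintro ⟨c, hc⟩
      obtain ⟨c', e⟩ := τ.qe_conj_qe x1 x2 a b c
      exact ⟨c', e ▸ ⟨_, hc, rfl⟩⟩
  · obtain ⟨u, hu, e, hul⟩ := hl A
    refine ⟨⟨g, hgP⟩ * u * ⟨g, hgP⟩⁻¹, ⟨_, hu, rfl⟩, by rw [map_mul, map_mul, map_inv, hsg, e]; group, ?_⟩
    show τ.lam ((⟨g, hgP.1⟩ : τ.P) * ⟨u.1, u.2.1⟩ * (⟨g, hgP.1⟩ : τ.P)⁻¹) = 1
    rw [map_mul, map_mul, map_inv, hlg, hul, inv_one, one_mul, one_mul]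
  · obtain ⟨k, hk, e⟩ := (τ.mem_I K).1 (hI l hl')
    set g2 : τ.P2 := ⟨g, τ.qe_mem_P2 x1 x2 0⟩ with hg2
    have hl2 : τ.lamR g2 = 1 := τ.lamR_one.2 fun w => τ.pr_qe_W x1 x2 w 0
    have hk' : (g2 * k * g2⁻¹).1 ∈ conjO g K := by
      rw [mem_conjO, Subgroup.coe_mul, Subgroup.coe_mul, Subgroup.coe_inv]
      simpa [hg2, mul_assoc] using hk
    refine (τ.mem_I _).2 ⟨g2 * k * g2⁻¹, hk', ?_⟩
    rw [map_mul, map_mul, map_inv, hl2, e]
    group

theorem conjh_exact {h : τ.P1} (hh : h.1 ∈ τ.M) {b : Fˣ} (eh : τ.sl h = dia b) :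
    h.1.1.1 τ.y1 = (b : F) • τ.y1 ∧ h.1.1.1 τ.y2 = ((b⁻¹ : Fˣ) : F) • τ.y2 ∧ h.1.1.1 τ.f2 = (b : F) • τ.f2 := by
  have mh : τ.mat h.1 = !![(b : F), 0; 0, ((b⁻¹ : Fˣ) : F)] := by rw [← τ.sl_coe, eh, dia_coe]
  have hy1 : h.1.1.1 τ.y1 = (b : F) • τ.y1 := by rw [τ.g_y1 h.2.1, mh]; simp
  have hy2 : h.1.1.1 τ.y2 = ((b⁻¹ : Fˣ) : F) • τ.y2 := by rw [τ.g_y2 h.2.1, mh]; simp
  refine ⟨hy1, hy2, ?_⟩
  rw [τ.fsp_eq (hh.2.2 _ τ.f2_mem)]
  have e1 : polar Q τ.y1 (h.1.1.1 τ.f2) = 0 := by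
    have := polar_map_eo h.1 τ.y1 τ.f2
    rw [hy1, polar_smul_left, τ.h12, smul_eq_mul] at this
    exact (mul_eq_zero.1 this).resolve_left b.ne_zero
  have e2 : polar Q τ.y2 (h.1.1.1 τ.f2) = (b : F) := by
    have := polar_map_eo h.1 τ.y2 τ.f2
    rw [hy2, polar_smul_left, τ.h22, smul_eq_mul, Units.val_inv_eq_inv_val] at this
    exact (inv_mul_eq_one₀ b.ne_zero).1 this |>.symm
  rw [e1, e2]; simp

variable [Finite F] [FiniteDimensional F V]

/-- A normalised torus element inside a conjugate. -/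
theorem beta_normal (hq : 4 ≤ Nat.card F) {Z : Submodule F τ.W} (hβ : τ.BetaBad K Z) :
    ∃ (g : eo Q) (b : Fˣ) (h : τ.P1) (c : F), τ.BetaBad (conjO g K) Z ∧ (b : F) ^ 2 ≠ 1 ∧ h.1 ∈ τ.M ∧
      τ.sl h = dia b ∧ h.1 * τ.z c ∈ conjO g K := by
  obtain ⟨b, hb⟩ := exists_sq_ne_one (F := F) hq
  have hb1 : (b : F) ≠ 1 := fun h => hb (by rw [h, one_pow])
  have hb0 : (b : F) ≠ 0 := b.ne_zero
  obtain ⟨h, hhM, eh⟩ := τ.exists_lev (dia b)
  obtain ⟨k, hk, ek, hkl⟩ := hβ.2.2.2.2.2.1 (dia b)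
  have hk2 : (h⁻¹ * k).1 ∈ τ.P2 := τ.P2_of_mat (h⁻¹ * k).2.1
    (congrArg Subtype.val (show τ.sl (h⁻¹ * k) = 1 by rw [map_mul, map_inv, eh, ek, inv_mul_cancel]))
  obtain ⟨c0, hc0⟩ := τ.eq_qe hk2 (fun w => τ.lam_one_iff.1
    (show τ.lam ((⟨h.1, h.2.1⟩ : τ.P)⁻¹ * ⟨k.1, k.2.1⟩) = 1 by
      rw [map_mul, map_inv, hkl, τ.lam_M hhM, inv_one, one_mul]) w)
  set a0 := (τ.vecOf (h⁻¹ * k).1).1
  set b0 := (τ.vecOf (h⁻¹ * k).1).2
  set x1 : τ.W := (1 - ((b⁻¹ : Fˣ) : F))⁻¹ • a0 with hx1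
  set x2 : τ.W := (1 - (b : F))⁻¹ • b0 with hx2
  have hm : τ.qe x1 x2 0 * k.1 * (τ.qe x1 x2 0)⁻¹ ∈ conjO (τ.qe x1 x2 0) K := ⟨_, hk, rfl⟩
  have hk' : k.1 = h.1 * τ.qe a0 b0 c0 := by
    rw [← hc0]
    show k.1 = h.1 * (h.1⁻¹ * k.1)
    group
  obtain ⟨c, hc⟩ := τ.M_mat (τ.M.inv_mem hhM) x1 x2 0
  have mhi : τ.mat (h.1⁻¹) = !![((b⁻¹ : Fˣ) : F), 0; 0, (b : F)] := by
    have := congrArg (fun A : SL(2, F) => (A : Matrix (Fin 2) (Fin 2) F))
      (show τ.sl h⁻¹ = (dia b)⁻¹ by rw [map_inv, eh])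
    simp only [τ.sl_coe, Matrix.SpecialLinearGroup.coe_inv, Matrix.adjugate_fin_two, dia_coe] at this
    simpa using this
  rw [mhi, inv_inv] at hc
  rw [hk', show τ.qe x1 x2 0 * (h.1 * τ.qe a0 b0 c0) * (τ.qe x1 x2 0)⁻¹ =
      h.1 * ((h.1⁻¹ * τ.qe x1 x2 0 * h.1) * τ.qe a0 b0 c0 * (τ.qe x1 x2 0)⁻¹) by group, hc, τ.qe_inv, τ.qe_mul,
    τ.qe_mul] at hm
  simp only [Matrix.of_apply, Matrix.cons_val', Matrix.cons_val_zero, Matrix.cons_val_one, Matrix.cons_val_fin_one,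
    zero_smul, zero_add, add_zero, neg_zero] at hm
  have e1 : ((b⁻¹ : Fˣ) : F) • x1 + a0 + -x1 = 0 := by
    have h1b : (1 : F) - ((b⁻¹ : Fˣ) : F) ≠ 0 := sub_ne_zero.2 fun e => hb1 (by
      rw [Units.val_inv_eq_inv_val] at e; exact inv_eq_one.1 e.symm)
    rw [hx1]
    match_scalars
    field_simp
    ring
  have e2 : (b : F) • x2 + b0 + -x2 = 0 := by
    have h1b : (1 : F) - b ≠ 0 := sub_ne_zero.2 (Ne.symm hb1)
    rw [hx2]
    match_scalars
    field_simp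
    ring
  rw [e1, e2, τ.qe_z] at hm
  exact ⟨_, b, h, _, τ.betaBad_conj_qe K hβ x1 x2, hb, hhM, eh, hm⟩

/-- In the second configuration the two kinds occur. -/
theorem beta_kinds (hq : 4 ≤ Nat.card F) {Z : Submodule F τ.W} (hβ : τ.BetaBad K Z) :
    ∃ (g : eo Q) (T : Submodule F V) (z0 : V), SingKind (conjO g K) τ.y1 T ∧ z0 ≠ 0 ∧ Q z0 = 0 ∧
      PairKind (conjO g K) z0 := by
  obtain ⟨g, b, h, c2, ⟨h4, h2, hZ, hTS, hS, hl, hI⟩, hb, hhM, eh, hc2⟩ := τ.beta_normal K hq hβ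
  refine ⟨g, ?_⟩
  generalize conjO g K = K' at hZ hS hl hI hc2 ⊢
  obtain ⟨hy1, hy2, hf2⟩ := τ.conjh_exact hhM eh
  have hb1 : (b : F) ≠ 1 := fun h => hb (by rw [h, one_pow])
  have hbi : ((b⁻¹ : Fˣ) : F) ≠ 1 := fun e => hb1 (by
    rw [Units.val_inv_eq_inv_val] at e; exact inv_eq_one.1 e)
  have h1b : (b : F) ^ 2 - 1 ≠ 0 := sub_ne_zero.2 hb
  have hZ' : ∀ c, τ.z c ∈ K' → c = 0 := fun c hc => by
    rw [← mem_Zp, hZ, AddSubgroup.mem_bot] at hc; exact hc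
  have hconjqe : ∀ {a b' : τ.W} {c : F}, τ.qe a b' c ∈ K' →
      h.1 * τ.qe a b' c * h.1⁻¹ ∈ K' := fun {a b' c} hm => by
    have hm' := K'.mul_mem (K'.mul_mem hc2 hm) (K'.inv_mem hc2)
    rwa [show h.1 * τ.z c2 * τ.qe a b' c * (h.1 * τ.z c2)⁻¹ =
        h.1 * (τ.z c2 * τ.qe a b' c * (τ.z c2)⁻¹) * h.1⁻¹ by group, τ.z_comm_qe, mul_inv_cancel_right] at hm'
  have hE1 : ∀ a ∈ Z, E Q τ.y1 ((a : τ.W) : V) ∈ K' := fun a ha => by
    set a' := ((b : F) - 1)⁻¹ • a with ha'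
    obtain ⟨c, hc⟩ := (hS a' 0).2 ⟨Z.smul_mem _ ha, Z.zero_mem⟩
    have hc : τ.qe a' 0 c ∈ K' := hc
    have h2' := K'.mul_mem (hconjqe hc) (K'.inv_mem hc)
    have e : h.1 * τ.qe a' 0 c * h.1⁻¹ = τ.qe ((b : F) • a') 0 c := by
      rw [qe, qe, Submodule.coe_zero, E_zero, mul_one, mul_one,
        show h.1 * (E Q τ.y1 (a' : V) * τ.z c) * h.1⁻¹ =
          (h.1 * E Q τ.y1 (a' : V) * h.1⁻¹) * (h.1 * τ.z c * h.1⁻¹) by group, τ.M_z hhM,
        conj_E _ τ.hy1 (τ.By1 a'), hy1, hhM.2.1, E_smul_left τ.hy1 (τ.By1 a'), Submodule.coe_smul]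
      rfl
    rw [e, τ.qe_inv, τ.qe_mul] at h2'
    simp only [Submodule.coe_zero, polar_zero_left', add_zero, neg_zero] at h2'
    have e' : (b : F) • a' + -a' = a := by
      have : (b : F) - 1 ≠ 0 := sub_ne_zero.2 hb1
      rw [ha']; match_scalars; field_simp; ring
    rw [e', add_neg_cancel, τ.qe_one] at h2'
    exact h2'
  have hE2 : ∀ a ∈ Z, E Q τ.y2 ((a : τ.W) : V) ∈ K' := fun a ha => by
    set a' := (((b⁻¹ : Fˣ) : F) - 1)⁻¹ • a with ha'
    obtain ⟨c, hc⟩ := (hS 0 a').2 ⟨Z.zero_mem, Z.smul_mem _ ha⟩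
    have hc : τ.qe 0 a' c ∈ K' := hc
    have h2' := K'.mul_mem (hconjqe hc) (K'.inv_mem hc)
    have e : h.1 * τ.qe 0 a' c * h.1⁻¹ = τ.qe 0 (((b⁻¹ : Fˣ) : F) • a') c := by
      rw [qe, qe, Submodule.coe_zero, E_zero, one_mul, one_mul,
        show h.1 * (E Q τ.y2 (a' : V) * τ.z c) * h.1⁻¹ =
          (h.1 * E Q τ.y2 (a' : V) * h.1⁻¹) * (h.1 * τ.z c * h.1⁻¹) by group, τ.M_z hhM,
        conj_E _ τ.hy2 (τ.By2 a'), hy2, hhM.2.1, E_smul_left τ.hy2 (τ.By2 a'), Submodule.coe_smul]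
      rfl
    rw [e, τ.qe_inv, τ.qe_mul] at h2'
    simp only [Submodule.coe_zero, polar_zero', add_zero, neg_zero] at h2'
    have e' : ((b⁻¹ : Fˣ) : F) • a' + -a' = a := by
      have : ((b⁻¹ : Fˣ) : F) - 1 ≠ 0 := sub_ne_zero.2 hbi
      rw [ha']; match_scalars; field_simp; ring
    rw [e', add_neg_cancel, τ.qe_two] at h2'
    exact h2'
  have hperp : ∀ s : τ.W, (∀ a ∈ Z, polar τ.QW s a = 0) → s ∈ Z := fun s hs => by
    let B : LinearMap.BilinForm F τ.W := polarBilin τ.QW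
    have hle : Z ≤ B.orthogonal Z := fun x hx y hy => polar_of_ts hTS hy hx
    have hdim := LinearMap.BilinForm.finrank_orthogonal (B := B) τ.nondeg_W Z
    have heq : Z = B.orthogonal Z := Submodule.eq_of_le_of_finrank_eq hle (by omega)
    rw [heq]
    exact fun y hy => by
      show polar τ.QW y s = 0
      rw [polar_comm]; exact hs y hy
  have hqe0 : ∀ {a b' : τ.W}, a ∈ Z → b' ∈ Z → τ.qe a b' 0 ∈ K' := fun {a b'} ha hb' => by
    rw [qe, τ.z_zero, mul_one]; exact K'.mul_mem (hE1 a ha) (hE2 b' hb')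
  -- elements fixing the frame and preserving Z are in the subgroup up to the centre
  have exact_lift : ∀ X : eo Q, X.1.1 τ.y1 = τ.y1 → X.1.1 τ.y2 = τ.y2 →
      (∀ w : τ.W, ∃ w' : τ.W, X.1.1 (w : V) = w') → (∀ a ∈ Z, ∃ a' ∈ Z, X.1.1 ((a : τ.W) : V) = (a' : V)) →
      ∃ c, X * τ.z c ∈ K' := by
    intro X hX1 hX2 hXW hXZ
    have hXP : X ∈ τ.P2 := ⟨hX1, hX2⟩
    obtain ⟨k, hk, ek⟩ := (τ.mem_I K').1 (hI ⟨τ.lam ⟨X, τ.P2_le_P hXP⟩, ⟨⟨X, hXP⟩, rfl⟩⟩ fun a ha => by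
      obtain ⟨a', ha', e⟩ := hXZ a ha
      rw [τ.lam_apply]
      show τ.pr (X.1.1 (a : V)) ∈ Z
      rw [e, τ.pr_W]; exact ha')
    have hP2 : X⁻¹ * k.1 ∈ τ.P2 := τ.P2.mul_mem (τ.P2.inv_mem hXP) k.2
    obtain ⟨c, hc⟩ := τ.eq_qe hP2 (fun w => τ.lam_one_iff.1
      (show τ.lam ((⟨X, τ.P2_le_P hXP⟩ : τ.P)⁻¹ * ⟨k.1, τ.P2_le_P k.2⟩) = 1 by
        have ek' : τ.lam ⟨k.1, τ.P2_le_P k.2⟩ = τ.lam ⟨X, τ.P2_le_P hXP⟩ := congrArg Subtype.val ek
        rw [map_mul, map_inv, ek', inv_mul_cancel]) w)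
    set s1 := (τ.vecOf (X⁻¹ * k.1)).1
    set s2 := (τ.vecOf (X⁻¹ * k.1)).2
    have hk' : k.1 = X * τ.qe s1 s2 c := by rw [← hc]; group
    have hXz : ∀ d, X * τ.z d * X⁻¹ = τ.z d := fun d => by
      rw [τ.conj_z (τ.P2_le_P hXP), τ.mat_P2 hXP, Matrix.det_one, one_mul]
    have hXe : ∀ (p : V), Q p = 0 → X.1.1 p = p → ∀ a ∈ Z, polar Q p ((a : τ.W) : V) = 0 →
        ∃ a' ∈ Z, X * E Q p ((a : τ.W) : V) * X⁻¹ = E Q p ((a' : τ.W) : V) := fun p hp hXp a ha hpa => by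
      obtain ⟨a', ha', e⟩ := hXZ a ha
      exact ⟨a', ha', by rw [conj_E X hp hpa, hXp, e]⟩
    have hs2 : s2 ∈ Z := hperp _ fun a ha => by
      refine hZ' _ ?_
      obtain ⟨a', ha', e⟩ := hXe τ.y1 τ.hy1 hX1 a ha (τ.By1 a)
      have h1 := K'.mul_mem (K'.mul_mem hk (hE1 a ha)) (K'.inv_mem hk)
      rw [hk', show X * τ.qe s1 s2 c * E Q τ.y1 (a : V) * (X * τ.qe s1 s2 c)⁻¹ =
        X * (τ.qe s1 s2 c * E Q τ.y1 (a : V) * (τ.qe s1 s2 c)⁻¹) * X⁻¹ by group] at h1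
      have hcomm : τ.qe s1 s2 c * E Q τ.y1 (a : V) * (τ.qe s1 s2 c)⁻¹ =
          E Q τ.y1 (a : V) * τ.z (polar τ.QW s2 a) := by
        rw [← τ.qe_one, τ.qe_inv, τ.qe_mul, τ.qe_mul, ← τ.qe_z, τ.qe_mul, τ.polar_QW]
        simp only [polar_zero', polar_zero_left', add_zero, zero_add, Submodule.coe_zero, Submodule.coe_neg,
          polar_neg_right]
        congr 1 <;> [abel; abel; ring]
      rw [hcomm, show X * (E Q τ.y1 (a : V) * τ.z (polar τ.QW s2 a)) * X⁻¹ =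
        (X * E Q τ.y1 (a : V) * X⁻¹) * (X * τ.z (polar τ.QW s2 a) * X⁻¹) by group, e, hXz,
        K'.mul_mem_cancel_left (hE1 a' ha')] at h1
      exact h1
    have hs1 : s1 ∈ Z := hperp _ fun a ha => by
      refine neg_eq_zero.1 (hZ' _ ?_)
      obtain ⟨a', ha', e⟩ := hXe τ.y2 τ.hy2 hX2 a ha (τ.By2 a)
      have h1 := K'.mul_mem (K'.mul_mem hk (hE2 a ha)) (K'.inv_mem hk)
      rw [hk', show X * τ.qe s1 s2 c * E Q τ.y2 (a : V) * (X * τ.qe s1 s2 c)⁻¹ =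
        X * (τ.qe s1 s2 c * E Q τ.y2 (a : V) * (τ.qe s1 s2 c)⁻¹) * X⁻¹ by group] at h1
      have hcomm : τ.qe s1 s2 c * E Q τ.y2 (a : V) * (τ.qe s1 s2 c)⁻¹ =
          E Q τ.y2 (a : V) * τ.z (-polar τ.QW s1 a) := by
        rw [← τ.qe_two, τ.qe_inv, τ.qe_mul, τ.qe_mul, ← τ.qe_z, τ.qe_mul, τ.polar_QW, polar_comm Q (s1 : V)]
        simp only [polar_zero', polar_zero_left', add_zero, zero_add, Submodule.coe_zero, Submodule.coe_neg,
          Submodule.coe_add, polar_add_left, polar_neg_right]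
        congr 1 <;> [abel; abel; ring]
      rw [hcomm, show X * (E Q τ.y2 (a : V) * τ.z (-polar τ.QW s1 a)) * X⁻¹ =
        (X * E Q τ.y2 (a : V) * X⁻¹) * (X * τ.z (-polar τ.QW s1 a) * X⁻¹) by group, e, hXz,
        K'.mul_mem_cancel_left (hE2 a' ha')] at h1
      exact h1
    refine ⟨c + polar Q (s2 : V) ((-s1 : τ.W) : V), ?_⟩
    have h1 := K'.mul_mem hk (hqe0 (Z.neg_mem hs1) (Z.neg_mem hs2))
    rw [hk', mul_assoc, τ.qe_mul, add_neg_cancel, add_neg_cancel, add_zero, τ.qe_z] at h1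
    exact h1
  -- the first kind
  have hU : ∀ r : F, E Q τ.y1 (r • τ.f2) ∈ K' := fun r => by
    have hex : ∀ r : F, ∃ c, E Q τ.y1 (r • τ.f2 + c • τ.y2) ∈ K' := fun r => by
      obtain ⟨u, hu, eu, hul⟩ := hl (up r)
      have hU1 := τ.U1_mem r
      have hsU : τ.sl ⟨_, hU1.1⟩ = up r := Subtype.ext (by rw [τ.sl_coe, τ.U1_mat, up_coe])
      have hP2 : ((⟨_, hU1.1⟩ : τ.P1)⁻¹ * u).1 ∈ τ.P2 := τ.P2_of_mat ((⟨_, hU1.1⟩ : τ.P1)⁻¹ * u).2.1
        (congrArg Subtype.val (show τ.sl ((⟨_, hU1.1⟩ : τ.P1)⁻¹ * u) = 1 by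
          rw [map_mul, map_inv, eu, hsU, inv_mul_cancel]))
      obtain ⟨c, hc⟩ := τ.eq_qe hP2 (fun w => τ.lam_one_iff.1
        (show τ.lam ((⟨_, hU1.1.1⟩ : τ.P)⁻¹ * ⟨u.1, u.2.1⟩) = 1 by
          rw [map_mul, map_inv, hul, τ.lam_M hU1, inv_one, one_mul]) w)
      set U1 := E Q τ.y1 (r • τ.f2) with hU1d
      set s1 := (τ.vecOf ((⟨U1, hU1.1⟩ : τ.P1)⁻¹ * u).1).1
      set s2 := (τ.vecOf ((⟨U1, hU1.1⟩ : τ.P1)⁻¹ * u).1).2
      have hu' : u.1 = U1 * τ.qe s1 s2 c := by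
        rw [← hc]
        show u.1 = U1 * (U1⁻¹ * u.1)
        group
      have hUz : ∀ d, U1 * τ.z d * U1⁻¹ = τ.z d := fun d => τ.M_z hU1 d
      have hUe1 : ∀ a : τ.W, U1 * E Q τ.y1 (a : V) * U1⁻¹ = E Q τ.y1 (a : V) := fun a => by
        rw [hU1d, conj_E _ τ.hy1 (τ.By1 a), E_fix τ.hy1 (τ.U1_hw r) τ.s11 (τ.U1_hw r), hU1.2.1]
      have hs2 : s2 ∈ Z := hperp _ fun a ha => by
        refine hZ' _ ?_
        have h1 := K'.mul_mem (K'.mul_mem hu (hE1 a ha)) (K'.inv_mem hu)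
        rw [hu', show U1 * τ.qe s1 s2 c * E Q τ.y1 (a : V) * (U1 * τ.qe s1 s2 c)⁻¹ =
          U1 * (τ.qe s1 s2 c * E Q τ.y1 (a : V) * (τ.qe s1 s2 c)⁻¹) * U1⁻¹ by group] at h1
        have hcomm : τ.qe s1 s2 c * E Q τ.y1 (a : V) * (τ.qe s1 s2 c)⁻¹ =
            E Q τ.y1 (a : V) * τ.z (polar τ.QW s2 a) := by
          rw [← τ.qe_one, τ.qe_inv, τ.qe_mul, τ.qe_mul, ← τ.qe_z, τ.qe_mul, τ.polar_QW]
          simp only [polar_zero', polar_zero_left', add_zero, zero_add, Submodule.coe_zero, Submodule.coe_neg,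
            polar_neg_right]
          congr 1 <;> [abel; abel; ring]
        rw [hcomm, show U1 * (E Q τ.y1 (a : V) * τ.z (polar τ.QW s2 a)) * U1⁻¹ =
          (U1 * E Q τ.y1 (a : V) * U1⁻¹) * (U1 * τ.z (polar τ.QW s2 a) * U1⁻¹) by group, hUe1, hUz,
          K'.mul_mem_cancel_left (hE1 a ha)] at h1
        exact h1
      have hs1 : s1 ∈ Z := hperp _ fun a ha => by
        refine neg_eq_zero.1 (hZ' _ ?_)
        have h1 := K'.mul_mem (K'.mul_mem hu (hE2 a ha)) (K'.inv_mem hu)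
        rw [hu', show U1 * τ.qe s1 s2 c * E Q τ.y2 (a : V) * (U1 * τ.qe s1 s2 c)⁻¹ =
          U1 * (τ.qe s1 s2 c * E Q τ.y2 (a : V) * (τ.qe s1 s2 c)⁻¹) * U1⁻¹ by group] at h1
        have hcomm : τ.qe s1 s2 c * E Q τ.y2 (a : V) * (τ.qe s1 s2 c)⁻¹ =
            E Q τ.y2 (a : V) * τ.z (-polar τ.QW s1 a) := by
          rw [← τ.qe_two, τ.qe_inv, τ.qe_mul, τ.qe_mul, ← τ.qe_z, τ.qe_mul, τ.polar_QW, polar_comm Q (s1 : V)]
          simp only [polar_zero', polar_zero_left', add_zero, zero_add, Submodule.coe_zero, Submodule.coe_neg,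
            Submodule.coe_add, polar_add_left, polar_neg_right]
          congr 1 <;> [abel; abel; ring]
        have hUe2 : U1 * E Q τ.y2 (a : V) * U1⁻¹ = E Q τ.y1 ((r • a : τ.W) : V) * E Q τ.y2 (a : V) := by
          have hra : polar Q (r • τ.y1) ((a : τ.W) : V) = 0 := by rw [polar_smul_left, τ.By1, smul_zero]
          rw [hU1d, conj_E _ τ.hy2 (τ.By2 a), hU1.2.1,
            show (E Q τ.y1 (r • τ.f2)).1.1 τ.y2 = r • τ.y1 + τ.y2 by
              rw [E_apply τ.hy1 (τ.U1_hw r), τ.hyy', polar_smul_right, τ.h22]; simp [add_comm],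
            E_add_left (by rw [Quad.map_smul', τ.hy1, mul_zero]) τ.hy2
              (by rw [polar_smul_left, τ.hyy, smul_zero]) hra (τ.By2 a),
            show Q ((a : τ.W) : V) = 0 from hTS a ha, zero_smul, E_zero, mul_one,
            E_smul_left τ.hy1 (τ.By1 a), Submodule.coe_smul]
        rw [hcomm, show U1 * (E Q τ.y2 (a : V) * τ.z (-polar τ.QW s1 a)) * U1⁻¹ =
          (U1 * E Q τ.y2 (a : V) * U1⁻¹) * (U1 * τ.z (-polar τ.QW s1 a) * U1⁻¹) by group, hUe2, hUz,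
          K'.mul_mem_cancel_left (K'.mul_mem (hE1 _ (Z.smul_mem r ha)) (hE2 a ha))] at h1
        exact h1
      have h1 := K'.mul_mem hu (hqe0 (Z.neg_mem hs1) (Z.neg_mem hs2))
      rw [hu', mul_assoc, τ.qe_mul, add_neg_cancel, add_neg_cancel, add_zero, τ.qe_z, hU1d, z,
        E_add τ.hy1 (τ.U1_hw r) (τ.hz _)] at h1
      exact ⟨_, h1⟩
    set r' := r / ((b : F) ^ 2 - 1) with hr'
    obtain ⟨c, hc⟩ := hex r'
    have hw : polar Q τ.y1 (r' • τ.f2 + c • τ.y2) = 0 := polar_perp_add (τ.U1_hw _) (τ.hz c)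
    have h2' := K'.mul_mem (K'.mul_mem hc2 hc) (K'.inv_mem hc2)
    have hzc : τ.z c2 * E Q τ.y1 (r' • τ.f2 + c • τ.y2) * (τ.z c2)⁻¹ = E Q τ.y1 (r' • τ.f2 + c • τ.y2) := by
      rw [τ.z_comm1 hw, mul_inv_cancel_right]
    rw [show h.1 * τ.z c2 * E Q τ.y1 (r' • τ.f2 + c • τ.y2) * (h.1 * τ.z c2)⁻¹ =
      h.1 * (τ.z c2 * E Q τ.y1 (r' • τ.f2 + c • τ.y2) * (τ.z c2)⁻¹) * h.1⁻¹ by group, hzc, conj_E _ τ.hy1 hw,
      hy1, map_add, map_smul, map_smul, hy2, hf2,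
      E_smul_left τ.hy1 (by simp [polar_add_right, polar_smul_right, τ.h12, τ.hyy]), smul_add, smul_smul, smul_smul,
      smul_smul, smul_smul] at h2'
    have h3 := K'.mul_mem h2' (K'.inv_mem hc)
    rw [E_inv τ.hy1 hw, E_add τ.hy1 (polar_perp_add (τ.U1_hw _) (τ.hz _)) (polar_perp_neg hw)] at h3
    convert h3 using 2
    rw [hr']
    match_scalars <;> field_simp <;> ring
  -- the second kind
  obtain ⟨z0, z1, hz0, hz1, hind⟩ : ∃ z0 z1, z0 ∈ Z ∧ z1 ∈ Z ∧ LinearIndependent F ![z0, z1] := by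
    let bb := finBasisOfFinrankEq F Z h2
    refine ⟨bb 0, bb 1, (bb 0).2, (bb 1).2, ?_⟩
    have := bb.linearIndependent.map' Z.subtype Z.ker_subtype
    have e : (Z.subtype ∘ bb) = ![((bb 0 : Z) : τ.W), ((bb 1 : Z) : τ.W)] := by
      funext i; fin_cases i <;> rfl
    rw [e] at this
    exact this
  have hpol : ∀ {a a' : τ.W}, a ∈ Z → a' ∈ Z → polar τ.QW a a' = 0 := fun ha ha' => polar_of_ts hTS ha ha'
  have hz00 : z0 ≠ 0 := hind.ne_zero 0
  obtain ⟨z1s, hs1, h11, h01⟩ : ∃ z1s, τ.QW z1s = 0 ∧ polar τ.QW z1 z1s = 1 ∧ polar τ.QW z0 z1s = 0 := by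
    have hnm : z1 ∉ Submodule.span F {z0} := fun hc => by
      obtain ⟨a, ha⟩ := Submodule.mem_span_singleton.1 hc
      have := (LinearIndependent.pair_iff.1 hind) a (-1) (by rw [ha]; simp)
      simp at this
    obtain ⟨w, hw, h1w⟩ := exists_perp τ.nondeg_W hnm
    refine ⟨w + (-τ.QW w) • z1, ?_, ?_, ?_⟩
    · rw [map_add_smul, hTS z1 hz1, polar_comm τ.QW w, h1w]; ring
    · rw [polar_add_right, h1w, polar_smul_right, hpol hz1 hz1, smul_zero, add_zero]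
    · rw [polar_add_right, hw z0 (Submodule.mem_span_singleton_self _), polar_smul_right, hpol hz0 hz1, smul_zero,
        add_zero]
  obtain ⟨z0s, hs0, h00, h10, hss⟩ : ∃ z0s, τ.QW z0s = 0 ∧ polar τ.QW z0 z0s = 1 ∧ polar τ.QW z1 z0s = 0 ∧
      polar τ.QW z1s z0s = 0 := by
    have hnm : z0 ∉ Submodule.span F {z1, z1s} := fun hc => by
      obtain ⟨a, a', ha⟩ := Submodule.mem_span_pair.1 hc
      have h' := congrArg (fun v => polar τ.QW z1 v) ha
      simp [polar_add_right, polar_smul_right, hpol hz1 hz1, hpol hz1 hz0, h11] at h'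
      rw [h', zero_smul, add_zero] at ha
      have := (LinearIndependent.pair_iff.1 hind) (-1) a (by rw [ha]; simp)
      simp at this
    obtain ⟨w, hw, h0w⟩ := exists_perp τ.nondeg_W hnm
    refine ⟨w + (-τ.QW w) • z0, ?_, ?_, ?_, ?_⟩
    · rw [map_add_smul, hTS z0 hz0, polar_comm τ.QW w, h0w]; ring
    · rw [polar_add_right, h0w, polar_smul_right, hpol hz0 hz0, smul_zero, add_zero]
    · rw [polar_add_right, hw z1 (Submodule.subset_span (by simp)), polar_smul_right, hpol hz1 hz0, smul_zero,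
        add_zero]
    · rw [polar_add_right, hw z1s (Submodule.subset_span (by simp)), polar_smul_right, polar_comm τ.QW z1s, h01,
        smul_zero, add_zero]
  have q0 : Q (z0 : V) = 0 := hTS z0 hz0
  -- Siegel transformations of the complement as lifts
  have hWmap : ∀ {X : eo Q}, X.1.1 τ.y1 = τ.y1 → X.1.1 τ.y2 = τ.y2 → X.1.1 τ.f1 = τ.f1 → X.1.1 τ.f2 = τ.f2 →
      ∀ w : τ.W, ∃ w' : τ.W, X.1.1 (w : V) = w' := fun {X} e1 e2 e3 e4 w => by
    refine ⟨⟨_, τ.mem_W.2 ⟨⟨?_, ?_⟩, ?_, ?_⟩⟩, rfl⟩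
    · conv_lhs => rw [← e1]
      rw [polar_map_eo]; exact τ.By1 w
    · conv_lhs => rw [← e2]
      rw [polar_map_eo]; exact τ.By2 w
    · conv_lhs => rw [← e3]
      rw [polar_map_eo]; exact τ.Bf1 w
    · conv_lhs => rw [← e4]
      rw [polar_map_eo]; exact τ.Bf2 w
  have hfixE : ∀ (e u : τ.W), τ.QW e = 0 → polar τ.QW e u = 0 → ∀ x : V,
      (x = τ.y1 ∨ x = τ.y2 ∨ x = τ.f1 ∨ x = τ.f2) → (E Q (e : V) (u : V)).1.1 x = x := fun e u he heu x hx => by
    rcases hx with rfl | rfl | rfl | rfl <;>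
      refine E_fix (show Q (e : V) = 0 from he) (show polar Q (e : V) (u : V) = 0 from heu) ?_ ?_ <;>
      first | exact τ.By1 _ | exact τ.By2 _ | exact τ.Bf1 _ | exact τ.Bf2 _
  have hroot : ∀ (w : τ.W) (u : τ.W), τ.QW w = 0 → polar τ.QW z0 w = 0 → τ.QW u = (b : F) →
      polar τ.QW z0 u = 0 → polar τ.QW z0s u = 0 →
      (∀ u1 : τ.W, u1 = z1 + z1s → polar τ.QW w u1 = 1 ∧
        (w : V) + (-1 : F) • (u1 : V) + (-(polar Q ((w : V) + (-1 : F) • (u1 : V)) (u : V) / b)) • (u : V) =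
          (b : F) • (w : V)) →
      (∃ l : F, (z1 : V) + (-1 : F) • ((z1 + z1s : τ.W) : V) +
        (-(polar Q ((z1 : V) + (-1 : F) • ((z1 + z1s : τ.W) : V)) (u : V) / b)) • (u : V) = l • (z1 : V)) →
      ∃ t : F, t ≠ 0 ∧ E Q (z0 : V) (t • (w : V)) ∈ K' := by
    intro w u hw hw0 hu hu0 hu0s hu1 hz1im
    obtain ⟨hwu1, hwim⟩ := hu1 _ rfl
    set u1 : τ.W := z1 + z1s with hu1d
    have q0s : Q (z0s : V) = 0 := hs0
    have p00 : polar Q (z0 : V) (z0s : V) = 1 := h00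
    have hu1v : Q (u1 : V) = 1 := by
      show τ.QW u1 = 1
      rw [hu1d, map_add', hTS z1 hz1, hs1, h11]; ring
    have hu10 : polar Q (z0 : V) (u1 : V) = 0 := by
      show polar τ.QW z0 u1 = 0
      rw [hu1d, polar_add_right, hpol hz0 hz1, h01, add_zero]
    have hu10s : polar Q (z0s : V) (u1 : V) = 0 := by
      show polar τ.QW z0s u1 = 0
      rw [hu1d, polar_add_right, polar_comm τ.QW z0s, h10, polar_comm τ.QW z0s, hss, add_zero]
    have huv : Q (u : V) = (b : F) := hu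
    have hu0s' : polar Q (z0s : V) (u : V) = 0 := hu0s
    have hw0' : polar Q (z0 : V) (w : V) = 0 := hw0
    obtain ⟨a1, a2, a3⟩ := swap_apply (e := (z0 : V)) q0 q0s p00 hu10 hu10s (by rw [hu1v]; exact one_ne_zero)
    obtain ⟨b1, b2, b3⟩ := swap_apply (e := (z0 : V)) q0 q0s p00 hu0 hu0s (by rw [huv]; exact b.ne_zero)
    rw [hu1v] at a1 a2 a3
    rw [huv] at b1 b2 b3
    simp only [inv_one, one_smul, div_one] at a1 a2 a3
    set Xu := E Q (z0 : V) (u : V) * E Q (z0s : V) ((b : F)⁻¹ • (u : V)) * E Q (z0 : V) (u : V)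
    set Xu1 := E Q (z0 : V) (u1 : V) * E Q (z0s : V) (u1 : V) * E Q (z0 : V) (u1 : V)
    set T := Xu * Xu1 with hT
    have hTz0 : T.1.1 (z0 : V) = (b : F) • (z0 : V) := by
      rw [hT, mul_apply_eo, a1, map_smul, b2, smul_smul]; simp
    have hTw : T.1.1 (w : V) = (b : F) • (w : V) := by
      have hw0s : polar Q (z0s : V) (w : V) = 0 := by
        have h := b3 (w : V)
        have h' := congrArg (polar Q (z0s : V)) hwim
        simp only [polar_add_right, polar_smul_right, hu10s, hu0s', smul_eq_mul, mul_zero, add_zero] at h'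
        have h1b' : (b : F) - 1 ≠ 0 := sub_ne_zero.2 hb1
        have : ((b : F) - 1) * polar Q (z0s : V) (w : V) = 0 := by linear_combination -h'
        exact (mul_eq_zero.1 this).resolve_left h1b'
      rw [hT, mul_apply_eo, a3 _ hw0 hw0s, show polar Q (w : V) (u1 : V) = 1 from hwu1,
        b3 _ (by rw [polar_add_right, polar_smul_right, hu10, show polar Q (z0 : V) (w : V) = 0 from hw0]; simp)
          (by rw [polar_add_right, polar_smul_right, hu10s, hw0s]; simp)]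
      exact hwim
    have hXfix : ∀ x : V, (x = τ.y1 ∨ x = τ.y2 ∨ x = τ.f1 ∨ x = τ.f2) → T.1.1 x = x := fun x hx => by
      have e1 := hfixE z0 u (hTS z0 hz0) hu0 x hx
      have e2 := hfixE z0s ((b : F)⁻¹ • u) hs0 (polar_perp_smul hu0s _) x hx
      have e3 := hfixE z0 u1 (hTS z0 hz0) hu10 x hx
      have e4 := hfixE z0s u1 hs0 hu10s x hx
      rw [Submodule.coe_smul] at e2
      simp only [hT, Xu, Xu1, mul_apply_eo, e1, e2, e3, e4]
    have hz11 : polar Q (z1 : V) (u1 : V) = 1 := by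
      show polar τ.QW z1 u1 = 1
      rw [hu1d, polar_add_right, hpol hz1 hz1, h11, zero_add]
    have hTZ : ∀ a ∈ Z, ∃ a' ∈ Z, T.1.1 ((a : τ.W) : V) = (a' : V) := fun a ha => by
      obtain ⟨l, hl'⟩ := hz1im
      have hTz1 : T.1.1 (z1 : V) = l • (z1 : V) := by
        have p1 : polar Q (z0 : V) (z1 : V) = 0 := hpol hz0 hz1
        have p2 : polar Q (z0s : V) (z1 : V) = 0 := by rw [polar_comm]; exact h10
        rw [hT, mul_apply_eo, a3 _ p1 p2, hz11,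
          b3 _ (by rw [polar_add_right, polar_smul_right, hu10, p1]; simp)
            (by rw [polar_add_right, polar_smul_right, hu10s, p2]; simp)]
        exact hl'
      have hspan : Submodule.span F {z0, z1} = Z := Submodule.eq_of_le_of_finrank_eq
        (Submodule.span_le.2 (by intro x hx; rcases hx with rfl | rfl <;> assumption)) (by
          rw [h2, show ({z0, z1} : Set τ.W) = Set.range ![z0, z1] by simp [Set.pair_comm],
            finrank_span_eq_card hind, Fintype.card_fin])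
      rw [← hspan] at ha
      obtain ⟨x, x', rfl⟩ := Submodule.mem_span_pair.1 ha
      refine ⟨(x * b) • z0 + (x' * l) • z1, Z.add_mem (Z.smul_mem _ hz0) (Z.smul_mem _ hz1), ?_⟩
      rw [Submodule.coe_add, Submodule.coe_smul, Submodule.coe_smul, map_add, map_smul, map_smul, hTz0, hTz1,
        smul_smul, smul_smul, Submodule.coe_add, Submodule.coe_smul, Submodule.coe_smul]
    obtain ⟨cT, hcT⟩ := exact_lift T (hXfix _ (Or.inl rfl)) (hXfix _ (by simp))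
      (hWmap (hXfix _ (Or.inl rfl)) (hXfix _ (by simp)) (hXfix _ (by simp)) (hXfix _ (by simp))) hTZ
    set X := E Q (z0 : V) (w : V) with hX
    have hXf : ∀ x : V, (x = τ.y1 ∨ x = τ.y2 ∨ x = τ.f1 ∨ x = τ.f2) → X.1.1 x = x :=
      hfixE z0 w (hTS z0 hz0) hw0
    obtain ⟨cX, hcX⟩ := exact_lift X (hXf _ (Or.inl rfl)) (hXf _ (by simp))
      (hWmap (hXf _ (Or.inl rfl)) (hXf _ (by simp)) (hXf _ (by simp)) (hXf _ (by simp))) fun a ha => by
        refine ⟨a + polar τ.QW a w • z0, Z.add_mem ha (Z.smul_mem _ hz0), ?_⟩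
        rw [hX, E_apply q0 hw0, show polar Q (a : V) (z0 : V) = 0 from hpol ha hz0]
        simp [τ.polar_QW]
    have hTP : T ∈ τ.P := τ.P2_le_P ⟨hXfix _ (Or.inl rfl), hXfix _ (by simp)⟩
    have hXP : X ∈ τ.P := τ.P2_le_P ⟨hXf _ (Or.inl rfl), hXf _ (by simp)⟩
    have hzT : ∀ d, T * τ.z d * T⁻¹ = τ.z d := fun d => by
      rw [τ.conj_z hTP, τ.mat_P2 ⟨hXfix _ (Or.inl rfl), hXfix _ (by simp)⟩, Matrix.det_one, one_mul]
    have hzX : ∀ d, X * τ.z d * X⁻¹ = τ.z d := fun d => by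
      rw [τ.conj_z hXP, τ.mat_P2 ⟨hXf _ (Or.inl rfl), hXf _ (by simp)⟩, Matrix.det_one, one_mul]
    have h1 := K'.mul_mem (K'.mul_mem (K'.mul_mem hcT hcX) (K'.inv_mem hcT)) (K'.inv_mem hcX)
    have key : T * τ.z cT * (X * τ.z cX) * (T * τ.z cT)⁻¹ * (X * τ.z cX)⁻¹ = T * X * T⁻¹ * X⁻¹ := by
      have c1 : τ.z cT * X = X * τ.z cT := by
        conv_lhs => rw [← hzX cT]
        group
      have c2 : τ.z cX * T⁻¹ = T⁻¹ * τ.z cX := by
        conv_rhs => rw [← hzT cX]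
        group
      calc T * τ.z cT * (X * τ.z cX) * (T * τ.z cT)⁻¹ * (X * τ.z cX)⁻¹
          = T * (τ.z cT * X) * (τ.z cX * (τ.z cT)⁻¹) * T⁻¹ * (τ.z cX)⁻¹ * X⁻¹ := by group
        _ = T * X * (τ.z cT * (τ.z cX * (τ.z cT)⁻¹)) * T⁻¹ * (τ.z cX)⁻¹ * X⁻¹ := by rw [c1]; group
        _ = T * X * (τ.z cX * T⁻¹) * (τ.z cX)⁻¹ * X⁻¹ := by
            rw [← τ.z_neg, ← τ.z_add, ← τ.z_add, show cT + (cX + -cT) = cX by ring]
            group
        _ = _ := by rw [c2]; group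
    rw [key, hX, conj_E T q0 hw0', hTz0, hTw, E_inv q0 hw0',
      E_smul_left q0 (polar_perp_smul hw0' _), E_add q0 (polar_perp_smul (polar_perp_smul hw0' _) _)
      (polar_perp_neg hw0')] at h1
    refine ⟨(b : F) ^ 2 - 1, h1b, ?_⟩
    convert h1 using 2
    rw [pow_two]; module
  obtain ⟨t1, ht1, m1⟩ := hroot z1 ((b : F) • z1 + z1s) (hTS z1 hz1) (hpol hz0 hz1)
    (by rw [map_add', Quad.map_smul', hTS z1 hz1, hs1, polar_smul_left, h11, smul_eq_mul]; ring)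
    (by rw [polar_add_right, polar_smul_right, hpol hz0 hz1, h01]; simp)
    (by rw [polar_add_right, polar_smul_right, polar_comm τ.QW z0s, h10, polar_comm τ.QW z0s, hss]; simp)
    (fun u1 hu1 => by
      subst hu1
      refine ⟨by rw [polar_add_right, hpol hz1 hz1, h11, zero_add], ?_⟩
      have e : polar Q (((z1 : τ.W) : V) + (-1 : F) • ((z1 + z1s : τ.W) : V)) (((b : F) • z1 + z1s : τ.W) : V) =
          -(b : F) := by
        show polar τ.QW (z1 + (-1 : F) • (z1 + z1s)) ((b : F) • z1 + z1s) = _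
        simp [polar_add_left, polar_add_right, polar_smul_right, polar_comm τ.QW z1s z1,
          hpol hz1 hz1, h11, polar_self', hs1]
      rw [e, Submodule.coe_add, Submodule.coe_add, Submodule.coe_smul]
      have hb0 := b.ne_zero
      match_scalars <;> field_simp <;> ring)
    ⟨(b : F), by
      have e : polar Q (((z1 : τ.W) : V) + (-1 : F) • ((z1 + z1s : τ.W) : V)) (((b : F) • z1 + z1s : τ.W) : V) =
          -(b : F) := by
        show polar τ.QW (z1 + (-1 : F) • (z1 + z1s)) ((b : F) • z1 + z1s) = _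
        simp [polar_add_left, polar_add_right, polar_smul_right, polar_comm τ.QW z1s z1,
          hpol hz1 hz1, h11, polar_self', hs1]
      rw [e, Submodule.coe_add, Submodule.coe_add, Submodule.coe_smul]
      have hb0 := b.ne_zero
      match_scalars <;> field_simp <;> ring⟩
  obtain ⟨t2, ht2, m2⟩ := hroot z1s (z1 + (b : F) • z1s) hs1 h01
    (by rw [map_add', Quad.map_smul', hTS z1 hz1, hs1, polar_smul_right, h11, smul_eq_mul]; ring)
    (by rw [polar_add_right, polar_smul_right, hpol hz0 hz1, h01]; simp)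
    (by rw [polar_add_right, polar_smul_right, polar_comm τ.QW z0s, h10, polar_comm τ.QW z0s, hss]; simp)
    (fun u1 hu1 => by
      subst hu1
      refine ⟨by rw [polar_add_right, polar_comm τ.QW z1s, h11, polar_self', hs1]; simp, ?_⟩
      have e : polar Q (((z1s : τ.W) : V) + (-1 : F) • ((z1 + z1s : τ.W) : V)) ((z1 + (b : F) • z1s : τ.W) : V) =
          -(b : F) := by
        show polar τ.QW (z1s + (-1 : F) • (z1 + z1s)) (z1 + (b : F) • z1s) = _
        simp [polar_add_left, polar_add_right, polar_smul_right, polar_comm τ.QW z1s z1,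
          hpol hz1 hz1, h11, polar_self', hs1]
      rw [e, Submodule.coe_add, Submodule.coe_add, Submodule.coe_smul]
      have hb0 := b.ne_zero
      match_scalars <;> field_simp <;> ring)
    ⟨(b : F)⁻¹, by
      have e : polar Q (((z1 : τ.W) : V) + (-1 : F) • ((z1 + z1s : τ.W) : V)) ((z1 + (b : F) • z1s : τ.W) : V) =
          -1 := by
        show polar τ.QW (z1 + (-1 : F) • (z1 + z1s)) (z1 + (b : F) • z1s) = _
        simp [polar_add_left, polar_add_right, polar_smul_right, polar_comm τ.QW z1s z1,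
          hpol hz1 hz1, h11, polar_self', hs1]
      rw [e, Submodule.coe_add, Submodule.coe_add, Submodule.coe_smul]
      have hb0 := b.ne_zero
      match_scalars <;> field_simp <;> ring⟩
  refine ⟨Submodule.span F {τ.y1, τ.f2} ⊔ Z.map τ.W.subtype, z0, ⟨?_, ?_, ?_, ?_⟩,
    fun h0 => hz00 (Subtype.ext h0), q0, t1 • (z1 : V), t2 • (z1s : V),
    polar_perp_smul (show polar Q (z0 : V) (z1 : V) = 0 from hpol hz0 hz1) _,
    polar_perp_smul (show polar Q (z0 : V) (z1s : V) = 0 from h01) _, m1, m2, by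
      rw [polar_smul_left, polar_smul_right, show polar Q (z1 : V) (z1s : V) = 1 from h11]
      simp [ht1, ht2]⟩
  · exact Submodule.mem_sup_left (Submodule.subset_span (by simp))
  · intro w hw
    obtain ⟨p, hp, _, ⟨a, ha, rfl⟩, rfl⟩ := Submodule.mem_sup.1 hw
    obtain ⟨x, x', rfl⟩ := Submodule.mem_span_pair.1 hp
    simp only [Submodule.subtype_apply]
    rw [map_add', map_add', Quad.map_smul', Quad.map_smul', τ.hy1, τ.hf2, show Q (a : V) = 0 from hTS a ha,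
      polar_add_left, polar_smul_left, polar_smul_left, polar_smul_left, polar_smul_right, τ.h12, τ.By1, τ.Bf2]
    simp
  · have hdisj : Submodule.span F {τ.y1, τ.f2} ⊓ Z.map τ.W.subtype = ⊥ := by
      rw [Submodule.eq_bot_iff]
      rintro x ⟨hx, a, ha, rfl⟩
      obtain ⟨p, p', hpq⟩ := Submodule.mem_span_pair.1 hx
      simp only [Submodule.subtype_apply] at hpq ⊢
      have e1 := congrArg (polar Q τ.f1) hpq
      have e2 := congrArg (polar Q τ.y2) hpq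
      simp [polar_add_right, polar_smul_right, τ.h11', τ.hff, τ.Bf1, τ.hyy', τ.h22, τ.By2] at e1 e2
      rw [← hpq, e1, e2]; simp
    have hlin : LinearIndependent F ![τ.y1, τ.f2] := by
      rw [LinearIndependent.pair_iff]
      intro p p' hpq
      have e1 := congrArg (polar Q τ.f1) hpq
      have e2 := congrArg (polar Q τ.y2) hpq
      simp [polar_add_right, polar_smul_right, τ.h11', τ.hff, τ.hyy', τ.h22] at e1 e2
      exact ⟨e1, e2⟩
    have h := Submodule.finrank_sup_add_finrank_inf_eq (Submodule.span F {τ.y1, τ.f2}) (Z.map τ.W.subtype)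
    have hs2' : finrank F (Submodule.span F {τ.y1, τ.f2}) = 2 := by
      rw [show ({τ.y1, τ.f2} : Set V) = Set.range ![τ.y1, τ.f2] by simp [Set.pair_comm], finrank_span_eq_card hlin,
        Fintype.card_fin]
    rw [hdisj, finrank_bot, add_zero, ← (Submodule.equivMapOfInjective _ τ.W.injective_subtype Z).finrank_eq, h2,
      hs2'] at h
    exact h
  · intro w hw
    set a := τ.pr w with ha
    set t := polar Q τ.f2 w
    set r := polar Q τ.y2 w
    set s := polar Q τ.f1 w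
    have e : w = (a : V) + r • τ.f2 + t • τ.y2 + s • τ.y1 := by
      conv_lhs => rw [τ.decomp w, hw]
      simp [ha, t, r, s]; abel
    have h1 : polar Q τ.y1 ((a : V) + r • τ.f2) = 0 := polar_perp_add (τ.By1 a) (τ.U1_hw r)
    have hk : E Q τ.y1 w = E Q τ.y1 (r • τ.f2) * τ.qe a 0 t := by
      rw [qe, Submodule.coe_zero, E_zero, mul_one, z, E_add τ.hy1 (τ.By1 a) (τ.hz t),
        E_add τ.hy1 (τ.U1_hw r) (polar_perp_add (τ.By1 a) (τ.hz t))]
      conv_lhs => rw [e, E_add_self τ.hy1 (polar_perp_add h1 (τ.hz t))]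
      congr 1; abel
    rw [hk, K'.mul_mem_cancel_left (hU r)]
    constructor
    · intro hm
      have haZ : a ∈ Z := ((hS a 0).1 ⟨t, hm⟩).1
      rw [qe, Submodule.coe_zero, E_zero, mul_one, K'.mul_mem_cancel_left (hE1 a haZ)] at hm
      rw [e, hZ' t hm, zero_smul, add_zero]
      refine Submodule.add_mem _ (Submodule.add_mem _ (Submodule.mem_sup_right ⟨a, haZ, rfl⟩) ?_) ?_ <;>
        exact Submodule.mem_sup_left (Submodule.smul_mem _ _ (Submodule.subset_span (by simp)))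
    · intro hm
      obtain ⟨p, hp, _, ⟨a', ha', rfl⟩, hsum⟩ := Submodule.mem_sup.1 hm
      obtain ⟨x, x', rfl⟩ := Submodule.mem_span_pair.1 hp
      have e1 : t = 0 := by
        have := congrArg (polar Q τ.f2) hsum
        simp [polar_add_right, polar_smul_right, τ.h12', τ.t22, τ.Bf2] at this
        exact this.symm
      have e2 : a = a' := by
        rw [ha, ← hsum]
        simp [τ.pr_y1, τ.pr_f2, τ.pr_W]
      rw [qe, Submodule.coe_zero, E_zero, mul_one, e1, τ.z_zero, mul_one, e2]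
      exact hE1 a' ha'

end LF

end Cfsg.Agent.MinIndexForm.O
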