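import Cfsg.Agent.MinIndexForm.O.Beta

/-!
Orbits of maximal totally singular subspaces in dimension six, and the bound on the index in dimension eight when
the second pair of kinds occurs.
-/

set_option autoImplicit false

namespace Cfsg.Agent.MinIndexForm.O

open Cfsg.Agent.Classical Cfsg.Agent.Classical.Quad Module QuadraticMap

universe uF uV

/-- The number of singular points of a hyperbolic space of dimension twice the argument. -/
def plusPts (q : ℕ) : ℕ → ℕ
  | 0 => 0
  | k + 1 => q * plusPts q k + q ^ (2 * k) + 1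

variable {F : Type uF} [Field F] [Finite F]

section Space

variable {U : Type uV} [AddCommGroup U] [Module F U] [FiniteDimensional F U] {R : QuadraticForm F U}

omit [Finite F] in
theorem finrank_inter {X : Submodule F U} (hX : ∀ x ∈ X, ∀ y ∈ X, polar R x y = 0) {e x0 : U}
    (hex : polar R e x0 = 1) (hx0 : x0 ∈ X) :
    finrank F (X.comap (perpPair R e x0).subtype) + 1 = finrank F X := by
  let φ : X →ₗ[F] F := (polarBilin R e).domRestrict X
  have hs : LinearMap.range φ = ⊤ := LinearMap.range_eq_top.2 fun c =>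
    ⟨c • ⟨x0, hx0⟩, by simp [φ, polar_smul_right, hex]⟩
  have h := φ.finrank_range_add_finrank_ker
  rw [hs, finrank_top, Module.finrank_self] at h
  have e' : X.comap (perpPair R e x0).subtype ≃ₗ[F] LinearMap.ker φ :=
    { toFun := fun x => ⟨⟨((x : perpPair R e x0) : U), x.2⟩, (mem_perpPair.1 (x : perpPair R e x0).2).1⟩
      map_add' := fun x y => rfl
      map_smul' := fun c x => rfl
      invFun := fun x => ⟨⟨((x : X) : U), mem_perpPair.2 ⟨x.2, hX _ hx0 _ (x : X).2⟩⟩, (x : X).2⟩
      left_inv := fun x => rfl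
      right_inv := fun x => rfl }
  rw [e'.finrank_eq]
  omega

omit [Finite F] in
theorem pair_isotropic {X : Submodule F U} (hX : ∀ x ∈ X, R x = 0) {x y : U} (hx : x ∈ X) (hy : y ∈ X) :
    polar R x y = 0 := by
  rw [polar, hX _ (X.add_mem hx hy), hX x hx, hX y hy, sub_zero, sub_zero]

/-- A hyperbolic space. -/
theorem pts_plus : ∀ (k : ℕ) {U : Type uV} [AddCommGroup U] [Module F U] [FiniteDimensional F U]
    {R : QuadraticForm F U}, (polarBilin R).Nondegenerate → finrank F U = 2 * k →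
    ∀ X : Submodule F U, (∀ x ∈ X, R x = 0) → finrank F X = k → Nat.card (SPt R) = plusPts (Nat.card F) k := by
  intro k
  induction k with
  | zero =>
    intro U _ _ _ R hR hd X hX hXd
    have : Subsingleton U := Module.finrank_zero_iff.1 (by simpa using hd)
    have : IsEmpty (SPt R) := ⟨fun p => p.1.rep_nonzero (Subsingleton.elim _ _)⟩
    rw [Nat.card_of_isEmpty]; rfl
  | succ k ih =>
    intro U _ _ _ R hR hd X hX hXd
    have : Nontrivial X := Module.nontrivial_of_finrank_pos (R := F) (by omega)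
    obtain ⟨⟨x0, hx0⟩, hne⟩ := exists_ne (0 : X)
    have hne' : x0 ≠ 0 := fun h0 => hne (Subtype.ext h0)
    obtain ⟨e, he, hxe⟩ := exists_hyp_pair hR hne' (hX x0 hx0)
    have hex : polar R e x0 = 1 := by rw [polar_comm, hxe]
    have hdim := finrank_perpPair (Q := R) he (hX x0 hx0) hex
    have hrec := pts_rec he (hX x0 hx0) hex (k := 2 * k) (by omega)
    have hD := finrank_inter (R := R) (fun x hx y hy => pair_isotropic hX hx hy) hex hx0
    rw [hrec, ih (nondeg_restrictPair hR he (hX x0 hx0) hex) (by omega)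
      (X.comap (perpPair R e x0).subtype) (fun x hx => hX _ hx) (by omega), plusPts]

/-- The orbit of a totally isotropic subspace. -/
theorem card_orbit_ge (hR : (polarBilin R).Nondegenerate) (hd : 3 ≤ finrank F U) (X : Submodule F U)
    (hX : ∀ x ∈ X, ∀ y ∈ X, polar R x y = 0) {x0 : U} (hx0 : x0 ≠ 0) (hxs : R x0 = 0) (hxX : x0 ∈ X) :
    Nat.card F ^ (finrank F U - 1 - finrank F X) + 1 ≤
      Nat.card {X' : Submodule F U // ∃ l ∈ eo R, X' = X.map (l.1 : U →ₗ[F] U)} := by
  have : Finite U := Module.finite_of_finite F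
  have : Finite (Submodule F U) := Finite.of_injective _ SetLike.coe_injective
  have := finite_eo (Q := R)
  let St : Subgroup (eo R) :=
    { carrier := {l | ∀ x ∈ X, l.1.1 x ∈ X}
      one_mem' := fun x hx => hx
      mul_mem' := fun {a b} ha hb x hx => ha _ (hb x hx)
      inv_mem' := fun {a} ha x hx => by
        have hmap : X.map (a.1.1 : U →ₗ[F] U) = X :=
          Submodule.eq_of_le_of_finrank_eq (Submodule.map_le_iff_le_comap.2 ha)
            (Submodule.equivMapOfInjective _ a.1.1.injective _).finrank_eq.symm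
        rw [← hmap] at hx
        obtain ⟨y, hy, rfl⟩ := hx
        show (a⁻¹).1.1 (a.1.1 y) ∈ X
        rw [inv_apply_eo]; exact hy }
  refine (index_stab_ge hR hd le_rfl X hX hx0 hxs hxX St fun l hl => hl).trans ?_
  refine Nat.card_le_card_of_injective (fun c => ⟨_, c.out.1, c.out.2, rfl⟩) fun c c' e => ?_
  have e' : X.map (c.out.1.1 : U →ₗ[F] U) = X.map (c'.out.1.1 : U →ₗ[F] U) := congrArg Subtype.val e
  rw [← c.out_eq, ← c'.out_eq]
  refine QuotientGroup.eq.2 fun x hx => ?_
  have hmem : c'.out.1.1 x ∈ X.map (c.out.1.1 : U →ₗ[F] U) := e' ▸ Submodule.mem_map_of_mem hx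
  obtain ⟨y, hy, hyx⟩ := hmem
  show (c.out⁻¹ * c'.out).1.1 x ∈ X
  rw [mul_apply_eo, ← show c.out.1.1 y = c'.out.1.1 x from hyx, inv_apply_eo]
  exact hy

/-- The orbit of a maximal totally singular subspace in dimension six. -/
theorem card_plane_orbit (hR : (polarBilin R).Nondegenerate) (hd : finrank F U = 6) (X : Submodule F U)
    (hX : ∀ x ∈ X, R x = 0) (hXd : finrank F X = 3) :
    (Nat.card F + 1) * (Nat.card F ^ 2 + 1) ≤
      Nat.card {X' : Submodule F U // ∃ l ∈ eo R, X' = X.map (l.1 : U →ₗ[F] U)} := by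
  classical
  have : Finite U := Module.finite_of_finite F
  have : Finite (Submodule F U) := Finite.of_injective _ SetLike.coe_injective
  have : Nontrivial X := Module.nontrivial_of_finrank_pos (R := F) (by omega)
  obtain ⟨⟨x0, hx0⟩, hne⟩ := exists_ne (0 : X)
  have hne' : x0 ≠ 0 := fun h0 => hne (Subtype.ext h0)
  have hxs := hX x0 hx0
  obtain ⟨e, he, hxe⟩ := exists_hyp_pair hR hne' hxs
  have hex : polar R e x0 = 1 := by rw [polar_comm, hxe]
  have hdim := finrank_perpPair (Q := R) he hxs hex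
  set C0 := perpPair R e x0 with hC0
  set R0 := restrictPair R e x0 with hR0
  set D := X.comap C0.subtype with hD
  have hdim' : finrank F U = 2 + finrank F C0 := hdim
  have hDd : finrank F D = 2 := by
    have := finrank_inter (R := R) (fun x hx y hy => pair_isotropic hX hx hy) hex hx0
    rw [← hC0, ← hD] at this
    omega
  have hR0nd := nondeg_restrictPair hR he hxs hex
  have : Nontrivial D := Module.nontrivial_of_finrank_pos (R := F) (by omega)
  obtain ⟨⟨d0, hd0⟩, hd0ne⟩ := exists_ne (0 : D)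
  have hO := card_orbit_ge hR0nd (by show 3 ≤ finrank F C0; omega) D
    (fun x hx y hy => pair_isotropic (R := R) hX (x := (x : U)) (y := (y : U)) hx hy)
    (x0 := d0) (fun h0 => hd0ne (Subtype.ext h0)) (hX _ hd0) hd0
  rw [show finrank F C0 - 1 - finrank F D = 1 by omega, pow_one] at hO
  set O := {D' : Submodule F C0 // ∃ l ∈ eo R0, D' = D.map (l.1 : C0 →ₗ[F] C0)}
  have hlift : ∀ o : O, ∃ g : eo R, g.1.1 x0 = x0 ∧
      ∀ w : C0, (w : U) ∈ X.map (g.1.1 : U →ₗ[F] U) ↔ w ∈ o.1 := fun o => by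
    obtain ⟨l, hl, ho⟩ := o.2
    obtain ⟨g, -, g2, g3⟩ := extend_pair he hxs l hl
    refine ⟨g, g2, fun w => ?_⟩
    rw [ho]
    constructor
    · rintro ⟨x, hx, hxw⟩
      have hxC : x ∈ C0 := by
        refine mem_perpPair.2 ⟨?_, pair_isotropic hX hx0 hx⟩
        obtain ⟨g', g1', -, -⟩ := extend_pair he hxs l hl
        have := finrank_perpPair (Q := R) he hxs hex
        have hw := (mem_perpPair.1 w.2).1
        rw [← show g.1.1 x = (w : U) from hxw] at hw
        by_contra hne2
        set c := polar R e x with hc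
        have hx' : x + (-c) • x0 ∈ C0 := mem_perpPair.2 ⟨by simp [polar_add_right, polar_smul_right, hex, ← hc],
          by rw [polar_add_right, polar_smul_right, pair_isotropic hX hx0 hx, polar_self', hxs]; simp⟩
        have h3 := g3 ⟨_, hx'⟩
        have hcomp := (mem_perpPair.1 (l.1 ⟨_, hx'⟩).2).1
        rw [← h3, map_add, map_smul, g2, polar_add_right, polar_smul_right, hex, hw] at hcomp
        simp [hne2] at hcomp
      exact ⟨⟨x, hxC⟩, hx, Subtype.ext (by
        show (l.1 ⟨x, hxC⟩ : U) = w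
        rw [← g3 ⟨x, hxC⟩]; exact hxw)⟩
    · rintro ⟨x, hx, rfl⟩
      exact ⟨x, hx, g3 x⟩
  choose g hg0 hgD using hlift
  have hTS : ∀ (o : O) (k : eo R), ∀ x ∈ (X.map (g o).1.1.toLinearMap).map k.1.1.toLinearMap, R x = 0 := by
    rintro o k _ ⟨_, ⟨x, hx, rfl⟩, rfl⟩
    show R (k.1.1 ((g o).1.1 x)) = 0
    rw [k.1.2, (g o).1.2, hX x hx]
  have hx0m : ∀ o, x0 ∈ X.map (g o).1.1.toLinearMap := fun o => ⟨x0, hx0, hg0 o⟩
  have hTS0 : ∀ o, ∀ x ∈ X.map (g o).1.1.toLinearMap, R x = 0 := fun o => by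
    rintro _ ⟨x, hx, rfl⟩
    show R ((g o).1.1 x) = 0
    rw [(g o).1.2, hX x hx]
  have hOd : ∀ o : O, finrank F o.1 = 2 := fun o => by
    obtain ⟨l, -, ho⟩ := o.2
    rw [ho, ← (Submodule.equivMapOfInjective _ l.1.injective D).finrank_eq, hDd]
  have hcomp : ∀ o : O, ∃ φ : (Fin 2 → F) →ₗ[F] C0, Function.Injective φ ∧ ∀ v, φ v ∈ o.1 → v = 0 := fun o => by
    obtain ⟨C, hC⟩ := Submodule.exists_isCompl o.1
    have h1 := Submodule.finrank_add_eq_of_isCompl hC
    rw [hOd o] at h1
    let b := finBasisOfFinrankEq F C (show finrank F C = 2 by omega)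
    refine ⟨C.subtype ∘ₗ b.equivFun.symm.toLinearMap, fun v v' e => b.equivFun.symm.injective (Subtype.ext e),
      fun v hv => ?_⟩
    have hbot : ((b.equivFun.symm v : C) : C0) ∈ o.1 ⊓ C := ⟨hv, (b.equivFun.symm v).2⟩
    rw [hC.inf_eq_bot, Submodule.mem_bot] at hbot
    have : b.equivFun.symm v = 0 := Subtype.ext hbot
    exact b.equivFun.symm.map_eq_zero_iff.1 this
  choose φ hφ hφ0 using hcomp
  obtain ⟨m, hm, t, ht, hmx⟩ := exists_eo_point hR (by omega) hne' hxs
    (fun h : e = 0 => by simp [h, polar] at hex) he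
  have hu : ∀ (o : O) (v : Fin 2 → F), polar R e ((φ o v : C0) : U) = 0 := fun o v => (mem_perpPair.1 (φ o v).2).1
  have horb : ∀ (o : O) (k : eo R), ∃ l ∈ eo R,
      (X.map (g o).1.1.toLinearMap).map k.1.1.toLinearMap = X.map (l.1 : U →ₗ[F] U) := fun o k =>
    ⟨(k * g o).1, (k * g o).2, by rw [← Submodule.map_comp]; rfl⟩
  let f : O × (Fin 2 → F) ⊕ O → {X' : Submodule F U // ∃ l ∈ eo R, X' = X.map (l.1 : U →ₗ[F] U)} := fun a =>
    match a with
    | Sum.inl (o, v) => ⟨_, horb o (E R e ((φ o v : C0) : U))⟩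
    | Sum.inr o => ⟨_, horb o ⟨m, hm⟩⟩
  have himg : ∀ (o : O) (v : Fin 2 → F), (E R e ((φ o v : C0) : U)).1.1 x0 =
      x0 + (-1 : F) • ((φ o v : C0) : U) + (-(R ((φ o v : C0) : U))) • e := fun o v => by
    rw [E_apply he (hu o v), (mem_perpPair.1 (φ o v).2).2, hxe]
    module
  have hmix : ∀ (o o' : O) (v : Fin 2 → F), (X.map (g o).1.1.toLinearMap).map (E R e ((φ o v : C0) : U)).1.1.toLinearMap
      ≠ (X.map (g o').1.1.toLinearMap).map m.1.toLinearMap := fun o o' v h => by
    have h1 : (E R e ((φ o v : C0) : U)).1.1 x0 ∈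
        (X.map (g o).1.1.toLinearMap).map (E R e ((φ o v : C0) : U)).1.1.toLinearMap := ⟨x0, hx0m o, rfl⟩
    have h2 : t • e ∈ (X.map (g o').1.1.toLinearMap).map m.1.toLinearMap := ⟨x0, hx0m o', hmx⟩
    rw [h] at h1
    have := pair_isotropic (R := R) (hTS o' ⟨m, hm⟩) h2 h1
    rw [himg, polar_smul_left, polar_add_right, polar_add_right, polar_smul_right, polar_smul_right, hex, hu o v,
      polar_self', he] at this
    simp [ht] at this
  have hsub : ∀ (o o' : O), X.map (g o).1.1.toLinearMap ≤ X.map (g o').1.1.toLinearMap → o = o' := fun o o' h =>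
    Subtype.ext (Submodule.eq_of_le_of_finrank_eq (fun w hw => (hgD o' w).1 (h ((hgD o w).2 hw)))
      (by rw [hOd, hOd]))
  have hf : Function.Injective f := by
    rintro (⟨o, v⟩ | o) (⟨o', v'⟩ | o') h
    · have h' := congrArg Subtype.val h
      simp only [f] at h'
      set d : C0 := φ o v + -φ o' v' with hd'
      have hde : polar R e (d : U) = 0 := (mem_perpPair.1 d.2).1
      have hshift : ∀ x ∈ X.map (g o).1.1.toLinearMap, (E R e (d : U)).1.1 x ∈ X.map (g o').1.1.toLinearMap := by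
        intro x hx
        have hm' : (E R e ((φ o v : C0) : U)).1.1 x ∈
            (X.map (g o').1.1.toLinearMap).map (E R e ((φ o' v' : C0) : U)).1.1.toLinearMap := h' ▸ ⟨x, hx, rfl⟩
        obtain ⟨y, hy, hyx⟩ := hm'
        have : (E R e (d : U)).1.1 x = y := by
          rw [show (d : U) = -((φ o' v' : C0) : U) + ((φ o v : C0) : U) by simp [hd', add_comm],
            ← E_add he (polar_perp_neg (hu o' v')) (hu o v), ← E_inv he (hu o' v'), mul_apply_eo,
            ← show (E R e ((φ o' v' : C0) : U)).1.1 y = (E R e ((φ o v : C0) : U)).1.1 x from hyx, inv_apply_eo]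
        rwa [this]
      have hoo : o = o' := by
        refine Subtype.ext (Submodule.eq_of_le_of_finrank_eq (fun w hw => ?_) (by rw [hOd, hOd]))
        have hmem := hshift _ ((hgD o w).2 hw)
        rw [E_apply he hde, polar_comm R (w : U) e, (mem_perpPair.1 w.2).1] at hmem
        simp only [neg_zero, zero_smul, mul_zero, add_zero] at hmem
        have h0 := pair_isotropic (R := R) (hTS0 o') (hx0m o') hmem
        rw [polar_add_right, polar_smul_right, (mem_perpPair.1 w.2).2, hxe, zero_add, smul_eq_mul, mul_one] at h0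
        rw [h0, zero_smul, add_zero] at hmem
        exact (hgD o' w).1 hmem
      subst hoo
      have hmem := hshift x0 (hx0m o)
      rw [E_apply he hde, (mem_perpPair.1 d.2).2, hxe] at hmem
      simp only [zero_smul, mul_one, add_zero] at hmem
      have h0 := pair_isotropic (R := R) (hTS0 o) (hx0m o) hmem
      rw [polar_add_right, polar_add_right, polar_smul_right, polar_smul_right, polar_self', hxs,
        (mem_perpPair.1 d.2).2, hxe] at h0
      simp at h0
      rw [h0] at hmem
      simp only [neg_zero, zero_smul, add_zero, neg_one_smul] at hmem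
      have hdo : d ∈ o.1 := (hgD o d).1 (by simpa using Submodule.sub_mem _ (hx0m o) hmem)
      rw [hd', ← sub_eq_add_neg, ← map_sub] at hdo
      rw [sub_eq_zero.1 (hφ0 o _ hdo)]
    · exact absurd (congrArg Subtype.val h) (hmix o o' v)
    · exact absurd (congrArg Subtype.val h).symm (hmix o' o v')
    · have h' := congrArg Subtype.val h
      simp only [f] at h'
      exact congrArg Sum.inr (hsub o o' (le_of_eq (Submodule.map_injective_of_injective m.1.injective h')))
  have hcard := Nat.card_le_card_of_injective f hf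
  rw [Nat.card_sum, Nat.card_prod, Nat.card_fun, Nat.card_fin] at hcard
  refine le_trans ?_ hcard
  calc (Nat.card F + 1) * (Nat.card F ^ 2 + 1) = (Nat.card F + 1) * Nat.card F ^ 2 + (Nat.card F + 1) := by ring
    _ ≤ Nat.card O * Nat.card F ^ 2 + Nat.card O := by gcongr

end Space

variable {V : Type uV} [AddCommGroup V] [Module F V] {Q : QuadraticForm F V}

omit [Finite F] in
theorem singKind_conj {K : Subgroup (eo Q)} {y : V} {T : Submodule F V} (hy : Q y = 0) (h : SingKind K y T)
    (g : eo Q) : SingKind (conjO g K) (g.1.1 y) (T.map g.1.1.toLinearMap) := by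
  obtain ⟨h1, h2, h3, h4⟩ := h
  refine ⟨⟨y, h1, rfl⟩, ?_, ?_, fun w hw => ?_⟩
  · rintro _ ⟨x, hx, rfl⟩
    show Q (g.1.1 x) = 0
    rw [g.1.2, h2 x hx]
  · rw [← (Submodule.equivMapOfInjective g.1.1.toLinearMap g.1.1.injective T).finrank_eq, h3]
  · set w0 := (g⁻¹).1.1 w
    have e : g.1.1 w0 = w := apply_inv_eo g w
    rw [← e] at hw ⊢
    rw [polar_map_eo] at hw
    rw [mem_conjO, ← conj_E g hy hw, show g⁻¹ * (g * E Q y w0 * g⁻¹) * g = E Q y w0 by group, h4 w0 hw]
    refine ⟨fun hx => ⟨w0, hx, rfl⟩, fun ⟨x, hx, hxe⟩ => ?_⟩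
    exact (g.1.1.injective hxe : x = w0) ▸ hx

omit [Finite F] in
theorem singKind_smul {K : Subgroup (eo Q)} {y : V} {T : Submodule F V} {t : F} (ht : t ≠ 0) (hy : Q y = 0)
    (h : SingKind K (t • y) T) : SingKind K y T := by
  obtain ⟨h1, h2, h3, h4⟩ := h
  refine ⟨(T.smul_mem_iff ht).1 h1, h2, h3, fun w hw => ?_⟩
  have hw' : polar Q (t • y) (t⁻¹ • w) = 0 := by simp [polar_smul_left, polar_smul_right, hw]
  have := h4 _ hw'
  rw [E_smul_left hy (by simp [polar_smul_right, hw]), smul_smul, mul_inv_cancel₀ ht, one_smul] at this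
  rw [this]
  exact T.smul_mem_iff (inv_ne_zero ht)

omit [Finite F] in
theorem pairKind_conj {K : Subgroup (eo Q)} {y : V} (hy : Q y = 0) (h : PairKind K y) (g : eo Q) :
    PairKind (conjO g K) (g.1.1 y) := by
  obtain ⟨w, w', hw, hw', hm, hm', hne⟩ := h
  refine ⟨g.1.1 w, g.1.1 w', by rw [polar_map_eo, hw], by rw [polar_map_eo, hw'], ?_, ?_,
    by rwa [polar_map_eo]⟩
  · rw [← conj_E g hy hw]; exact ⟨_, hm, rfl⟩
  · rw [← conj_E g hy hw']; exact ⟨_, hm', rfl⟩

omit [Finite F] in
theorem pairKind_smul {K : Subgroup (eo Q)} {y : V} {t : F} (ht : t ≠ 0) (hy : Q y = 0)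
    (h : PairKind K (t • y)) : PairKind K y := by
  obtain ⟨w, w', hw, hw', hm, hm', hne⟩ := h
  rw [polar_smul_left, smul_eq_mul] at hw hw'
  have h1 := (mul_eq_zero.1 hw).resolve_left ht
  have h2 := (mul_eq_zero.1 hw').resolve_left ht
  rw [E_smul_left hy h1] at hm
  rw [E_smul_left hy h2] at hm'
  refine ⟨t • w, t • w', polar_perp_smul h1 _, polar_perp_smul h2 _, hm, hm', ?_⟩
  simp [polar_smul_left, polar_smul_right, ht, hne]

variable [FiniteDimensional F V]

/-- In dimension eight, the second pair of kinds forces a large index. -/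
theorem index_ge_of_sing (hQ : (polarBilin Q).Nondegenerate) (hn : finrank F V = 8) (H : Subgroup (eo Q))
    {g1 g2 : eo Q} {y z : V} {T : Submodule F V} (hy : Q y = 0) (hy0 : y ≠ 0) (hz : Q z = 0) (hz0 : z ≠ 0)
    (hA : SingKind (conjO g1 H) y T) (hB : PairKind (conjO g2 H) z) :
    Nat.card (SPt Q) ≤ H.index := by
  classical
  have : Finite V := Module.finite_of_finite F
  have := finite_eo (Q := Q)
  have := finite_spt (Q := Q)
  have hN := pts_plus 4 hQ (by omega) T hA.2.1 hA.2.2.1
  obtain ⟨f, hf, hyf⟩ := exists_hyp_pair hQ hy0 hy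
  have hfy : polar Q f y = 1 := by rw [polar_comm, hyf]
  set W' := perpPair Q y f with hW'
  set R := restrictPair Q y f with hR
  have hdim := finrank_perpPair (Q := Q) hy hf hyf
  have hRnd := nondeg_restrictPair hQ hy hf hyf
  set X := T.comap W'.subtype with hX
  have hdim' : finrank F V = 2 + finrank F W' := hdim
  have hXd : finrank F X = 3 := by
    let φ : T →ₗ[F] F := (polarBilin Q f).domRestrict T
    have hs : LinearMap.range φ = ⊤ := LinearMap.range_eq_top.2 fun c =>
      ⟨c • ⟨y, hA.1⟩, by simp [φ, polar_smul_right, hfy]⟩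
    have h := φ.finrank_range_add_finrank_ker
    rw [hs, finrank_top, Module.finrank_self, hA.2.2.1] at h
    have e : X ≃ₗ[F] LinearMap.ker φ :=
      { toFun := fun x => ⟨⟨((x : W') : V), x.2⟩, (mem_perpPair.1 (x : W').2).2⟩
        map_add' := fun x y => rfl
        map_smul' := fun c x => rfl
        invFun := fun x => ⟨⟨((x : T) : V), mem_perpPair.2 ⟨polar_of_ts hA.2.1 hA.1 (x : T).2, x.2⟩⟩, (x : T).2⟩
        left_inv := fun x => rfl
        right_inv := fun x => rfl }
    rw [e.finrank_eq]; omega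
  have : Finite W' := Module.finite_of_finite F
  have : Finite (Submodule F W') := Finite.of_injective _ SetLike.coe_injective
  have hcO := card_plane_orbit hRnd (by omega) X (fun x hx => hA.2.1 _ hx) hXd
  set O := {X' : Submodule F W' // ∃ l ∈ eo R, X' = X.map (l.1 : W' →ₗ[F] W')}
  set SX : eo Q ⧸ H → Prop := fun x => ∃ T, SingKind (conjO x.out H) y T with hSX
  have hout : ∀ g : eo Q, conjO (g : eo Q ⧸ H).out H = conjO g H := fun g => by
    obtain ⟨k, hk⟩ := QuotientGroup.mk_out_eq_mul H g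
    rw [hk, conjO_mul_mem g k.2]
  have hlift : ∀ o : O, ∃ g : eo Q, ∃ T' : Submodule F V, SingKind (conjO g H) y T' ∧
      ∀ w : W', (w : V) ∈ T' → w ∈ o.1 := fun o => by
    obtain ⟨l, hl, ho⟩ := o.2
    obtain ⟨k, k1, k2, k3⟩ := extend_pair hy hf l hl
    have h2 := singKind_conj hy hA k
    rw [conjO_conjO, k1] at h2
    refine ⟨k * g1, _, h2, fun w hw => ?_⟩
    obtain ⟨x, hx, hxw⟩ := hw
    have hxW : x ∈ W' := mem_perpPair.2 ⟨polar_of_ts hA.2.1 hA.1 hx, by
      have := polar_map_eo k f x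
      rw [k2, show k.1.1 x = (w : V) from hxw, (mem_perpPair.1 w.2).2] at this
      exact this.symm⟩
    rw [ho]
    exact ⟨⟨x, hxW⟩, hx, Subtype.ext (by
      show (l.1 ⟨x, hxW⟩ : V) = w
      rw [← k3 ⟨x, hxW⟩]; exact hxw)⟩
  choose gp T' hgp hT' using hlift
  have hcomp : ∀ o : O, ∃ φ : (Fin 3 → F) →ₗ[F] W', ∀ v, φ v ∈ o.1 → v = 0 := fun o => by
    obtain ⟨C, hC⟩ := Submodule.exists_isCompl o.1
    have h1 := Submodule.finrank_add_eq_of_isCompl hC
    obtain ⟨l, -, ho⟩ := o.2
    rw [show finrank F o.1 = 3 by rw [ho, ← (Submodule.equivMapOfInjective _ l.1.injective X).finrank_eq, hXd]] at h1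
    let b := finBasisOfFinrankEq F C (show finrank F C = 3 by omega)
    refine ⟨C.subtype ∘ₗ b.equivFun.symm.toLinearMap, fun v hv => ?_⟩
    have hbot : ((b.equivFun.symm v : C) : W') ∈ o.1 ⊓ C := ⟨hv, (b.equivFun.symm v).2⟩
    rw [hC.inf_eq_bot, Submodule.mem_bot] at hbot
    exact b.equivFun.symm.map_eq_zero_iff.1 (Subtype.ext hbot)
  choose φ hφ using hcomp
  have hu : ∀ u : W', polar Q y (u : V) = 0 := fun u => (mem_perpPair.1 u.2).1
  have hmove : ∀ (o : O) (u : W'), SingKind (conjO (E Q y (u : V) * gp o) H) y (T' o) := fun o u => by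
    have h2 := singKind_conj hy (hgp o) (E Q y (u : V))
    rw [conjO_conjO, E_fix hy (hu u) (by rw [polar_self', hy, mul_zero]) (hu u)] at h2
    have e : (T' o).map (E Q y (u : V)).1.1.toLinearMap = T' o := by
      refine Submodule.eq_of_le_of_finrank_eq ?_ ?_
      · rintro _ ⟨w, hw, rfl⟩
        show (E Q y (u : V)).1.1 w ∈ T' o
        rw [E_apply hy (hu u), polar_comm Q w y, polar_of_ts (hgp o).2.1 (hgp o).1 hw]
        simp only [neg_zero, zero_smul, mul_zero, add_zero]
        exact add_mem hw (Submodule.smul_mem _ _ (hgp o).1)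
      · exact (Submodule.equivMapOfInjective _ (E Q y (u : V)).1.1.injective _).finrank_eq.symm
    rwa [e] at h2
  have huniq : ∀ {K : Subgroup (eo Q)} {T1 T2 : Submodule F V}, SingKind K y T1 → SingKind K y T2 → T1 ≤ T2 :=
    fun {K T1 T2} h1 h2 w hw => by
      have hp := polar_of_ts h1.2.1 h1.1 hw
      exact (h2.2.2.2 w hp).1 ((h1.2.2.2 w hp).2 hw)
  have hcountA : Nat.card O * Nat.card F ^ 3 ≤ Nat.card {x // SX x} := by
    rw [show Nat.card O * Nat.card F ^ 3 = Nat.card (O × (Fin 3 → F)) by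
      rw [Nat.card_prod, Nat.card_fun, Nat.card_fin]]
    let Φ : O × (Fin 3 → F) → {x // SX x} := fun ov =>
      ⟨((E Q y ((φ ov.1 ov.2 : W') : V) * gp ov.1 : eo Q) : eo Q ⧸ H), T' ov.1, by rw [hout]; exact hmove _ _⟩
    refine Nat.card_le_card_of_injective Φ ?_
    rintro ⟨o, v⟩ ⟨o', v'⟩ e
    have e' := congrArg Subtype.val e
    simp only [Φ] at e'
    have hK := congrArg (fun x : eo Q ⧸ H => conjO x.out H) e'
    simp only [hout] at hK
    have h1 := hmove o (φ o v)
    have h2 := hmove o' (φ o' v')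
    rw [← hK] at h2
    obtain ⟨l, -, ho⟩ := o.2
    obtain ⟨l', -, ho'⟩ := o'.2
    have hoo : o = o' := by
      refine Subtype.ext (Submodule.eq_of_le_of_finrank_eq (fun w hw => hT' o' w (huniq h1 h2 ?_)) ?_)
      · have hXle : (T' o).comap W'.subtype ≤ o.1 := fun w hw => hT' o w hw
        have hd3 : 3 ≤ finrank F ((T' o).comap W'.subtype) := by
          let φ' : T' o →ₗ[F] F := (polarBilin Q f).domRestrict (T' o)
          have h := φ'.finrank_range_add_finrank_ker
          have hr := Submodule.finrank_le (LinearMap.range φ')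
          rw [Module.finrank_self] at hr
          rw [(hgp o).2.2.1] at h
          let ι : LinearMap.ker φ' →ₗ[F] (T' o).comap W'.subtype :=
            { toFun := fun x => ⟨⟨((x : T' o) : V), mem_perpPair.2
                ⟨polar_of_ts (hgp o).2.1 (hgp o).1 (x : T' o).2, x.2⟩⟩, (x : T' o).2⟩
              map_add' := fun x y => rfl
              map_smul' := fun c x => rfl }
          have hι : Function.Injective ι := fun x x' e =>
            Subtype.ext (Subtype.ext (congrArg (fun z : (T' o).comap W'.subtype => ((z : W') : V)) e :))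
          have := LinearMap.finrank_le_finrank_of_injective hι
          omega
        have heq : (T' o).comap W'.subtype = o.1 := Submodule.eq_of_le_of_finrank_le hXle (by
          rw [ho, ← (Submodule.equivMapOfInjective _ l.1.injective X).finrank_eq, hXd]; exact hd3)
        rw [← heq] at hw
        exact hw
      · rw [ho, ho', ← (Submodule.equivMapOfInjective _ l.1.injective X).finrank_eq,
          ← (Submodule.equivMapOfInjective _ l'.1.injective X).finrank_eq]
    subst hoo
    refine Prod.ext rfl ?_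
    have hm := QuotientGroup.eq.1 e'
    rw [mul_inv_rev, E_inv hy (hu _), show (gp o)⁻¹ * E Q y (-((φ o v : W') : V)) *
      (E Q y ((φ o v' : W') : V) * gp o) = (gp o)⁻¹ * (E Q y (-((φ o v : W') : V)) *
      E Q y ((φ o v' : W') : V)) * gp o by group, E_add hy (polar_perp_neg (hu _)) (hu _),
      ← mem_conjO, (hgp o).2.2.2 _ (polar_perp_add (polar_perp_neg (hu _)) (hu _)),
      ← Submodule.coe_neg, ← Submodule.coe_add, ← map_neg, ← map_add] at hm
    have := hφ o _ (hT' o _ hm)
    exact neg_add_eq_zero.1 this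
  -- the other kind
  obtain ⟨k, hk, t, ht, hkt⟩ := exists_eo_point hQ (by omega) hz0 hz hy0 hy
  have hB0 : PairKind (conjO ((⟨k, hk⟩ : eo Q) * g2) H) y := by
    have := pairKind_conj hz hB ⟨k, hk⟩
    rw [conjO_conjO, show (⟨k, hk⟩ : eo Q).1.1 z = t • y from hkt] at this
    exact pairKind_smul ht hy this
  have hC : 1 ≤ Nat.card {x // ¬SX x} := by
    have : Nonempty {x // ¬SX x} := ⟨⟨(((⟨k, hk⟩ : eo Q) * g2 : eo Q) : eo Q ⧸ H), by
      rintro ⟨T2, h2⟩
      rw [hout] at h2
      exact not_sing_of_pair hB0 h2⟩⟩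
    exact Nat.card_pos
  have hsum : Nat.card {x // SX x} + Nat.card {x // ¬SX x} = H.index := by
    rw [← Nat.card_sum, Nat.card_congr (Equiv.sumCompl SX)]; rfl
  by_contra hlt
  push Not at hlt
  set Rel : eo Q → Prop := fun g => ∃ T, SingKind H (g.1.1 y) T with hRel
  have hRelX : ∀ x : eo Q ⧸ H, Rel x.out⁻¹ ↔ SX x := fun x => by
    constructor
    · rintro ⟨w, hk'⟩
      have := singKind_conj (by rw [(x.out⁻¹).1.2, hy]) hk' x.out
      rw [apply_inv_eo] at this
      exact ⟨_, this⟩
    · rintro ⟨w, hk'⟩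
      have := singKind_conj hy hk' x.out⁻¹
      rw [conjO_conjO, inv_mul_cancel, conjO_one] at this
      exact ⟨_, this⟩
  have hdc := SU.double_count H (Pt (Q := Q) y) Rel (fun h hh g => by
      refine ⟨fun ⟨w, hk'⟩ => ?_, fun ⟨w, hk'⟩ => ?_⟩
      · have := singKind_conj (by rw [(h * g).1.2, hy]) hk' h⁻¹
        rw [conjO_self (H.inv_mem hh), ← mul_apply_eo, inv_mul_cancel_left] at this
        exact ⟨_, this⟩
      · have := singKind_conj (by rw [g.1.2, hy]) hk' h
        rw [conjO_self hh, ← mul_apply_eo] at this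
        exact ⟨_, this⟩)
    (fun k' hk' g => by
      obtain ⟨a, ha⟩ := hk'
      refine ⟨fun ⟨w, hh'⟩ => ?_, fun ⟨w, hh'⟩ => ?_⟩
      · rw [mul_apply_eo, ha, map_smul] at hh'
        exact ⟨w, singKind_smul a.ne_zero (by rw [g.1.2, hy]) hh'⟩
      · refine ⟨w, singKind_smul (inv_ne_zero a.ne_zero) (by rw [(g * k').1.2, hy]) ?_⟩
        rwa [mul_apply_eo, ha, map_smul, inv_smul_smul₀ a.ne_zero])
  rw [index_Pt hQ (by omega) hy0 hy, Nat.card_congr (Equiv.subtypeEquivRight hRelX)] at hdc
  have hN' : Nat.card (SPt Q) = (Nat.card F + 1) * (Nat.card F ^ 2 + 1) * (Nat.card F ^ 3 + 1) := by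
    rw [hN]; simp [plusPts]; ring
  set q := Nat.card F
  set a := (q + 1) * (q ^ 2 + 1) with ha
  set A := Nat.card {x // SX x}
  set C := Nat.card {x // ¬SX x}
  set d := H.index with hdd
  have hAge : a * q ^ 3 ≤ A := le_trans (Nat.mul_le_mul_right _ hcO) hcountA
  obtain ⟨e, he⟩ : ∃ e, Nat.card (SPt Q) = d + e := ⟨Nat.card (SPt Q) - d, by omega⟩
  have heC : e + C ≤ a := by
    have : Nat.card (SPt Q) = a * q ^ 3 + a := by rw [hN', ha]; ring
    omega
  have hdvd : d ∣ e * C := by
    have h1 : d ∣ Nat.card (SPt Q) * A := ⟨_, hdc.symm⟩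
    have h2 : d ∣ Nat.card (SPt Q) * A + Nat.card (SPt Q) * C := by
      rw [← Nat.mul_add, hsum]; exact dvd_mul_left _ _
    have h3 : d ∣ Nat.card (SPt Q) * C := (Nat.dvd_add_right h1).1 h2
    rw [he, Nat.add_mul] at h3
    exact (Nat.dvd_add_right (dvd_mul_right _ _)).1 h3
  have hpos : 0 < e * C := Nat.mul_pos (by omega) (by omega)
  have hle := Nat.le_of_dvd hpos hdvd
  have hamgm : 4 * (e * C) ≤ a * a := by
    have := Nat.mul_le_mul heC heC
    nlinarith [sq_nonneg ((e : ℤ) - (C : ℤ))]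
  have hq2 : 2 ≤ q := Finite.one_lt_card
  have h4 : a * a ≤ 4 * (a * q ^ 3) := by
    rw [mul_comm 4 (a * q ^ 3), mul_assoc a (q ^ 3) 4]
    refine Nat.mul_le_mul_left _ ?_
    rw [ha]
    calc (q + 1) * (q ^ 2 + 1) ≤ (2 * q) * (2 * q ^ 2) := by
          gcongr <;> nlinarith
      _ = q ^ 3 * 4 := by ring
  omega

end Cfsg.Agent.MinIndexForm.O
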