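import Cfsg.Agent.MinIndexForm.O.Layers
import Cfsg.Agent.MinIndexForm.SU.Invariants

/-!
The action of a subgroup on its vector and central parts, and the resulting bounds on their indices.
-/

set_option autoImplicit false

namespace Cfsg.Agent.MinIndexForm.O

open Cfsg.Agent.Classical Cfsg.Agent.Classical.Quad Module QuadraticMap Matrix
open scoped MatrixGroups

universe uF uV

/-- Scalars preserving a proper additive subgroup of a field. -/
theorem scal_mul_index_ge {F : Type*} [Field F] [Finite F] {Z : AddSubgroup F} (hZ : Z ≠ ⊤) (T : Subgroup Fˣ)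
    (hT : ∀ a ∈ T, ∀ c ∈ Z, (a : F) * c ∈ Z) : Nat.card F + T.index ≤ T.index * Z.index + 1 := by
  classical
  obtain ⟨x, -, hx⟩ := SetLike.exists_of_lt (lt_top_iff_ne_top.2 hZ)
  let val : Option T → F := fun o => o.elim 0 fun r => ((r : Fˣ) : F)
  have hvinj : Function.Injective val := by
    rintro (_ | r) (_ | r') e
    · rfl
    · exact absurd e.symm (r' : Fˣ).ne_zero
    · exact absurd e (r : Fˣ).ne_zero
    · exact congrArg some (Subtype.ext (Units.ext e))
  have hpres : ∀ o, ∀ c ∈ Z, val o * c ∈ Z := by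
    rintro (_ | a) c hc
    · show (0 : F) * c ∈ Z
      rw [zero_mul]; exact Z.zero_mem
    · exact hT a.1 a.2 c hc
  have hcount : Nat.card (Option T) ≤ Z.index := by
    rw [AddSubgroup.index]
    refine Nat.card_le_card_of_injective (fun o => ((val o * x : F) : F ⧸ Z)) fun o o' e => ?_
    by_contra hne
    refine hx ?_
    have hd : val o' - val o ≠ 0 := sub_ne_zero.2 fun e' => hne (hvinj e'.symm)
    have hinj : Function.Injective fun c : Z => (⟨(val o' - val o) * c.1, by
        rw [sub_mul]; exact Z.sub_mem (hpres o' _ c.2) (hpres o _ c.2)⟩ : Z) := fun c c' h =>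
      Subtype.ext (mul_left_cancel₀ hd (congrArg Subtype.val h))
    have hmem : (val o' - val o) * x ∈ Z := by
      have := QuotientAddGroup.eq.1 e
      rwa [neg_add_eq_sub, ← sub_mul] at this
    obtain ⟨c, hc⟩ := (Finite.injective_iff_surjective.1 hinj) ⟨_, hmem⟩
    have : (c : F) = x := mul_left_cancel₀ hd (congrArg Subtype.val hc)
    exact this ▸ c.2
  rw [Finite.card_option] at hcount
  have h1 := T.card_mul_index
  have h2 := Nat.card_units F
  have h3 : 1 ≤ Nat.card F := Nat.card_pos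
  have h4 := Nat.mul_le_mul_left T.index hcount
  rw [Nat.mul_add, mul_one] at h4
  rw [mul_comm] at h1
  omega

variable {F : Type uF} {V : Type uV} [Field F] [AddCommGroup V] [Module F V] {Q : QuadraticForm F V}

namespace LF

variable (τ : LF Q) (K : Subgroup (eo Q))

theorem z_conj_mem {g : eo Q} (hg : g ∈ τ.P) (hgK : g ∈ K) {c : F} (hc : c ∈ τ.Zp K) :
    (τ.mat g).det * c ∈ τ.Zp K := by
  rw [mem_Zp, ← τ.conj_z hg]
  exact K.mul_mem (K.mul_mem hgK hc) (K.inv_mem hgK)

theorem T_Zp {a : Fˣ} (ha : a ∈ τ.T K) {c : F} (hc : c ∈ τ.Zp K) : (a : F) * c ∈ τ.Zp K := by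
  obtain ⟨g, hg, rfl⟩ := ha
  rw [det_val]
  exact τ.z_conj_mem K g.2 hg hc

theorem S_inv {g : eo Q} (hg : g ∈ τ.P) (hgK : g ∈ K) {a b : τ.W} (h : (a, b) ∈ τ.S K) :
    (τ.mat g 0 0 • (τ.lam ⟨g, hg⟩).1 a + τ.mat g 0 1 • (τ.lam ⟨g, hg⟩).1 b,
      τ.mat g 1 0 • (τ.lam ⟨g, hg⟩).1 a + τ.mat g 1 1 • (τ.lam ⟨g, hg⟩).1 b) ∈ τ.S K := by
  obtain ⟨c, hc⟩ := h
  obtain ⟨c', hc'⟩ := τ.conj_qe hg a b c
  exact ⟨c', hc' ▸ K.mul_mem (K.mul_mem hgK hc) (K.inv_mem hgK)⟩

theorem S_comm {a b a' b' : τ.W} (h : (a, b) ∈ τ.S K) (h' : (a', b') ∈ τ.S K) :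
    polar Q (b : V) (a' : V) - polar Q (b' : V) (a : V) ∈ τ.Zp K := by
  obtain ⟨c, hc⟩ := h
  obtain ⟨c', hc'⟩ := h'
  rw [mem_Zp, ← τ.qe_comm a b a' b' c c']
  exact K.mul_mem (K.mul_mem hc hc') (K.inv_mem (K.mul_mem hc' hc))

theorem S_inv_I {l : τ.L} (hl : l ∈ τ.I K) {a b : τ.W} (h : (a, b) ∈ τ.S K) :
    (l.1.1 a, l.1.1 b) ∈ τ.S K := by
  obtain ⟨g, hg, rfl⟩ := hl
  have := τ.S_inv K (τ.P2_le_P g.2) hg h
  rw [τ.mat_P2 g.2] at this
  simpa [τ.lamR_coe] using this

variable [Finite F] [FiniteDimensional F V]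

theorem finite_L : Finite τ.L := by
  have := finite_oG (Q := τ.QW)
  infer_instance

theorem one_le_T : 1 ≤ (τ.T K).index := Nat.pos_of_ne_zero Subgroup.index_ne_zero_of_finite

omit [FiniteDimensional F V] in
theorem one_le_J : 1 ≤ (τ.J K).index := Nat.pos_of_ne_zero Subgroup.index_ne_zero_of_finite

theorem one_le_I : 1 ≤ (τ.I K).index :=
  have := τ.finite_L
  Nat.pos_of_ne_zero Subgroup.index_ne_zero_of_finite

theorem tz_ge (hZ : τ.Zp K ≠ ⊤) : Nat.card F ≤ (τ.T K).index * (τ.Zp K).index := by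
  have := scal_mul_index_ge hZ (τ.T K) fun a ha c hc => τ.T_Zp K ha hc
  have := τ.one_le_T K
  omega

theorem tz_gt (hZ : τ.Zp K ≠ ⊤) (hne : τ.Zp K ≠ ⊥) : Nat.card F + 1 ≤ (τ.T K).index * (τ.Zp K).index := by
  have := scal_mul_index_ge hZ (τ.T K) fun a ha c hc => τ.T_Zp K ha hc
  have h1 := τ.one_le_T K
  rcases eq_or_lt_of_le h1 with h | h
  · exfalso
    rw [← h] at this
    have hc := (τ.Zp K).card_mul_index
    have h2 : 2 ≤ Nat.card (τ.Zp K) := (AddSubgroup.one_lt_card_iff_ne_bot _).2 hne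
    have := Nat.mul_le_mul_right (τ.Zp K).index h2
    have : 0 < (τ.Zp K).index := Nat.pos_of_ne_zero AddSubgroup.index_ne_zero_of_finite
    omega
  · omega

theorem card_WW {m : ℕ} (hd : finrank F τ.W = m) : Nat.card (τ.W × τ.W) = Nat.card F ^ (2 * m) := by
  rw [Nat.card_prod, Module.natCard_eq_pow_finrank (K := F), hd, ← pow_add, two_mul]

omit [Finite F] [FiniteDimensional F V] in
theorem exists_polar_value {u : τ.W} (hu : u ≠ 0) (k : F) : ∃ v : τ.W, polar Q (u : V) (v : V) = k := by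
  obtain ⟨v0, hv0⟩ : ∃ v0, polar τ.QW u v0 ≠ 0 := by
    by_contra hc; push Not at hc; exact hu (eq_zero_of_polar τ.nondeg_W hc)
  refine ⟨(k / polar τ.QW u v0) • v0, ?_⟩
  rw [τ.polar_QW] at hv0 ⊢
  rw [Submodule.coe_smul, polar_smul_right, smul_eq_mul, div_mul_cancel₀ _ hv0]

/-- The vector part at a moved line is small. -/
theorem S_index_ge {m : ℕ} (hd : finrank F τ.W = m) (hZ : τ.Zp K ≠ ⊤) :
    Nat.card F ^ m ≤ (τ.S K).index := by
  obtain ⟨p, hp⟩ := CharP.exists F
  have : Fact p.Prime := ⟨CharP.char_is_prime F p⟩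
  letI : Algebra (ZMod p) F := ZMod.algebra F p
  letI : Module (ZMod p) τ.W := Module.compHom τ.W (algebraMap (ZMod p) F)
  have : Finite τ.W := Module.finite_of_finite F
  obtain ⟨c0, -, hc0⟩ := SetLike.exists_of_lt (lt_top_iff_ne_top.2 hZ)
  set Z' : Submodule (ZMod p) F := AddSubgroup.toZModSubmodule p (τ.Zp K)
  obtain ⟨φ, hφ0, hφ⟩ := Submodule.exists_dual_map_eq_bot_of_notMem (show c0 ∉ Z' from hc0) inferInstance
  have hker : ∀ c ∈ τ.Zp K, φ c = 0 := fun c hc => by
    have : φ c ∈ Z'.map φ := ⟨_, hc, rfl⟩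
    rwa [hφ] at this
  let β : τ.W × τ.W → τ.W × τ.W → ZMod p := fun x y =>
    φ (polar Q (x.2 : V) (y.1 : V) - polar Q (y.2 : V) (x.1 : V))
  have hl : ∀ x x' y, β (x + x') y = β x y + β x' y := fun x x' y => by
    simp only [β, Prod.snd_add, Prod.fst_add, Submodule.coe_add, polar_add_left, polar_add_right]
    rw [← map_add]; congr 1; ring
  have hr : ∀ x y y', β x (y + y') = β x y + β x y' := fun x y y' => by
    simp only [β, Prod.snd_add, Prod.fst_add, Submodule.coe_add, polar_add_left, polar_add_right]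
    rw [← map_add]; congr 1; ring
  have hanti : ∀ x y, β y x = -β x y := fun x y => by
    simp only [β]; rw [← map_neg, neg_sub]
  have hsl : ∀ x, (∀ y, β x y = 0) → x = 0 := fun x hx => by
    by_contra hne
    rcases not_and_or.1 (fun h : x.1 = 0 ∧ x.2 = 0 => hne (Prod.ext h.1 h.2)) with h | h
    · obtain ⟨v, hv⟩ := τ.exists_polar_value h (-c0)
      refine hφ0 ?_
      have := hx (0, v)
      simp only [β, Submodule.coe_zero] at this
      rw [show polar Q (x.2 : V) 0 = 0 by simp [polar], polar_comm Q (v : V), hv, zero_sub, neg_neg] at this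
      exact this
    · obtain ⟨v, hv⟩ := τ.exists_polar_value h c0
      refine hφ0 ?_
      have := hx (v, 0)
      simp only [β, Submodule.coe_zero] at this
      rw [hv, show polar Q 0 (x.1 : V) = 0 by simp [polar], sub_zero] at this
      exact this
  let U : AddSubgroup (τ.W × τ.W) :=
    { carrier := {u | ∀ s ∈ τ.S K, β s u = 0}
      zero_mem' := fun s _ => by simp [β, polar]
      add_mem' := fun {a b} ha hb s hs => by rw [hr, ha s hs, hb s hs, add_zero]
      neg_mem' := fun {a} ha s hs => by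
        have := hr s a (-a)
        rw [add_neg_cancel, ha s hs, zero_add] at this
        rw [← this]; simp [β, polar] }
  have hU := SU.card_annih p β hl hr hsl
    (fun y hy => hsl y fun x => by rw [hanti, hy, neg_zero]) (τ.S K) U fun u => Iff.rfl
  have hle : τ.S K ≤ U := fun u hu s hs => hker _ (τ.S_comm K (a := s.1) (b := s.2) hs hu)
  have h1 : Nat.card (τ.S K) ≤ Nat.card U := Nat.card_le_card_of_injective _ (AddSubgroup.inclusion_injective hle)
  have h2 := (τ.S K).card_mul_index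
  have h3 : Nat.card U = (τ.S K).index :=
    Nat.eq_of_mul_eq_mul_right (Nat.card_pos (α := τ.S K)) (by rw [hU, ← h2, mul_comm])
  rw [τ.card_WW hd] at h2
  refine (Nat.pow_le_pow_iff_left (n := 2) two_ne_zero).1 ?_
  rw [← pow_mul, mul_comm m, ← h2, pow_two]
  exact Nat.mul_le_mul_right _ (h3 ▸ h1)

/-- The index from lower bounds for the layers. -/
theorem index_ge_of {n m a b c e : ℕ} (hn : finrank F V = n) (h7 : 7 ≤ n) (hm : n = m + 4)
    (ha : a ≤ (τ.T K).index * (τ.Zp K).index) (hb : b ≤ (τ.J K).index) (hc : c ≤ (τ.I K).index)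
    (he : e ≤ (τ.S K).index) : a * b * c * e ≤ K.index := by
  refine le_trans ?_ (τ.relIndex_le_index K)
  rw [τ.relIndex_P K (by omega)]
  calc a * b * c * e ≤ (τ.T K).index * (τ.Zp K).index * (τ.J K).index * (τ.I K).index * (τ.S K).index := by gcongr
    _ = _ := by ring

end LF

end Cfsg.Agent.MinIndexForm.O
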