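import Cfsg.Agent.Classical.SL2Gen
import Cfsg.Agent.MinIndexForm.SU.Split

/-!
Two elementary facts on SL(2, q): proper subgroups have index at least (q + 2) / 2, and there is no proper normal
subgroup of index at most q + 1 when q ≥ 4.
-/

set_option autoImplicit false

namespace Cfsg.Agent.MinIndexForm.O

open Cfsg.Agent.Classical Matrix
open scoped MatrixGroups

variable {F : Type*} [Field F]

/-- The diagonal element. -/
def dia (b : Fˣ) : SL(2, F) := ⟨!![(b : F), 0; 0, ((b⁻¹ : Fˣ) : F)], by rw [det_fin_two]; simp⟩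

theorem dia_coe (b : Fˣ) : ((dia b : SL(2, F)) : Matrix (Fin 2) (Fin 2) F) = !![(b : F), 0; 0, ((b⁻¹ : Fˣ) : F)] := rfl

/-- The upper unipotent element. -/
abbrev up (c : F) : SL(2, F) := rootHomSL (Multiplicative.ofAdd c)

theorem up_coe (c : F) : ((up c : SL(2, F)) : Matrix (Fin 2) (Fin 2) F) = !![1, c; 0, 1] := rootHomSL_coe _

theorem up_add (c d : F) : up (c + d) = up c * up d := by rw [up, up, up, ← map_mul, ← ofAdd_add]

theorem up_zero : up (0 : F) = 1 := map_one (rootHomSL (F := F))

theorem up_inj {c d : F} (h : up c = up d) : c = d := Multiplicative.ofAdd.injective (rootHomSL_injective h)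

/-- The Weyl element. -/
def wey : SL(2, F) := ⟨!![0, 1; -1, 0], by rw [det_fin_two]; simp⟩

theorem dia_conj_up (b : Fˣ) (c : F) : dia b * up c * (dia b)⁻¹ = up ((b : F) ^ 2 * c) := by
  rw [up, conj_rootHomSL_mem_of_upper (by simp [dia_coe])]
  congr 2
  simp [dia_coe]; ring

theorem low_eq (c : F) : ((wey * up c * (wey (F := F))⁻¹ : SL(2, F)) : Matrix (Fin 2) (Fin 2) F) = !![1, 0; -c, 1] := by
  rw [up, conj_rootHomSL]
  ext i j
  fin_cases i <;> fin_cases j <;> simp [wey]

variable [Finite F]

/-- Upper and lower unipotents generate. -/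
theorem eq_top_of_up (H : Subgroup SL(2, F)) (h1 : ∀ c, up c ∈ H) (h2 : ∀ c, wey * up c * (wey (F := F))⁻¹ ∈ H) :
    H = ⊤ := by
  have : Fintype F := Fintype.ofFinite F
  refine sl_eq_top_of_transvection H fun i j hij c => ?_
  fin_cases i <;> fin_cases j
  · exact absurd rfl hij
  · exact h1 c
  · convert h2 (-c) using 1
    refine Subtype.ext ?_
    rw [low_eq, Matrix.SpecialLinearGroup.transvection_coe]
    ext i j
    fin_cases i <;> fin_cases j <;> simp
  · exact absurd rfl hij

theorem exists_sq_ne_one (hq : 4 ≤ Nat.card F) : ∃ b : Fˣ, (b : F) ^ 2 ≠ 1 := by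
  classical
  have : Fintype F := Fintype.ofFinite F
  by_contra hc
  push Not at hc
  have hsub : (Finset.univ : Finset F) ⊆ {0, 1, -1} := fun x _ => by
    rcases eq_or_ne x 0 with rfl | hx
    · simp
    · have := sq_eq_one_iff.1 (hc (Units.mk0 x hx))
      rcases this with h | h <;> simp at h <;> simp [h]
  have := Finset.card_le_card hsub
  rw [Finset.card_univ, ← Nat.card_eq_fintype_card] at this
  have := this.trans Finset.card_le_three
  omega

/-- An additive subgroup closed under multiplication by squares and containing a non-zero element is everything. -/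
theorem sq_closed_top {Z : AddSubgroup F} (hcl : ∀ a : F, ∀ c ∈ Z, a ^ 2 * c ∈ Z) (hne : Z ≠ ⊥) : Z = ⊤ := by
  obtain ⟨c, hc, hc0⟩ : ∃ c ∈ Z, c ≠ 0 := by
    by_contra h; push Not at h; exact hne ((AddSubgroup.eq_bot_iff_forall _).2 h)
  rw [eq_top_iff]
  intro x _
  by_cases h2 : (2 : F) = 0
  · obtain ⟨r, hr⟩ : ∃ r : F, r ^ 2 = x / c := by
      haveI : CharP F 2 := CharTwo.of_one_ne_zero_of_two_eq_zero one_ne_zero h2
      have hinj : Function.Injective fun r : F => r ^ 2 := fun r s h => by
        have h' : (r - s) ^ 2 = 0 := by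
          linear_combination (h : r ^ 2 = s ^ 2) + (s ^ 2 - r * s) * h2
        exact sub_eq_zero.1 (pow_eq_zero_iff two_ne_zero |>.1 h')
      exact (Finite.injective_iff_surjective.1 hinj) (x / c)
    have := hcl r c hc
    rwa [hr, div_mul_cancel₀ _ hc0] at this
  · set y := x / (4 * c) with hy
    have h4 : (4 : F) ≠ 0 := by
      rw [show (4 : F) = 2 * 2 by norm_num]; exact mul_ne_zero h2 h2
    have h := Z.sub_mem (hcl (y + 1) c hc) (hcl (y - 1) c hc)
    convert h using 1
    rw [hy]
    field_simp
    ring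

/-- A proper subgroup has index at least (q + 2) / 2. -/
theorem index_ge (hq : 4 ≤ Nat.card F) (J : Subgroup SL(2, F)) (hJ : J ≠ ⊤) : Nat.card F + 2 ≤ 2 * J.index := by
  classical
  have : Fintype F := Fintype.ofFinite F
  suffices key : ∀ J : Subgroup SL(2, F), ¬ (∀ c, up c ∈ J) → Nat.card F + 2 ≤ 2 * J.index by
    by_cases h1 : ∀ c, up c ∈ J
    · by_cases h2 : ∀ c, wey * up c * (wey (F := F))⁻¹ ∈ J
      · exact absurd (eq_top_of_up J h1 h2) hJ
      · have := key (J.comap (MulAut.conj (wey (F := F))).toMonoidHom) fun h => h2 fun c => by simpa using h c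
        rwa [Subgroup.index_comap_of_surjective _ (MulAut.conj (wey (F := F))).surjective] at this
    · exact key J h1
  intro J hnot
  -- the diagonal and upper unipotent parts
  let Bor : Subgroup SL(2, F) :=
    { carrier := {g | g.1 1 0 = 0}
      mul_mem' := fun {a b} (ha : a.1 1 0 = 0) (hb : b.1 1 0 = 0) => by
        show (a * b).1 1 0 = 0
        simp [Matrix.SpecialLinearGroup.coe_mul, Matrix.mul_apply, Fin.sum_univ_two, ha, hb]
      one_mem' := by show (1 : SL(2, F)).1 1 0 = 0; simp
      inv_mem' := fun {a} (ha : a.1 1 0 = 0) => by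
        show (a⁻¹).1 1 0 = 0
        simp [Matrix.SpecialLinearGroup.coe_inv, Matrix.adjugate_fin_two, ha] }
  have hd : ∀ g : Bor, g.1.1 0 0 * g.1.1 1 1 = 1 := fun g => by
    have h := g.1.2
    rw [det_fin_two, (g.2 : g.1.1 1 0 = 0), mul_zero, sub_zero] at h
    exact h
  let f : Bor →* Fˣ := MonoidHom.mk' (fun g => ⟨g.1.1 0 0, g.1.1 1 1, hd g, by rw [mul_comm]; exact hd g⟩)
    fun g g' => Units.ext (by
      show (g.1 * g'.1).1 0 0 = g.1.1 0 0 * g'.1.1 0 0
      rw [Matrix.SpecialLinearGroup.coe_mul, Matrix.mul_apply, Fin.sum_univ_two, (g'.2 : g'.1.1 1 0 = 0), mul_zero,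
        add_zero])
  have hupB : ∀ c, up c ∈ Bor := fun c => by show (up c).1 1 0 = 0; simp [up_coe]
  let ι : Multiplicative F →* Bor := MonoidHom.mk' (fun c => ⟨up c.toAdd, hupB _⟩) fun c d =>
    Subtype.ext (by show up _ = up _ * up _; exact up_add _ _)
  have hf : Function.Surjective f := fun b => ⟨⟨dia b, by show (dia b).1 1 0 = 0; simp [dia_coe]⟩,
    Units.ext (by show (dia b).1 0 0 = b; simp [dia_coe])⟩
  have hι : ι.range = f.ker := by
    ext g
    constructor
    · rintro ⟨c, rfl⟩
      refine Units.ext ?_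
      show (up c.toAdd).1 0 0 = 1
      simp [up_coe]
    · intro hg
      have h00 : g.1.1 0 0 = 1 := congrArg Units.val hg
      have h11 : g.1.1 1 1 = 1 := by simpa [h00] using hd g
      refine ⟨Multiplicative.ofAdd (g.1.1 0 1), Subtype.ext (Subtype.ext ?_)⟩
      show (up (g.1.1 0 1)).1 = g.1.1
      rw [up_coe]
      ext i j
      fin_cases i <;> fin_cases j <;> simp [h00, h11, (g.2 : g.1.1 1 0 = 0).symm, (g.2 : g.1.1 1 0 = 0)]
  have hs := SU.index_split f hf ι hι (J.subgroupOf Bor)
  let Z : AddSubgroup F :=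
    { carrier := {c | up c ∈ J}
      zero_mem' := by show up (0 : F) ∈ J; rw [up_zero]; exact J.one_mem
      add_mem' := fun {a b} (ha : up a ∈ J) (hb : up b ∈ J) => by
        show up (a + b) ∈ J; rw [up_add]; exact J.mul_mem ha hb
      neg_mem' := fun {a} (ha : up a ∈ J) => by
        show up (-a) ∈ J
        have : up (-a) * up a = 1 := by rw [← up_add, neg_add_cancel, up_zero]
        rw [eq_inv_of_mul_eq_one_left this]; exact J.inv_mem ha }
  have eZ : (J.subgroupOf Bor).comap ι = AddSubgroup.toSubgroup Z := by ext c; exact Iff.rfl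
  rw [eZ, AddSubgroup.index_toSubgroup] at hs
  set T := (J.subgroupOf Bor).map f with hT
  have hTZ : ∀ a ∈ T, ∀ c ∈ Z, (a : F) ^ 2 * c ∈ Z := by
    rintro _ ⟨g, hg, rfl⟩ c hc
    show up ((g.1.1 0 0) ^ 2 * c) ∈ J
    have := J.mul_mem (J.mul_mem (show g.1 ∈ J from hg) hc) (J.inv_mem (show g.1 ∈ J from hg))
    rw [up, conj_rootHomSL_mem_of_upper g.2] at this
    rwa [toAdd_ofAdd, mul_comm] at this
  have hle : T.index * Z.index ≤ J.index := by
    rw [← hs, ← Subgroup.relIndex_top_right J]
    exact Subgroup.relIndex_le_of_le_right le_top Subgroup.index_ne_zero_of_finite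
  have hZ : Z ≠ ⊤ := fun h => hnot fun c => show c ∈ Z from h ▸ AddSubgroup.mem_top c
  have hcz := Z.card_mul_index
  have hz2 : 2 ≤ Z.index := by
    have : Z.index ≠ 0 := AddSubgroup.index_ne_zero_of_finite
    have : Z.index ≠ 1 := fun h1 => hZ (AddSubgroup.index_eq_one.1 h1)
    omega
  have ht0 : 1 ≤ T.index := Nat.pos_of_ne_zero Subgroup.index_ne_zero_of_finite
  rcases Nat.lt_or_ge T.index 2 with ht | ht
  · have hT1 : T = ⊤ := Subgroup.index_eq_one.1 (by omega)
    have hbot : Z = ⊥ := by
      by_contra hb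
      refine hZ (sq_closed_top (fun a c hc => ?_) hb)
      rcases eq_or_ne a 0 with rfl | ha
      · rw [zero_pow two_ne_zero, zero_mul]; exact Z.zero_mem
      · exact hTZ (Units.mk0 a ha) (hT1 ▸ Subgroup.mem_top _) c hc
    rw [hbot, AddSubgroup.card_bot, one_mul] at hcz
    have : Z.index ≤ T.index * Z.index := Nat.le_mul_of_pos_left _ ht0
    rw [hbot] at this hle
    omega
  -- counting the scalars
  have hT1 : Nat.card T + 2 ≤ 2 * Z.index := by
    obtain ⟨x, -, hx⟩ := SetLike.exists_of_lt (lt_top_iff_ne_top.2 hZ)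
    let R : Set F := insert 0 ((fun a : Fˣ => (a : F) ^ 2) '' (T : Set Fˣ))
    have hR : Nat.card R ≤ Z.index := by
      refine Nat.card_le_card_of_injective (β := F ⧸ Z) (fun r : R => (QuotientAddGroup.mk (r.1 * x) : F ⧸ Z))
        fun r r' h => ?_
      by_contra hne
      have h' : (r'.1 - r.1) * x ∈ Z := by
        have := QuotientAddGroup.eq.1 h
        rw [neg_add_eq_sub, ← sub_mul] at this
        exact this
      have hRZ : ∀ s ∈ R, ∀ c ∈ Z, s * c ∈ Z := by
        rintro s (rfl | ⟨a, ha, rfl⟩) c hc
        · rw [zero_mul]; exact Z.zero_mem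
        · exact hTZ a ha c hc
      let M : Subsemiring F :=
        { carrier := {s | ∀ c ∈ Z, s * c ∈ Z}
          mul_mem' := fun {a b} ha hb c hc => by rw [mul_assoc]; exact ha _ (hb _ hc)
          one_mem' := fun c hc => by rw [one_mul]; exact hc
          add_mem' := fun {a b} ha hb c hc => by rw [add_mul]; exact Z.add_mem (ha _ hc) (hb _ hc)
          zero_mem' := fun c hc => by rw [zero_mul]; exact Z.zero_mem }
      set d := r'.1 - r.1 with hd
      have hdM : d ∈ M := fun c hc => by
        rw [hd, sub_mul]; exact Z.sub_mem (hRZ _ r'.2 c hc) (hRZ _ r.2 c hc)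
      have hd0 : d ≠ 0 := sub_ne_zero.2 fun e => hne (Subtype.ext e.symm)
      have hinv : d⁻¹ ∈ M := by
        have hpos : 2 ≤ Fintype.card F := by
          rw [← Nat.card_eq_fintype_card]; omega
        have e : d ^ (Fintype.card F - 2) * d = 1 := by
          rw [← pow_succ, show Fintype.card F - 2 + 1 = Fintype.card F - 1 by omega]
          exact FiniteField.pow_card_sub_one_eq_one d hd0
        rw [← eq_inv_of_mul_eq_one_left e]
        exact pow_mem hdM _
      have := hinv _ h'
      rw [← mul_assoc, inv_mul_cancel₀ hd0, one_mul] at this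
      exact hx this
    have hR2 : Nat.card T + 2 ≤ 2 * Nat.card R := by
      have hsurj : Nat.card T + 2 ≤ Nat.card (↥R × Bool) := by
        have : Nat.card (Option (Option T)) ≤ Nat.card (↥R × Bool) := by
          let s : F → Bool := fun a => decide ((Fintype.equivFin F a : ℕ) ≤ (Fintype.equivFin F (-a) : ℕ))
          refine Nat.card_le_card_of_injective (fun o => o.elim (⟨0, Set.mem_insert _ _⟩, false) fun o' =>
            o'.elim (⟨0, Set.mem_insert _ _⟩, true) fun a =>
              (⟨((a : Fˣ) : F) ^ 2, Set.mem_insert_of_mem _ ⟨_, a.2, rfl⟩⟩, s ((a : Fˣ) : F))) ?_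
          rintro (_ | _ | a) (_ | _ | b) e
          all_goals simp only [Option.elim] at e
          · rfl
          · simp at e
          · exact absurd (congrArg (fun z : ↥R × Bool => (z.1 : F)) e).symm
              (pow_ne_zero 2 (b : Fˣ).ne_zero)
          · simp at e
          · rfl
          · exact absurd (congrArg (fun z : ↥R × Bool => (z.1 : F)) e).symm
              (pow_ne_zero 2 (b : Fˣ).ne_zero)
          · exact absurd (congrArg (fun z : ↥R × Bool => (z.1 : F)) e) (pow_ne_zero 2 (a : Fˣ).ne_zero)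
          · exact absurd (congrArg (fun z : ↥R × Bool => (z.1 : F)) e) (pow_ne_zero 2 (a : Fˣ).ne_zero)
          · have h1 := congrArg (fun z : ↥R × Bool => (z.1 : F)) e
            have h2 := congrArg (fun z : ↥R × Bool => z.2) e
            simp only [s] at h1 h2
            rcases sq_eq_sq_iff_eq_or_eq_neg.1 h1 with h | h
            · exact congrArg (some ∘ some) (Subtype.ext (Units.ext h))
            · refine congrArg (some ∘ some) (Subtype.ext (Units.ext ?_))
              rw [h, neg_neg, decide_eq_decide] at h2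
              set u := ((b : Fˣ) : F) with hu
              by_contra hne
              have hne' : (Fintype.equivFin F (-u) : ℕ) ≠ (Fintype.equivFin F u : ℕ) := fun e' =>
                hne (h.trans ((Fintype.equivFin F).injective (Fin.val_injective e')))
              omega
        rw [Finite.card_option, Finite.card_option] at this
        omega
      rw [Nat.card_prod, Nat.card_eq_fintype_card (α := Bool), Fintype.card_bool] at hsurj
      omega
    omega
  have hci := T.index_mul_card
  have := Nat.card_units F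
  have hmul := Nat.mul_le_mul_left T.index hT1
  rw [Nat.mul_add] at hmul
  have : T.index * (2 * Z.index) = 2 * (T.index * Z.index) := by ring
  omega

/-- There is no proper normal subgroup of index at most q + 1. -/
theorem normal_eq_top (hq : 4 ≤ Nat.card F) (N : Subgroup SL(2, F)) [N.Normal] (hN : N.index ≤ Nat.card F + 1) :
    N = ⊤ := by
  classical
  have : Fintype F := Fintype.ofFinite F
  let Z : AddSubgroup F :=
    { carrier := {c | up c ∈ N}
      zero_mem' := by show up (0 : F) ∈ N; rw [up_zero]; exact N.one_mem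
      add_mem' := fun {a b} (ha : up a ∈ N) (hb : up b ∈ N) => by
        show up (a + b) ∈ N; rw [up_add]; exact N.mul_mem ha hb
      neg_mem' := fun {a} (ha : up a ∈ N) => by
        show up (-a) ∈ N
        have : up (-a) * up a = 1 := by rw [← up_add, neg_add_cancel, up_zero]
        rw [eq_inv_of_mul_eq_one_left this]; exact N.inv_mem ha }
  by_cases hZ : Z = ⊥
  swap
  · have hT : Z = ⊤ := sq_closed_top (fun a c hc => by
      rcases eq_or_ne a 0 with rfl | ha
      · rw [zero_pow two_ne_zero, zero_mul]; exact Z.zero_mem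
      · show up (a ^ 2 * c) ∈ N
        have := Subgroup.Normal.conj_mem (H := N) inferInstance _ hc (dia (Units.mk0 a ha))
        rwa [dia_conj_up] at this) hZ
    have hup : ∀ c, up c ∈ N := fun c => show c ∈ Z from hT ▸ AddSubgroup.mem_top c
    exact eq_top_of_up N hup fun c => Subgroup.Normal.conj_mem inferInstance _ (hup c) wey
  exfalso
  obtain ⟨b, hb⟩ := exists_sq_ne_one hq
  let φ : Multiplicative F →* SL(2, F) ⧸ N := (QuotientGroup.mk' N).comp rootHomSL
  have hφ : Function.Injective φ := (injective_iff_map_eq_one φ).2 fun c hc => by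
    have : Multiplicative.toAdd c ∈ Z := by
      show up (Multiplicative.toAdd c) ∈ N
      exact (QuotientGroup.eq_one_iff _).1 hc
    rw [hZ, AddSubgroup.mem_bot] at this
    exact Multiplicative.toAdd.injective (by rw [this]; rfl)
  have hdvd := Subgroup.card_dvd_of_injective φ hφ
  rw [Nat.card_congr Multiplicative.toAdd] at hdvd
  have hidx : Nat.card (SL(2, F) ⧸ N) = N.index := rfl
  rw [hidx] at hdvd
  have hN0 : 0 < N.index := Nat.pos_of_ne_zero Subgroup.index_ne_zero_of_finite
  have heq : N.index = Nat.card F := by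
    obtain ⟨k, hk⟩ := hdvd
    rcases Nat.lt_or_ge k 2 with hk2 | hk2
    · have : k = 1 := by
        rcases Nat.eq_zero_or_pos k with rfl | h
        · rw [mul_zero] at hk; omega
        · omega
      rw [hk, this, mul_one]
    · have := Nat.mul_le_mul_left (Nat.card F) hk2
      omega
  have hsurj : Function.Surjective φ := by
    have := Fintype.ofFinite (SL(2, F) ⧸ N)
    refine ((Fintype.bijective_iff_injective_and_card φ).2 ⟨hφ, ?_⟩).2
    rw [← Nat.card_eq_fintype_card, ← Nat.card_eq_fintype_card, Nat.card_congr Multiplicative.toAdd, hidx, heq]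
  have hcomm : ∀ x y : SL(2, F) ⧸ N, x * y = y * x := fun x y => by
    obtain ⟨a, rfl⟩ := hsurj x
    obtain ⟨c, rfl⟩ := hsurj y
    rw [← map_mul, ← map_mul, mul_comm]
  have e : φ (Multiplicative.ofAdd ((b : F) ^ 2 * 1)) = φ (Multiplicative.ofAdd 1) := by
    show QuotientGroup.mk' N (up ((b : F) ^ 2 * 1)) = QuotientGroup.mk' N (up 1)
    rw [← dia_conj_up, map_mul, map_mul, map_inv, hcomm, inv_mul_cancel_left]
  exact hb (by simpa using Multiplicative.ofAdd.injective (hφ e))

end Cfsg.Agent.MinIndexForm.O
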