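import Cfsg.Agent.Classical.OrthSimple
import Cfsg.Agent.MinIndexForm.O.SL2

/-!
Singular vectors of a non-degenerate space: enough of them, a rank one identity, orbits of totally isotropic
subspaces, and the stabiliser of a point of the projective line.
-/

set_option autoImplicit false

namespace Cfsg.Agent.MinIndexForm.O

open Cfsg.Agent.Classical Cfsg.Agent.Classical.Quad Module QuadraticMap Matrix
open scoped MatrixGroups

section Space

variable {F U : Type*} [Field F] [Finite F] [AddCommGroup U] [Module F U] [FiniteDimensional F U]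
  {R : QuadraticForm F U} (hR : (polarBilin R).Nondegenerate) (hd : 3 ≤ finrank F U)
include hR hd

/-- Singular vectors detect every non-zero vector. -/
theorem exists_sing_polar {a : U} (ha : a ≠ 0) : ∃ e, e ≠ 0 ∧ R e = 0 ∧ polar R a e ≠ 0 := by
  suffices ∃ e, R e = 0 ∧ polar R a e ≠ 0 by
    obtain ⟨e, he, h⟩ := this
    exact ⟨e, fun h0 => h (by simp [h0, polar]), he, h⟩
  obtain ⟨e, he0, he⟩ := exists_singular R hd
  obtain ⟨f, hf, hef⟩ := exists_hyp_pair hR he0 he
  by_cases h1 : polar R a e = 0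
  swap
  · exact ⟨e, he, h1⟩
  by_cases h2 : polar R a f = 0
  swap
  · exact ⟨f, hf, h2⟩
  have hm : a ∈ perpPair R e f := mem_perpPair.2 ⟨by rw [polar_comm, h1], by rw [polar_comm, h2]⟩
  obtain ⟨v, hv⟩ : ∃ v : perpPair R e f, polar (restrictPair R e f) ⟨a, hm⟩ v ≠ 0 := by
    by_contra h
    push Not at h
    exact ha (congrArg Subtype.val (eq_zero_of_polar (nondeg_restrictPair hR he hf hef) h))
  have hv' : polar R a (v : U) ≠ 0 := hv
  obtain ⟨hev, hfv⟩ := mem_perpPair.1 v.2
  refine ⟨e + (-R v) • f + v, ?_, ?_⟩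
  · rw [map_add', map_add_smul, he, hf, hef, polar_add_left, polar_smul_left, hev, hfv]; simp
  · simpa [polar_add_right, polar_smul_right, h1, h2] using hv'

/-- Two vectors at a singular one with a given polar value. -/
theorem exists_perp_pair {e : U} (he0 : e ≠ 0) (he : R e = 0) (c : F) :
    ∃ u u', polar R e u = 0 ∧ polar R e u' = 0 ∧ polar R u u' = c := by
  obtain ⟨f, hf, hef⟩ := exists_hyp_pair hR he0 he
  have hdim := finrank_perpPair (Q := R) he hf hef
  have : Nontrivial (perpPair R e f) := Module.nontrivial_of_finrank_pos (R := F) (by omega)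
  obtain ⟨u, hu⟩ := exists_ne (0 : perpPair R e f)
  obtain ⟨w, hw⟩ : ∃ w : perpPair R e f, polar (restrictPair R e f) u w ≠ 0 := by
    by_contra h
    push Not at h
    exact hu (eq_zero_of_polar (nondeg_restrictPair hR he hf hef) h)
  have hw' : polar R (u : U) (w : U) ≠ 0 := hw
  refine ⟨u, (c / polar R (u : U) (w : U)) • (w : U), (mem_perpPair.1 u.2).1,
    polar_perp_smul (mem_perpPair.1 w.2).1 _, ?_⟩
  rw [polar_smul_right, smul_eq_mul, div_mul_cancel₀ _ hw']

/-- An additive subgroup of pairs invariant under the diagonal Siegel transformations. -/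
theorem pair_rank_one (S : AddSubgroup (U × U))
    (hS : ∀ (e u : U) (he : R e = 0) (hu : polar R e u = 0), ∀ x ∈ S, ((sO he hu).1 x.1, (sO he hu).1 x.2) ∈ S)
    (hne : S ≠ ⊥) :
    ∃ r : F × F, r ≠ 0 ∧ (∀ v : U, (r.1 • v, r.2 • v) ∈ S) ∧
      ((∀ x ∈ S, r.2 • x.1 = r.1 • x.2) ∨ S = ⊤) := by
  classical
  -- the elementary operation
  have key : ∀ e : U, R e = 0 → ∀ c : F, ∀ x ∈ S, ((c * polar R x.1 e) • e, (c * polar R x.2 e) • e) ∈ S := by
    intro e he c x hx
    rcases eq_or_ne e 0 with rfl | he0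
    · simp
      exact S.zero_mem
    obtain ⟨u, u', hu, hu', huu⟩ := exists_perp_pair hR hd he0 he (-c)
    have h := S.add_mem (S.sub_mem (S.sub_mem (hS e _ he (polar_perp_add hu hu') x hx) (hS e u he hu x hx))
      (hS e u' he hu' x hx)) hx
    convert h using 1
    refine Prod.ext ?_ ?_ <;>
    · simp only [Prod.fst_sub, Prod.snd_sub, Prod.fst_add, Prod.snd_add, sO_apply, map_add', polar_add_right, huu]
      match_scalars <;> ring
  -- one vector gives a full line
  have full : ∀ x ∈ S, ∀ e, R e = 0 → ∀ v : U, (polar R x.1 e • v, polar R x.2 e • v) ∈ S := by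
    intro x hx e he
    by_cases hboth : polar R x.1 e = 0 ∧ polar R x.2 e = 0
    · intro v
      rw [hboth.1, hboth.2, zero_smul]
      exact S.zero_mem
    · have he0 : e ≠ 0 := fun h0 => hboth ⟨by simp [h0, polar], by simp [h0, polar]⟩
      let T : Submodule F U :=
        { carrier := {v | ∀ c : F, ((c * polar R x.1 e) • v, (c * polar R x.2 e) • v) ∈ S}
          zero_mem' := fun c => by simp; exact S.zero_mem
          add_mem' := fun {a b} ha hb c => by
            rw [smul_add, smul_add]; exact S.add_mem (ha c) (hb c)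
          smul_mem' := fun d v hv c => by
            rw [smul_smul, smul_smul]
            convert hv (c * d) using 2 <;> ring_nf }
      have hsing : ∀ w, R w = 0 → w ∈ T := by
        intro w hw
        rcases eq_or_ne w 0 with rfl | hw0
        · exact T.zero_mem
        obtain ⟨z, hz, hze, hzw⟩ := exists_common hR hd he0 he hw0 hw
        intro c
        have hA := key e he 1 x hx
        have hB := key z hz 1 _ hA
        have hC := key w hw (c / (polar R z e * polar R z w)) _ hB
        convert hC using 2 <;>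
        · simp only [one_mul, polar_smul_left, smul_eq_mul, polar_comm R e z, polar_comm R w z]
          congr 1
          field_simp
      have hT : T = ⊤ := by
        by_contra hne'
        obtain ⟨a, -, ha⟩ := SetLike.exists_of_lt (lt_top_iff_ne_top.2 hne')
        obtain ⟨φ, hφ, hφT⟩ := Submodule.exists_dual_map_eq_bot_of_notMem ha inferInstance
        set b := (LinearMap.BilinForm.toDual (polarBilin R) hR).symm φ with hb
        have hb0 : b ≠ 0 := fun h0 => hφ (by
          rw [hb, LinearEquiv.map_eq_zero_iff] at h0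
          simp [h0])
        obtain ⟨w, -, hw, hbw⟩ := exists_sing_polar hR hd hb0
        refine hbw ?_
        have h : φ w ∈ T.map φ := ⟨w, hsing w hw, rfl⟩
        rw [hφT, Submodule.mem_bot] at h
        rw [← LinearMap.BilinForm.apply_toDual_symm_apply (hB := hR) (f := φ) w, ← hb] at h
        simpa using h
      intro v
      have h := (hT ▸ Submodule.mem_top : v ∈ T) 1
      rwa [one_mul, one_mul] at h
  obtain ⟨x, hx, hx0⟩ : ∃ x ∈ S, x ≠ 0 := by
    by_contra h; push Not at h; exact hne ((AddSubgroup.eq_bot_iff_forall _).2 h)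
  obtain ⟨e, he, hr⟩ : ∃ e, R e = 0 ∧ ((polar R x.1 e, polar R x.2 e) : F × F) ≠ 0 := by
    rcases not_and_or.1 (fun h : x.1 = 0 ∧ x.2 = 0 => hx0 (Prod.ext h.1 h.2)) with h | h <;>
    · obtain ⟨e, -, he, h'⟩ := exists_sing_polar hR hd h
      exact ⟨e, he, fun e' => h' (by simp_all [Prod.ext_iff])⟩
  refine ⟨(polar R x.1 e, polar R x.2 e), hr, full x hx e he, ?_⟩
  by_cases hind : ∀ y ∈ S, polar R x.2 e • y.1 = polar R x.1 e • y.2
  · exact Or.inl hind
  refine Or.inr (eq_top_iff.2 fun v _ => ?_)
  push Not at hind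
  obtain ⟨y, hy, hne'⟩ := hind
  obtain ⟨e', -, he', hye⟩ := exists_sing_polar hR hd (sub_ne_zero.2 hne')
  set r1 := polar R x.1 e
  set r2 := polar R x.2 e
  set s1 := polar R y.1 e'
  set s2 := polar R y.2 e'
  have hdet : r2 * s1 - r1 * s2 ≠ 0 := by
    rw [sub_eq_add_neg, polar_add_left, ← neg_smul, polar_smul_left, polar_smul_left] at hye
    simpa [s1, s2, sub_eq_add_neg] using hye
  set D := r2 * s1 - r1 * s2
  have h := S.add_mem (full x hx e he ((D⁻¹ * (-s2)) • v.1 + (D⁻¹ * s1) • v.2))
    (full y hy e' he' ((D⁻¹ * r2) • v.1 + (D⁻¹ * (-r1)) • v.2))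
  convert h using 1
  refine Prod.ext ?_ ?_ <;>
  · simp only [Prod.fst_add, Prod.snd_add]
    match_scalars <;> field_simp <;> ring

/-- The stabiliser of a totally isotropic subspace has large index. -/
theorem index_stab_ge {L : Subgroup (oG R)} (hL : eo R ≤ L) (X : Submodule F U)
    (hX : ∀ x ∈ X, ∀ y ∈ X, polar R x y = 0) {x0 : U} (hx0 : x0 ≠ 0) (hxs : R x0 = 0) (hxX : x0 ∈ X)
    (I : Subgroup L) (hI : ∀ l ∈ I, ∀ x ∈ X, l.1.1 x ∈ X) :
    Nat.card F ^ (finrank F U - 1 - finrank F X) + 1 ≤ I.index := by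
  have : Finite U := Module.finite_of_finite F
  have : Finite (oG R) := by
    have : Finite (U ≃ₗ[F] U) := Finite.of_injective (fun g : U ≃ₗ[F] U => (g : U → U)) DFunLike.coe_injective
    infer_instance
  obtain ⟨e, he, hxe⟩ := exists_hyp_pair hR hx0 hxs
  have hex : polar R e x0 = 1 := by rw [polar_comm, hxe]
  set C0 := perpPair R e x0 with hC0
  have hmem : ∀ x : U, polar R e x = 0 → x + (-polar R x0 x) • e ∈ C0 := fun x hx => mem_perpPair.2
    ⟨by simp [polar_add_right, polar_smul_right, hx, polar_self', he],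
      by simp [polar_add_right, polar_smul_right, hxe]⟩
  let Xe : Submodule F U := X ⊓ LinearMap.ker (polarBilin R e)
  let π : Xe →ₗ[F] C0 :=
    { toFun := fun x => ⟨(x : U) + (-polar R x0 (x : U)) • e, hmem _ x.2.2⟩
      map_add' := fun x y => Subtype.ext (by simp [polar_add_right]; module)
      map_smul' := fun c x => Subtype.ext (by simp [polar_smul_right]; module) }
  obtain ⟨C, hC⟩ := Submodule.exists_isCompl (LinearMap.range π)
  have hXe : finrank F Xe + 1 ≤ finrank F X := by
    have hlt : Xe < X := lt_of_le_of_ne inf_le_left fun h => by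
      have : x0 ∈ Xe := h.symm ▸ hxX
      exact one_ne_zero (hex.symm.trans this.2)
    exact Submodule.finrank_lt_finrank_of_lt hlt
  have hC' : finrank F U ≤ finrank F C + finrank F X + 1 := by
    have h1 := Submodule.finrank_add_eq_of_isCompl hC
    have h2 := LinearMap.finrank_range_le π
    have h3 := finrank_perpPair (Q := R) he hxs hex
    rw [← hC0] at h3
    omega
  obtain ⟨g, hg, t, ht, hgx⟩ := exists_eo_point hR hd hx0 hxs (fun h : e = 0 => by simp [h, polar] at hex) he
  have hu : ∀ u : C, polar R e ((u : C0) : U) = 0 := fun u => (mem_perpPair.1 (u : C0).2).1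
  let f : Option C → L ⧸ I := fun o => o.elim ((⟨g, hL hg⟩ : L) : L ⧸ I)
    fun u => ((⟨sO he (hu u), hL (sO_mem_eo _ _)⟩ : L) : L ⧸ I)
  have hinj : Function.Injective f := by
    have hsome : ∀ u : C, (⟨g, hL hg⟩ : L)⁻¹ * ⟨sO he (hu u), hL (sO_mem_eo _ _)⟩ ∉ I := fun u hmemI => by
      have h := hI _ (I.inv_mem hmemI) x0 hxX
      rw [_root_.mul_inv_rev, inv_inv] at h
      have h' : ((sO he (hu u))⁻¹).1 (g.1 x0) ∈ X := h
      rw [hgx, map_smul, sO_inv, sO_apply, polar_neg_right, hu u, polar_self', he] at h'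
      simp only [neg_zero, mul_zero, zero_smul, add_zero] at h'
      have h1 := hX _ hxX _ h'
      rw [polar_smul_right, hxe, smul_eq_mul, mul_one] at h1
      exact ht h1
    rintro (_ | u) (_ | u') e'
    · rfl
    · exact absurd (QuotientGroup.eq.1 e') (hsome u')
    · exact absurd (QuotientGroup.eq.1 e'.symm) (hsome u)
    · refine congrArg some ?_
      have hmemI := QuotientGroup.eq.1 e'
      have h := hI _ hmemI x0 hxX
      have h' : ((sO he (hu u))⁻¹ * sO he (hu u')).1 x0 ∈ X := h
      rw [sO_inv, sO_mul, sO_apply, polar_add_right, polar_neg_right] at h'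
      set d : C0 := ((-u + u' : C) : C0) with hd'
      have hd2 := mem_perpPair.1 d.2
      have hdU : ((d : C0) : U) = -((u : C0) : U) + ((u' : C0) : U) := by simp [hd']
      rw [(mem_perpPair.1 (u : C0).2).2, (mem_perpPair.1 (u' : C0).2).2, ← hdU] at h'
      simp only [hxe, neg_zero, add_zero, zero_smul, mul_one, neg_one_smul] at h'
      have hy : (d : U) + R (d : U) • e ∈ X := by
        have h2 := X.sub_mem hxX h'
        convert h2 using 1
        module
      let y : Xe := ⟨_, hy, by
        show polar R e ((d : U) + R (d : U) • e) = 0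
        rw [polar_add_right, polar_smul_right, hd2.1, polar_self', he]; simp⟩
      have hπ : π y = d := Subtype.ext (by
        show (d : U) + R (d : U) • e + (-polar R x0 ((d : U) + R (d : U) • e)) • e = (d : U)
        rw [polar_add_right, polar_smul_right, hd2.2, hxe]
        simp)
      have hd0 : (d : C0) = 0 := by
        have : (d : C0) ∈ LinearMap.range π ⊓ C := ⟨⟨y, hπ⟩, (-u + u' : C).2⟩
        rwa [hC.inf_eq_bot, Submodule.mem_bot] at this
      have : -u + u' = 0 := Subtype.ext hd0
      exact neg_add_eq_zero.1 this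
  have := Nat.card_le_card_of_injective f hinj
  rw [Finite.card_option, Module.natCard_eq_pow_finrank (K := F)] at this
  refine le_trans ?_ this
  exact Nat.add_le_add_right (Nat.pow_le_pow_right Nat.card_pos (by omega)) 1

end Space

/-- The stabiliser of a point of the projective line. -/
theorem index_line_stab {F : Type*} [Field F] [Finite F] {r : F × F} (hr : r ≠ 0) (J : Subgroup SL(2, F))
    (hJ : ∀ A ∈ J, ∃ t : F, A.1 0 0 * r.1 + A.1 0 1 * r.2 = t * r.1 ∧ A.1 1 0 * r.1 + A.1 1 1 * r.2 = t * r.2) :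
    Nat.card F + 1 ≤ J.index := by
  classical
  have hdet : ∀ A : SL(2, F), A.1 0 0 * A.1 1 1 - A.1 0 1 * A.1 1 0 = 1 := fun A => by
    rw [← det_fin_two]; exact A.2
  -- a matrix sending the first basis vector to r
  obtain ⟨C, hC0, hC1⟩ : ∃ C : SL(2, F), C.1 0 0 = r.1 ∧ C.1 1 0 = r.2 := by
    by_cases h1 : r.1 = 0
    · have h2 : r.2 ≠ 0 := fun h2 => hr (Prod.ext h1 h2)
      exact ⟨⟨!![r.1, -r.2⁻¹; r.2, 0], by rw [det_fin_two]; simp [h1, h2]⟩, rfl, rfl⟩
    · exact ⟨⟨!![r.1, 0; r.2, r.1⁻¹], by rw [det_fin_two]; simp [h1]⟩, rfl, rfl⟩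
  set J' := J.comap (MulAut.conj C).toMonoidHom with hJ'
  have hJ'10 : ∀ B ∈ J', B.1 1 0 = 0 := fun B hB => by
    obtain ⟨t, h1, h2⟩ := hJ _ (show C * B * C⁻¹ ∈ J from hB)
    set A := C * B * C⁻¹ with hA
    have e : B = C⁻¹ * A * C := by rw [hA]; group
    rw [e]
    simp only [Matrix.SpecialLinearGroup.coe_mul, Matrix.SpecialLinearGroup.coe_inv, Matrix.adjugate_fin_two,
      Matrix.mul_apply, Fin.sum_univ_two]
    simp [hC0, hC1]
    linear_combination r.1 * h2 - r.2 * h1
  have hidx : J'.index = J.index := Subgroup.index_comap_of_surjective _ (MulAut.conj C).surjective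
  rw [← hidx, ← Finite.card_option]
  let f : Option F → SL(2, F) ⧸ J' := fun o => o.elim ((wey : SL(2, F)) : SL(2, F) ⧸ J')
    fun c => ((wey * up c * wey⁻¹ : SL(2, F)) : SL(2, F) ⧸ J')
  refine Nat.card_le_card_of_injective f ?_
  have hw : ∀ c : F, (wey : SL(2, F))⁻¹ * (wey * up c * wey⁻¹) ∉ J' := fun c hc => by
    have := hJ'10 _ hc
    rw [mul_assoc, inv_mul_cancel_left, Matrix.SpecialLinearGroup.coe_mul, Matrix.SpecialLinearGroup.coe_inv,
      Matrix.adjugate_fin_two, up_coe] at this
    simp [wey, Matrix.mul_apply, Fin.sum_univ_two] at this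
  rintro (_ | c) (_ | c') e
  · rfl
  · exact absurd (QuotientGroup.eq.1 e) (hw c')
  · exact absurd (QuotientGroup.eq.1 e.symm) (hw c)
  · have := hJ'10 _ (QuotientGroup.eq.1 e)
    rw [show (wey * up c * wey⁻¹)⁻¹ * (wey * up c' * wey⁻¹) = wey * ((up c)⁻¹ * up c') * (wey (F := F))⁻¹ by group,
      show (up c)⁻¹ * up c' = up (-c + c') by
        rw [inv_mul_eq_iff_eq_mul, ← up_add, add_neg_cancel_left], low_eq] at this
    simp at this
    exact congrArg some (neg_add_eq_zero.1 this).symm

end Cfsg.Agent.MinIndexForm.O
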