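import Cfsg.Agent.MinIndexForm.O.Bounds
import Cfsg.Agent.MinIndexForm.O.Sing

/-!
At a line whose centre is not in the subgroup, the index is large unless one of two explicit configurations occurs.
-/

set_option autoImplicit false

namespace Cfsg.Agent.MinIndexForm.O

open Cfsg.Agent.Classical Cfsg.Agent.Classical.Quad Module QuadraticMap Matrix
open scoped MatrixGroups

universe uF uV

variable {F : Type uF} {V : Type uV} [Field F] [AddCommGroup V] [Module F V] {Q : QuadraticForm F V}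

/-- The stabiliser of a point of the projective line. -/
def lineStab (r : F × F) : Subgroup SL(2, F) where
  carrier := {A | r.2 * (A.1 0 0 * r.1 + A.1 0 1 * r.2) = r.1 * (A.1 1 0 * r.1 + A.1 1 1 * r.2)}
  one_mem' := by
    show r.2 * ((1 : SL(2, F)).1 0 0 * r.1 + (1 : SL(2, F)).1 0 1 * r.2) =
      r.1 * ((1 : SL(2, F)).1 1 0 * r.1 + (1 : SL(2, F)).1 1 1 * r.2)
    simp [mul_comm]
  mul_mem' {A B} (hA : _ = _) (hB : _ = _) := by
    show r.2 * ((A * B).1 0 0 * r.1 + (A * B).1 0 1 * r.2) = r.1 * ((A * B).1 1 0 * r.1 + (A * B).1 1 1 * r.2)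
    simp only [Matrix.SpecialLinearGroup.coe_mul, Matrix.mul_apply, Fin.sum_univ_two]
    rcases eq_or_ne r.1 0 with h1 | h1
    · rcases eq_or_ne r.2 0 with h2 | h2
      · simp [h1, h2]
      · have e1 : A.1 0 1 = 0 := by simpa [h1, h2] using hA
        have e2 : B.1 0 1 = 0 := by simpa [h1, h2] using hB
        simp [h1, e1, e2]
    · refine mul_left_cancel₀ h1 ?_
      linear_combination (B.1 0 0 * r.1 + B.1 0 1 * r.2) * hA + (A.1 0 1 * r.2 - A.1 1 1 * r.1) * (-1 : F) * hB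
  inv_mem' {A} (hA : _ = _) := by
    show r.2 * ((A⁻¹).1 0 0 * r.1 + (A⁻¹).1 0 1 * r.2) = r.1 * ((A⁻¹).1 1 0 * r.1 + (A⁻¹).1 1 1 * r.2)
    simp [Matrix.SpecialLinearGroup.coe_inv, Matrix.adjugate_fin_two]
    linear_combination -hA

theorem mem_lineStab {r : F × F} {A : SL(2, F)} :
    A ∈ lineStab r ↔ r.2 * (A.1 0 0 * r.1 + A.1 0 1 * r.2) = r.1 * (A.1 1 0 * r.1 + A.1 1 1 * r.2) := Iff.rfl

theorem index_lineStab [Finite F] {r : F × F} (hr : r ≠ 0) : Nat.card F + 1 ≤ (lineStab r).index :=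
  index_line_stab hr _ fun A hA => by
    rw [mem_lineStab] at hA
    by_cases h1 : r.1 = 0
    · have h2 : r.2 ≠ 0 := fun h2 => hr (Prod.ext h1 h2)
      refine ⟨A.1 1 1, ?_, by rw [h1]; ring⟩
      have e1 : A.1 0 1 = 0 := by simpa [h1, h2] using hA
      rw [h1, e1]; ring
    · refine ⟨(A.1 0 0 * r.1 + A.1 0 1 * r.2) / r.1, by field_simp, ?_⟩
      field_simp
      linear_combination -hA

namespace LF

variable (τ : LF Q) (K : Subgroup (eo Q))

/-- The first exceptional configuration. -/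
def AlphaBad (r : F × F) : Prop :=
  r ≠ 0 ∧ τ.Zp K = ⊥ ∧ (∀ v : τ.W, (r.1 • v, r.2 • v) ∈ τ.S K) ∧ (∀ x ∈ τ.S K, r.2 • x.1 = r.1 • x.2) ∧
    ∀ A ∈ lineStab r, ∃ g : τ.P1, g.1 ∈ K ∧ τ.sl g = A ∧ τ.lam ⟨g.1, g.2.1⟩ = 1

/-- The second exceptional configuration. -/
def BetaBad (Z : Submodule F τ.W) : Prop :=
  finrank F τ.W = 4 ∧ finrank F Z = 2 ∧ τ.Zp K = ⊥ ∧ (∀ v ∈ Z, τ.QW v = 0) ∧
    (∀ a b : τ.W, (a, b) ∈ τ.S K ↔ a ∈ Z ∧ b ∈ Z) ∧
    (∀ A : SL(2, F), ∃ g : τ.P1, g.1 ∈ K ∧ τ.sl g = A ∧ τ.lam ⟨g.1, g.2.1⟩ = 1) ∧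
    ∀ l : τ.L, (∀ z ∈ Z, l.1.1 z ∈ Z) → l ∈ τ.I K

variable [Finite F]

theorem lam_mem_L (g : τ.P1) : τ.lam ⟨g.1, g.2.1⟩ ∈ τ.L := by
  obtain ⟨h, hh, e⟩ := τ.exists_lev (τ.sl g)
  have h1 : τ.sl (h⁻¹ * g) = 1 := by rw [map_mul, map_inv, e, inv_mul_cancel]
  have h2 : (h⁻¹ * g).1 ∈ τ.P2 := τ.P2_of_mat (h⁻¹ * g).2.1 (congrArg Subtype.val h1)
  refine ⟨⟨_, h2⟩, ?_⟩
  show τ.lam ((⟨h.1, h.2.1⟩ : τ.P)⁻¹ * ⟨g.1, g.2.1⟩) = _
  rw [map_mul, map_inv, τ.lam_M hh, inv_one, one_mul]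

theorem lift_one {g : τ.P1} (hg : g.1 ∈ K) (h : (⟨_, τ.lam_mem_L g⟩ : τ.L) ∈ τ.I K) :
    ∃ g' : τ.P1, g'.1 ∈ K ∧ τ.sl g' = τ.sl g ∧ τ.lam ⟨g'.1, g'.2.1⟩ = 1 := by
  obtain ⟨k, hk, e⟩ := (τ.mem_I K).1 h
  refine ⟨g * ⟨k.1, τ.P2_le k.2⟩⁻¹, K.mul_mem hg (K.inv_mem hk), ?_, ?_⟩
  · rw [map_mul, map_inv, show τ.sl ⟨k.1, τ.P2_le k.2⟩ = 1 from Subtype.ext (τ.mat_P2 k.2), inv_one, mul_one]
  · have e' : τ.lam ⟨k.1, τ.P2_le_P k.2⟩ = τ.lam ⟨g.1, g.2.1⟩ := congrArg Subtype.val e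
    show τ.lam ((⟨g.1, g.2.1⟩ : τ.P) * (⟨k.1, τ.P2_le_P k.2⟩ : τ.P)⁻¹) = 1
    rw [map_mul, map_inv, e', mul_inv_cancel]

variable [FiniteDimensional F V]

theorem S_eq_bot_case {n m N : ℕ} (hn : finrank F V = n) (h7 : 7 ≤ n) (hm : n = m + 4) (hd : finrank F τ.W = m)
    (hq : 2 ≤ Nat.card F) (hN : N ≤ Nat.card F ^ (2 * m + 1)) (hZ : τ.Zp K ≠ ⊤) (hS : τ.S K = ⊥) :
    N ≤ K.index := by
  refine hN.trans (le_trans (le_of_eq ?_)
    (τ.index_ge_of K hn h7 hm (τ.tz_ge K hZ) (τ.one_le_J K) (τ.one_le_I K) le_rfl))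
  have := (τ.S K).card_mul_index
  rw [hS, AddSubgroup.card_bot, one_mul, τ.card_WW hd] at this
  rw [hS, this]
  ring

/-- The case of a full image on the complement. -/
theorem alpha_case {n m N : ℕ} (hn : finrank F V = n) (h7 : 7 ≤ n) (hm : n = m + 4)
    (hN : N ≤ Nat.card F ^ (m + 1) * (Nat.card F + 2)) (hZ : τ.Zp K ≠ ⊤)
    (hI : eo τ.QW ≤ (τ.I K).map τ.L.subtype) : N ≤ K.index ∨ ∃ r, τ.AlphaBad K r := by
  have hd : finrank F τ.W = m := by have := τ.finrank_W; omega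
  have hq : 2 ≤ Nat.card F := Finite.one_lt_card
  set q := Nat.card F with hqd
  by_cases hS : τ.S K = ⊥
  · refine Or.inl (τ.S_eq_bot_case K hn h7 hm hd hq ?_ hZ hS)
    refine hN.trans ?_
    rw [← hqd, show 2 * m + 1 = m + 1 + m by omega, pow_add q (m + 1) m]
    refine Nat.mul_le_mul_left _ ?_
    have : q ^ 2 ≤ q ^ m := Nat.pow_le_pow_right (by omega) (by omega)
    nlinarith
  obtain ⟨r, hr, hfull, hline⟩ := pair_rank_one τ.nondeg_W (by omega) (τ.S K) (fun e u he hu x hx => by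
    obtain ⟨l, hl, el⟩ := hI (sO_mem_eo he hu)
    have := τ.S_inv_I K hl (a := x.1) (b := x.2) hx
    rw [show l.1 = sO he hu from el] at this
    exact this) hS
  rcases hline with hline | htop
  swap
  · exfalso
    refine hZ ((AddSubgroup.eq_top_iff' _).2 fun c => ?_)
    have : Nontrivial τ.W := Module.nontrivial_of_finrank_pos (R := F) (by omega)
    obtain ⟨b, hb⟩ := exists_ne (0 : τ.W)
    obtain ⟨a', ha'⟩ := τ.exists_polar_value hb c
    have := τ.S_comm K (a := 0) (b := b) (a' := a') (b' := 0) (htop ▸ AddSubgroup.mem_top _)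
      (htop ▸ AddSubgroup.mem_top _)
    rwa [ha', Submodule.coe_zero, show polar Q (0 : V) 0 = 0 by simp [polar], sub_zero] at this
  have hJle : τ.J K ≤ lineStab r := by
    rintro _ ⟨g, hg, rfl⟩
    have : Nontrivial τ.W := Module.nontrivial_of_finrank_pos (R := F) (by omega)
    obtain ⟨v, hv⟩ := exists_ne (0 : τ.W)
    have h := hline _ (τ.S_inv K g.2.1 hg (hfull v))
    simp only [map_smul, smul_smul, ← add_smul] at h
    set v' := (τ.lam ⟨g.1, g.2.1⟩).1 v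
    have hv' : v' ≠ 0 := by simpa [v'] using hv
    rw [mem_lineStab, sl_coe]
    exact smul_left_injective F hv' h
  have hi2 := index_lineStab hr
  have hmul := Subgroup.relIndex_mul_index hJle
  have htz := τ.tz_ge K hZ
  have hw := τ.S_index_ge K hd hZ
  have hpow : q ^ (m + 1) * (q + 2) = q ^ m * (q * q + 2 * q) := by ring
  by_cases h1 : (τ.J K).relIndex (lineStab r) = 1 ∧ (τ.I K).index = 1
  swap
  · refine Or.inl (hN.trans ?_)
    have h2 : 2 * (q + 1) ≤ (τ.J K).index * (τ.I K).index := by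
      have hI1 := τ.one_le_I K
      have hJ0 : (τ.J K).relIndex (lineStab r) ≠ 0 := Subgroup.index_ne_zero_of_finite
      rw [← hmul]
      rcases Nat.lt_or_ge ((τ.J K).relIndex (lineStab r)) 2 with h | h
      · have : 2 ≤ (τ.I K).index := by omega
        calc 2 * (q + 1) = 1 * (q + 1) * 2 := by ring
          _ ≤ _ := by gcongr; omega
      · calc 2 * (q + 1) = 2 * (q + 1) * 1 := by ring
          _ ≤ _ := by gcongr
    refine le_trans ?_ (τ.index_ge_of K hn h7 hm htz le_rfl le_rfl hw)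
    rw [hpow]
    calc q ^ m * (q * q + 2 * q) ≤ q * (2 * (q + 1)) * q ^ m := by
          rw [mul_comm]; exact Nat.mul_le_mul_right _ (by nlinarith)
      _ ≤ q * ((τ.J K).index * (τ.I K).index) * q ^ m := by gcongr
      _ = _ := by ring
  obtain ⟨hJ1, hI1⟩ := h1
  by_cases hZb : τ.Zp K = ⊥
  swap
  · refine Or.inl (hN.trans ?_)
    refine le_trans ?_ (τ.index_ge_of K hn h7 hm (τ.tz_gt K hZ hZb)
      (show q + 1 ≤ (τ.J K).index by rw [← hmul, hJ1, one_mul]; exact hi2) (τ.one_le_I K) hw)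
    rw [hpow, mul_one, mul_comm]
    exact Nat.mul_le_mul_right _ (by nlinarith)
  refine Or.inr ⟨r, hr, hZb, hfull, hline, fun A hA => ?_⟩
  obtain ⟨g, hg, e⟩ := (τ.mem_J K).1 (Subgroup.relIndex_eq_one.1 hJ1 hA)
  obtain ⟨g', hg', e', hl⟩ := τ.lift_one K hg (by
    rw [Subgroup.index_eq_one.1 hI1]; exact Subgroup.mem_top _)
  exact ⟨g', hg', e'.trans e, hl⟩

/-- Every matrix lifts trivially on the complement when the image on the line is everything. -/
theorem lifts_all (h4 : 4 ≤ Nat.card F) (hJ : τ.J K = ⊤) (hI : (τ.I K).index ≤ Nat.card F + 1) (A : SL(2, F)) :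
    ∃ g : τ.P1, g.1 ∈ K ∧ τ.sl g = A ∧ τ.lam ⟨g.1, g.2.1⟩ = 1 := by
  classical
  have := τ.finite_L
  let R0 : Subgroup τ.P1 := K.subgroupOf τ.P1 ⊓ (τ.lam.comp (Subgroup.inclusion τ.P1_le)).ker
  have hR0 : ∀ g : τ.P1, g ∈ R0 ↔ g.1 ∈ K ∧ τ.lam ⟨g.1, g.2.1⟩ = 1 := fun g => Iff.rfl
  set Γ : Subgroup SL(2, F) := R0.map τ.sl with hΓ
  have hsurj : ∀ A : SL(2, F), ∃ g : τ.P1, g.1 ∈ K ∧ τ.sl g = A := fun A =>
    (τ.mem_J K).1 (hJ ▸ Subgroup.mem_top A)
  haveI hnormal : Γ.Normal := ⟨fun x hx B => by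
    obtain ⟨g, hg, rfl⟩ := hx
    obtain ⟨h, hh, rfl⟩ := hsurj B
    refine ⟨h * g * h⁻¹, ?_, by rw [map_mul, map_mul, map_inv]⟩
    obtain ⟨hgK, hgl⟩ := (hR0 g).1 hg
    refine (hR0 _).2 ⟨K.mul_mem (K.mul_mem hh hgK) (K.inv_mem hh), ?_⟩
    show τ.lam ((⟨h.1, h.2.1⟩ : τ.P) * ⟨g.1, g.2.1⟩ * (⟨h.1, h.2.1⟩ : τ.P)⁻¹) = 1
    rw [map_mul, map_mul, hgl, mul_one, map_inv, mul_inv_cancel]⟩
  choose pick hpick using fun x : SL(2, F) ⧸ Γ => hsurj x.out
  have hidx : Γ.index ≤ (τ.I K).index := by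
    rw [Subgroup.index, Subgroup.index]
    refine Nat.card_le_card_of_injective (fun x => ((⟨_, τ.lam_mem_L (pick x)⟩ : τ.L) : τ.L ⧸ τ.I K)) fun x y e => ?_
    have h := QuotientGroup.eq.1 e
    have hxy : ((pick x)⁻¹ * pick y).1 ∈ K := K.mul_mem (K.inv_mem (hpick x).1) (hpick y).1
    obtain ⟨g', hg', e', hl⟩ := τ.lift_one K hxy (by
      convert h using 1
      refine Subtype.ext ?_
      show τ.lam ((⟨(pick x).1, (pick x).2.1⟩ : τ.P)⁻¹ * ⟨(pick y).1, (pick y).2.1⟩) = _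
      rw [map_mul, map_inv]; rfl)
    have hmem : x.out⁻¹ * y.out ∈ Γ := ⟨g', (hR0 g').2 ⟨hg', hl⟩, by
      rw [e', map_mul, map_inv, (hpick x).2, (hpick y).2]⟩
    rw [← x.out_eq, ← y.out_eq]
    exact QuotientGroup.eq.2 hmem
  have hA : A ∈ Γ := normal_eq_top h4 Γ (hidx.trans hI) ▸ Subgroup.mem_top A
  obtain ⟨g, hg, e⟩ := hA
  exact ⟨g, ((hR0 g).1 hg).1, e, ((hR0 g).1 hg).2⟩

omit [FiniteDimensional F V] in
/-- The vector part is a square under all lifts. -/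
theorem S_square (hl : ∀ A : SL(2, F), ∃ g : τ.P1, g.1 ∈ K ∧ τ.sl g = A ∧ τ.lam ⟨g.1, g.2.1⟩ = 1) :
    ∃ Z : Submodule F τ.W, (∀ a b : τ.W, (a, b) ∈ τ.S K ↔ a ∈ Z ∧ b ∈ Z) := by
  have act : ∀ (A : SL(2, F)) (a b : τ.W), (a, b) ∈ τ.S K →
      (A.1 0 0 • a + A.1 0 1 • b, A.1 1 0 • a + A.1 1 1 • b) ∈ τ.S K := fun A a b h => by
    obtain ⟨g, hg, e, hl'⟩ := hl A
    have := τ.S_inv K g.2.1 hg h
    rwa [hl', ← τ.sl_coe g, e] at this
  have hup : ∀ (r : F) (a b : τ.W), (a, b) ∈ τ.S K → (r • b, (0 : τ.W)) ∈ τ.S K := fun r a b h => by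
    have h1 := act (up r) a b h
    rw [up_coe] at h1
    simpa using (τ.S K).sub_mem h1 h
  have hw : ∀ a b : τ.W, (a, b) ∈ τ.S K → (b, -a) ∈ τ.S K := fun a b h => by
    simpa [wey] using act wey a b h
  have key : ∀ a b : τ.W, (a, b) ∈ τ.S K ↔ (a, (0 : τ.W)) ∈ τ.S K ∧ (b, (0 : τ.W)) ∈ τ.S K := fun a b => by
    refine ⟨fun h => ⟨?_, by simpa using hup 1 a b h⟩, fun ⟨ha, hb⟩ => ?_⟩
    · simpa using (τ.S K).neg_mem (hup 1 _ _ (hw a b h))
    · have := hw _ _ hb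
      simpa using (τ.S K).sub_mem ha this
  let Z : Submodule F τ.W :=
    { carrier := {a | (a, (0 : τ.W)) ∈ τ.S K}
      zero_mem' := (τ.S K).zero_mem
      add_mem' := fun {a b} ha hb => by simpa using (τ.S K).add_mem ha hb
      smul_mem' := fun c a ha => by
        have h := hup c _ _ (hw a 0 ha)
        simpa using (τ.S K).neg_mem h }
  exact ⟨Z, key⟩

/-- The case of a small image on the complement with all lifts. -/
theorem beta_of_lifts {n m N : ℕ} (hn : finrank F V = n) (h7 : 7 ≤ n) (hm : n = m + 4)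
    (hN : N ≤ Nat.card F ^ (m + 1) * (Nat.card F + 2)) (hZ : τ.Zp K ≠ ⊤) (hi2 : 2 ≤ (τ.I K).index)
    (hi3 : (τ.I K).index ≤ Nat.card F + 1)
    (hl : ∀ A : SL(2, F), ∃ g : τ.P1, g.1 ∈ K ∧ τ.sl g = A ∧ τ.lam ⟨g.1, g.2.1⟩ = 1) :
    N ≤ K.index ∨ ∃ Z, τ.BetaBad K Z := by
  have hd : finrank F τ.W = m := by have := τ.finrank_W; omega
  have := τ.finite_L
  set q := Nat.card F with hqd
  have hq : 2 ≤ q := Finite.one_lt_card
  have htz := τ.tz_ge K hZ
  have hw := τ.S_index_ge K hd hZ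
  have hJ1 := τ.one_le_J K
  obtain ⟨Z, hSZ⟩ := τ.S_square K hl
  have hiso : ∀ x ∈ Z, ∀ y ∈ Z, polar τ.QW x y = 0 := fun x hx y hy => by
    by_contra hne
    refine hZ ((AddSubgroup.eq_top_iff' _).2 fun c => ?_)
    have h := τ.S_comm K (a := 0) (b := x) (a' := (c / polar τ.QW x y) • y) (b' := 0)
      ((hSZ _ _).2 ⟨Z.zero_mem, hx⟩) ((hSZ _ _).2 ⟨Z.smul_mem _ hy, Z.zero_mem⟩)
    rwa [← τ.polar_QW, ← τ.polar_QW, polar_smul_right, smul_eq_mul, div_mul_cancel₀ _ hne,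
      show polar τ.QW (0 : τ.W) 0 = 0 by simp [polar], sub_zero] at h
  have hinv : ∀ l ∈ τ.I K, ∀ z ∈ Z, l.1.1 z ∈ Z := fun l hl' z hz =>
    ((hSZ _ _).1 (τ.S_inv_I K hl' ((hSZ z 0).2 ⟨hz, Z.zero_mem⟩))).1
  set k := finrank F Z with hk
  have hk2 : 2 * k ≤ m := by
    let B : LinearMap.BilinForm F τ.W := polarBilin τ.QW
    have hB : Z ≤ B.orthogonal Z := fun x hx => fun y hy => hiso y hy x hx
    have h1 := Submodule.finrank_mono hB
    have h2 := LinearMap.BilinForm.finrank_orthogonal (B := B) τ.nondeg_W Z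
    rw [hd] at h2
    omega
  have hcardS : (τ.S K).index * q ^ (2 * k) = q ^ (2 * m) := by
    have h1 := (τ.S K).card_mul_index
    rw [τ.card_WW hd] at h1
    rw [← h1, mul_comm]
    congr 1
    rw [two_mul, pow_add, hqd, ← Module.natCard_eq_pow_finrank (K := F), ← Nat.card_prod]
    exact Nat.card_congr
      { toFun := fun p => ⟨(p.1.1, p.2.1), (hSZ _ _).2 ⟨p.1.2, p.2.2⟩⟩
        invFun := fun x => (⟨x.1.1, ((hSZ _ _).1 x.2).1⟩, ⟨x.1.2, ((hSZ _ _).1 x.2).2⟩)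
        left_inv := fun p => rfl
        right_inv := fun x => rfl }
  rcases Nat.lt_or_ge (2 * k) m with hkm | hkm
  · refine Or.inl (hN.trans (le_trans ?_ (τ.index_ge_of K hn h7 hm htz hJ1 hi2
      (show q ^ (m + 1) ≤ (τ.S K).index from ?_))))
    · calc q ^ (m + 1) * (q + 2) = (q + 2) * q ^ (m + 1) := mul_comm _ _
        _ ≤ q * 1 * 2 * q ^ (m + 1) := Nat.mul_le_mul_right _ (by omega)
    · refine Nat.le_of_mul_le_mul_right ?_ (show 0 < q ^ (2 * k) by positivity)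
      rw [hcardS, ← pow_add]
      exact Nat.pow_le_pow_right (by omega) (by omega)
  obtain ⟨x0, hx0Z, hx0, hxs⟩ : ∃ x0 ∈ Z, x0 ≠ 0 ∧ τ.QW x0 = 0 := by
    obtain ⟨z1, z2, h1, h2, hind⟩ : ∃ z1 z2, z1 ∈ Z ∧ z2 ∈ Z ∧ LinearIndependent F ![z1, z2] := by
      have hk' : 2 ≤ finrank F Z := by omega
      let b := Module.finBasis F Z
      refine ⟨b ⟨0, by omega⟩, b ⟨1, by omega⟩, (b _).2, (b _).2, ?_⟩
      have := (b.linearIndependent.map' Z.subtype Z.ker_subtype).comp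
        ![(⟨0, by omega⟩ : Fin (finrank F Z)), ⟨1, by omega⟩] (fun i j => by
          fin_cases i <;> fin_cases j <;> simp)
      have e : (Z.subtype ∘ b) ∘ ![(⟨0, by omega⟩ : Fin (finrank F Z)), ⟨1, by omega⟩] =
          ![((b ⟨0, by omega⟩ : Z) : τ.W), ((b ⟨1, by omega⟩ : Z) : τ.W)] := by
        funext i; fin_cases i <;> rfl
      rw [e] at this
      exact this
    by_cases h2' : (2 : F) = 0
    swap
    · refine ⟨z1, h1, hind.ne_zero 0, ?_⟩
      have := hiso z1 h1 z1 h1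
      rw [polar_self'] at this
      exact (mul_eq_zero.1 this).resolve_left h2'
    rcases eq_or_ne (τ.QW z1) 0 with e | e
    · exact ⟨z1, h1, hind.ne_zero 0, e⟩
    · haveI : CharP F 2 := CharTwo.of_one_ne_zero_of_two_eq_zero one_ne_zero h2'
      have hinj : Function.Injective fun r : F => r ^ 2 := fun r r' h => CharTwo.sq_inj.1 h
      obtain ⟨t, ht⟩ := (Finite.injective_iff_surjective.1 hinj) (τ.QW z2 / τ.QW z1)
      refine ⟨t • z1 + z2, Z.add_mem (Z.smul_mem _ h1) h2, fun h0 => ?_, ?_⟩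
      · have := LinearIndependent.pair_iff.1 hind t 1 (by rw [one_smul]; exact h0)
        exact one_ne_zero this.2
      · have ht' : t * t = τ.QW z2 / τ.QW z1 := by rw [← pow_two]; exact ht
        rw [map_add', Quad.map_smul', ht', polar_smul_left, hiso z1 h1 z2 h2, smul_zero, add_zero,
          div_mul_cancel₀ _ e, CharTwo.add_self_eq_zero]
  have hq1 : ∀ X : Submodule F τ.W, X ≤ Z → x0 ∈ X → (∀ l ∈ τ.I K, ∀ z ∈ X, l.1.1 z ∈ X) →
      q ^ (m - 1 - finrank F X) + 1 ≤ (τ.I K).index := fun X hXZ hxX hX => by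
    have := index_stab_ge τ.nondeg_W (by omega) τ.eo_le_L X (fun x hx y hy => hiso x (hXZ hx) y (hXZ hy))
      hx0 hxs hxX (τ.I K) hX
    rwa [hd] at this
  rcases Nat.lt_or_ge k 3 with hk3 | hk3
  swap
  · exfalso
    have h := hq1 Z le_rfl hx0Z hinv
    have : q ^ 2 ≤ q ^ (m - 1 - k) := Nat.pow_le_pow_right (by omega) (by omega)
    nlinarith
  have hk22 : k = 2 := by omega
  have hm4 : m = 4 := by omega
  by_cases hTS : ∀ v ∈ Z, τ.QW v = 0
  swap
  · exfalso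
    push Not at hTS
    obtain ⟨v, hv, hQv⟩ := hTS
    have hsp : ∀ w ∈ Z, τ.QW w = 0 → w ∈ Submodule.span F {x0} := fun w hw hQw => by
      by_contra hns
      have hle : Submodule.span F {x0, w} ≤ Z := Submodule.span_le.2 (by
        intro a ha; rcases ha with rfl | rfl <;> assumption)
      have hind : LinearIndependent F ![x0, w] := by
        rw [LinearIndependent.pair_iff' hx0]
        exact fun a h => hns (Submodule.mem_span_singleton.2 ⟨a, h⟩)
      have heq : Submodule.span F {x0, w} = Z := Submodule.eq_of_le_of_finrank_eq hle (by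
        rw [← hk, hk22, show ({x0, w} : Set τ.W) = Set.range ![x0, w] by simp [Set.pair_comm],
          finrank_span_eq_card hind, Fintype.card_fin])
      rw [← heq] at hv
      obtain ⟨a, b, rfl⟩ := Submodule.mem_span_pair.1 hv
      refine hQv ?_
      rw [map_add', Quad.map_smul', Quad.map_smul', hxs, hQw, polar_smul_left, polar_smul_right,
        hiso x0 hx0Z w hw]
      simp
    have hX : ∀ l ∈ τ.I K, ∀ z ∈ Submodule.span F {x0}, l.1.1 z ∈ Submodule.span F {x0} := fun l hl' z hz => by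
      obtain ⟨a, rfl⟩ := Submodule.mem_span_singleton.1 hz
      exact hsp _ (hinv l hl' _ (Z.smul_mem _ hx0Z)) (by rw [l.1.2, Quad.map_smul', hxs, mul_zero])
    have h := hq1 _ ((Submodule.span_singleton_le_iff_mem _ _).2 hx0Z) (Submodule.mem_span_singleton_self _) hX
    rw [finrank_span_singleton hx0, hm4] at h
    norm_num at h
    nlinarith
  have hIq : q + 1 ≤ (τ.I K).index := by
    have h := hq1 Z le_rfl hx0Z hinv
    rwa [← hk, hk22, hm4, show 4 - 1 - 2 = 1 by norm_num, pow_one] at h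
  by_cases hZb : τ.Zp K = ⊥
  swap
  · refine Or.inl (hN.trans (le_trans ?_ (τ.index_ge_of K hn h7 hm (τ.tz_gt K hZ hZb) hJ1 hIq hw)))
    calc q ^ (m + 1) * (q + 2) = q * (q + 2) * q ^ m := by ring
      _ ≤ (q + 1) * 1 * (q + 1) * q ^ m := Nat.mul_le_mul_right _ (by nlinarith)
  refine Or.inr ⟨Z, by omega, by omega, hZb, hTS, hSZ, hl, fun l hl' => ?_⟩
  let St : Subgroup τ.L :=
    { carrier := {l | ∀ z ∈ Z, l.1.1 z ∈ Z}
      one_mem' := fun z hz => hz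
      mul_mem' := fun {a b} ha hb z hz => ha _ (hb z hz)
      inv_mem' := fun {a} ha z hz => by
        have hmap : Z.map (a.1.1 : τ.W →ₗ[F] τ.W) = Z :=
          Submodule.eq_of_le_of_finrank_eq (Submodule.map_le_iff_le_comap.2 ha)
            (Submodule.equivMapOfInjective _ a.1.1.injective _).finrank_eq.symm
        rw [← hmap] at hz
        obtain ⟨y, hy, rfl⟩ := hz
        show (a⁻¹).1.1 (a.1.1 y) ∈ Z
        rw [show (a⁻¹).1.1 (a.1.1 y) = y from oG_inv_apply a.1 y]; exact hy }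
  have hle : τ.I K ≤ St := fun l hl'' z hz => hinv l hl'' z hz
  have hSt : q + 1 ≤ St.index := by
    have h := index_stab_ge τ.nondeg_W (by omega) τ.eo_le_L Z hiso hx0 hxs hx0Z St fun l hl'' => hl''
    rwa [hd, ← hk, hk22, hm4, show 4 - 1 - 2 = 1 by norm_num, pow_one] at h
  have h1 := Subgroup.relIndex_mul_index hle
  have h2 : (τ.I K).relIndex St = 1 := by
    have : (τ.I K).relIndex St ≠ 0 := Subgroup.index_ne_zero_of_finite
    rcases Nat.lt_or_ge ((τ.I K).relIndex St) 2 with h | h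
    · omega
    · have := Nat.mul_le_mul h hSt
      omega
  exact Subgroup.relIndex_eq_one.1 h2 hl'

/-- The case of a small image on the complement. -/
theorem beta_case {n m N : ℕ} (hn : finrank F V = n) (h7 : 7 ≤ n) (hm : n = m + 4)
    (hN : N ≤ Nat.card F ^ (m + 1) * (Nat.card F + 2)) (hZ : τ.Zp K ≠ ⊤)
    (hsmall : 4 ≤ Nat.card F ∨ ∀ I : Subgroup τ.L, ¬ eo τ.QW ≤ I.map τ.L.subtype → Nat.card F + 2 ≤ I.index)
    (hI : ¬ eo τ.QW ≤ (τ.I K).map τ.L.subtype) : N ≤ K.index ∨ ∃ Z, τ.BetaBad K Z := by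
  have hd : finrank F τ.W = m := by have := τ.finrank_W; omega
  have := τ.finite_L
  set q := Nat.card F with hqd
  have hq : 2 ≤ q := Finite.one_lt_card
  have htz := τ.tz_ge K hZ
  have hw := τ.S_index_ge K hd hZ
  have hJ1 := τ.one_le_J K
  have done : q + 2 ≤ (τ.J K).index * (τ.I K).index → N ≤ K.index := fun h => by
    refine hN.trans (le_trans ?_ (τ.index_ge_of K hn h7 hm htz le_rfl le_rfl hw))
    calc q ^ (m + 1) * (q + 2) = q * (q + 2) * q ^ m := by ring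
      _ ≤ q * ((τ.J K).index * (τ.I K).index) * q ^ m := by gcongr
      _ = _ := by ring
  by_cases hbig : q + 2 ≤ (τ.J K).index * (τ.I K).index
  · exact Or.inl (done hbig)
  have hi2 : 2 ≤ (τ.I K).index := by
    have := τ.one_le_I K
    rcases Nat.lt_or_ge (τ.I K).index 2 with h | h
    · refine absurd ?_ hI
      rw [Subgroup.index_eq_one.1 (show (τ.I K).index = 1 by omega), ← MonoidHom.range_eq_map,
        Subgroup.range_subtype]
      exact τ.eo_le_L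
    · exact h
  rcases hsmall with h4 | hsm
  swap
  · exact absurd (le_trans (hsm _ hI) (Nat.le_mul_of_pos_left _ hJ1)) hbig
  have hJ : τ.J K = ⊤ := by
    by_contra hne
    have := index_ge h4 _ hne
    have := Nat.mul_le_mul_left (τ.J K).index hi2
    omega
  have hi3 : (τ.I K).index ≤ q + 1 := by
    rw [hJ, Subgroup.index_top, one_mul] at hbig; omega
  exact τ.beta_of_lifts K hn h7 hm hN hZ hi2 hi3 (τ.lifts_all K h4 hJ hi3)

/-- The bound at a line, up to the two exceptional configurations. -/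
theorem line_cases {n m N : ℕ} (hn : finrank F V = n) (h7 : 7 ≤ n) (hm : n = m + 4)
    (hN : N ≤ Nat.card F ^ (m + 1) * (Nat.card F + 2)) (hZ : τ.Zp K ≠ ⊤)
    (hsmall : 4 ≤ Nat.card F ∨ ∀ I : Subgroup τ.L, ¬ eo τ.QW ≤ I.map τ.L.subtype → Nat.card F + 2 ≤ I.index) :
    N ≤ K.index ∨ (∃ r, τ.AlphaBad K r) ∨ (∃ Z, τ.BetaBad K Z) := by
  by_cases hI : eo τ.QW ≤ (τ.I K).map τ.L.subtype
  · exact (τ.alpha_case K hn h7 hm hN hZ hI).imp_right Or.inl
  · exact (τ.beta_case K hn h7 hm hN hZ hsmall hI).imp_right Or.inr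

end LF

end Cfsg.Agent.MinIndexForm.O
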