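import Cfsg.Agent.MinIndexForm.O.SmallMain

/-!
A four-dimensional space of plus type over two elements tensored with a plane: no non-zero additive subgroup
invariant under three commuting elements of order three is isotropic.
-/

set_option autoImplicit false

namespace Cfsg.Agent.MinIndexForm.O

namespace FourTwo

/-- The space in coordinates. -/
abbrev B4 : Type := Bool × Bool × Bool × Bool

/-- Pairs of vectors. -/
abbrev B8 : Type := B4 × B4

/-- The sum. -/
def add (a b : B4) : B4 := (xor a.1 b.1, xor a.2.1 b.2.1, xor a.2.2.1 b.2.2.1, xor a.2.2.2 b.2.2.2)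

/-- The polar form. -/
def pol (a b : B4) : Bool :=
  xor (xor (a.1 && b.2.1) (a.2.1 && b.1)) (xor (a.2.2.1 && b.2.2.2) (a.2.2.2 && b.2.2.1))

/-- The form on pairs. -/
def bet (v w : B8) : Bool := xor (pol v.2 w.1) (pol w.2 v.1)

/-- The first element of order three. -/
def mL (a : B4) : B4 := (xor a.2.2.2 a.1, a.2.2.1, xor a.2.1 a.2.2.1, a.1)

/-- The second element of order three. -/
def mR (a : B4) : B4 := (xor a.2.2.1 a.1, a.2.2.2, a.1, xor a.2.1 a.2.2.2)

/-- The first element on pairs. -/
def dL (v : B8) : B8 := (mL v.1, mL v.2)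

/-- The second element on pairs. -/
def dR (v : B8) : B8 := (mR v.1, mR v.2)

/-- The element on the plane. -/
def dO (v : B8) : B8 := (v.2, add v.1 v.2)

/-- Nine images. -/
def test (v : B8) : List B8 :=
  [dO v, dL v, dR v, dO (dL v), dO (dR v), dL (dR v), dO (dL (dR v)), dO (dL (dR (dR v))), dO (dL (dL (dR v))),
    dO (dO (dL (dR v))), dL (dL (dR v)), dO (dO (dL v)), dO (dO (dR v))]

set_option synthInstance.maxSize 4000 in
set_option synthInstance.maxHeartbeats 400000 in
theorem detect_raw : ∀ a b c d a' b' c' d' : Bool,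
    (test ((a, b, c, d), (a', b', c', d'))).all (fun w => !bet ((a, b, c, d), (a', b', c', d')) w) = true →
      a = false ∧ b = false ∧ c = false ∧ d = false ∧ a' = false ∧ b' = false ∧ c' = false ∧ d' = false := by
  decide +kernel

theorem detect (v : B8) (h : (test v).all (fun w => !bet v w) = true) :
    v = ((false, false, false, false), (false, false, false, false)) := by
  obtain ⟨⟨a, b, c, d⟩, a', b', c', d'⟩ := v
  obtain ⟨rfl, rfl, rfl, rfl, rfl, rfl, rfl, rfl⟩ := detect_raw a b c d a' b' c' d' h
  rfl

end FourTwo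

end Cfsg.Agent.MinIndexForm.O
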