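import Cfsg.Agent.MinIndexForm.O.Siegel

/-!
A totally singular line with a dual line: the complement and the unipotent elements.
-/

set_option autoImplicit false

namespace Cfsg.Agent.MinIndexForm.O

open Cfsg.Agent.Classical Cfsg.Agent.Classical.Quad Module QuadraticMap

variable {F V : Type*} [Field F] [AddCommGroup V] [Module F V] {Q : QuadraticForm F V}

/-- A non-degenerate form with two orthogonal hyperbolic pairs. -/
structure LF (Q : QuadraticForm F V) where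
  hQ : (polarBilin Q).Nondegenerate
  y1 : V
  y2 : V
  f1 : V
  f2 : V
  hy1 : Q y1 = 0
  hy2 : Q y2 = 0
  hf1 : Q f1 = 0
  hf2 : Q f2 = 0
  hyy : polar Q y1 y2 = 0
  hff : polar Q f1 f2 = 0
  h11 : polar Q y1 f1 = 1
  h22 : polar Q y2 f2 = 1
  h12 : polar Q y1 f2 = 0
  h21 : polar Q y2 f1 = 0

namespace LF

variable (τ : LF Q)

theorem hyy' : polar Q τ.y2 τ.y1 = 0 := by rw [polar_comm, τ.hyy]
theorem hff' : polar Q τ.f2 τ.f1 = 0 := by rw [polar_comm, τ.hff]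
theorem h11' : polar Q τ.f1 τ.y1 = 1 := by rw [polar_comm, τ.h11]
theorem h22' : polar Q τ.f2 τ.y2 = 1 := by rw [polar_comm, τ.h22]
theorem h12' : polar Q τ.f2 τ.y1 = 0 := by rw [polar_comm, τ.h12]
theorem h21' : polar Q τ.f1 τ.y2 = 0 := by rw [polar_comm, τ.h21]
theorem s11 : polar Q τ.y1 τ.y1 = 0 := by rw [polar_self', τ.hy1, mul_zero]
theorem s22 : polar Q τ.y2 τ.y2 = 0 := by rw [polar_self', τ.hy2, mul_zero]
theorem t11 : polar Q τ.f1 τ.f1 = 0 := by rw [polar_self', τ.hf1, mul_zero]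
theorem t22 : polar Q τ.f2 τ.f2 = 0 := by rw [polar_self', τ.hf2, mul_zero]

theorem y1_ne : τ.y1 ≠ 0 := fun h => by simpa [h, polar] using τ.h11
theorem y2_ne : τ.y2 ≠ 0 := fun h => by simpa [h, polar] using τ.h22

/-- The complement of the two pairs. -/
def W : Submodule F V :=
  LinearMap.ker (polarBilin Q τ.y1) ⊓ LinearMap.ker (polarBilin Q τ.y2) ⊓
    (LinearMap.ker (polarBilin Q τ.f1) ⊓ LinearMap.ker (polarBilin Q τ.f2))

theorem mem_W {x : V} : x ∈ τ.W ↔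
    (polar Q τ.y1 x = 0 ∧ polar Q τ.y2 x = 0) ∧ (polar Q τ.f1 x = 0 ∧ polar Q τ.f2 x = 0) := Iff.rfl

theorem By1 (w : τ.W) : polar Q τ.y1 (w : V) = 0 := w.2.1.1
theorem By2 (w : τ.W) : polar Q τ.y2 (w : V) = 0 := w.2.1.2
theorem Bf1 (w : τ.W) : polar Q τ.f1 (w : V) = 0 := w.2.2.1
theorem Bf2 (w : τ.W) : polar Q τ.f2 (w : V) = 0 := w.2.2.2
theorem Wy1 (w : τ.W) : polar Q (w : V) τ.y1 = 0 := by rw [polar_comm, τ.By1]
theorem Wy2 (w : τ.W) : polar Q (w : V) τ.y2 = 0 := by rw [polar_comm, τ.By2]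
theorem Wf1 (w : τ.W) : polar Q (w : V) τ.f1 = 0 := by rw [polar_comm, τ.Bf1]
theorem Wf2 (w : τ.W) : polar Q (w : V) τ.f2 = 0 := by rw [polar_comm, τ.Bf2]

/-- The form on the complement. -/
def QW : QuadraticForm F τ.W := Q.comp τ.W.subtype

theorem QW_apply (w : τ.W) : τ.QW w = Q (w : V) := rfl

theorem polar_QW (u w : τ.W) : polar τ.QW u w = polar Q (u : V) (w : V) := rfl

/-- The projection onto the complement. -/
def pr : V →ₗ[F] τ.W :=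
  (LinearMap.id - (polarBilin Q τ.f1).smulRight τ.y1 - (polarBilin Q τ.y1).smulRight τ.f1
    - (polarBilin Q τ.f2).smulRight τ.y2 - (polarBilin Q τ.y2).smulRight τ.f2).codRestrict τ.W fun x =>
    τ.mem_W.2 ⟨⟨by simp [sub_eq_add_neg, polar_add_right, polar_smul_right, polar_neg_right, τ.s11, τ.h11, τ.hyy, τ.h12],
      by simp [sub_eq_add_neg, polar_add_right, polar_smul_right, polar_neg_right, τ.s22, τ.h22, τ.hyy', τ.h21]⟩,
      by simp [sub_eq_add_neg, polar_add_right, polar_smul_right, polar_neg_right, τ.t11, τ.h11', τ.hff, τ.h21'],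
      by simp [sub_eq_add_neg, polar_add_right, polar_smul_right, polar_neg_right, τ.t22, τ.h22', τ.hff', τ.h12']⟩

theorem pr_coe (x : V) : (τ.pr x : V) = x - polar Q τ.f1 x • τ.y1 - polar Q τ.y1 x • τ.f1
    - polar Q τ.f2 x • τ.y2 - polar Q τ.y2 x • τ.f2 := rfl

theorem pr_W (w : τ.W) : τ.pr w = w := Subtype.ext (by simp [pr_coe, τ.By1, τ.By2, τ.Bf1, τ.Bf2])

theorem pr_y1 : τ.pr τ.y1 = 0 := Subtype.ext (by simp [pr_coe, τ.s11, τ.h11', τ.hyy', τ.h12'])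
theorem pr_y2 : τ.pr τ.y2 = 0 := Subtype.ext (by simp [pr_coe, τ.s22, τ.h22', τ.hyy, τ.h21'])
theorem pr_f1 : τ.pr τ.f1 = 0 := Subtype.ext (by simp [pr_coe, τ.t11, τ.h11, τ.hff', τ.h21])
theorem pr_f2 : τ.pr τ.f2 = 0 := Subtype.ext (by simp [pr_coe, τ.t22, τ.h22, τ.hff, τ.h12])

theorem decomp (x : V) : x = (τ.pr x : V) + polar Q τ.f1 x • τ.y1 + polar Q τ.y1 x • τ.f1
    + polar Q τ.f2 x • τ.y2 + polar Q τ.y2 x • τ.f2 := by rw [pr_coe]; abel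

theorem pr_polar (w : τ.W) (x : V) : polar Q (w : V) (τ.pr x : V) = polar Q (w : V) x := by
  simp [pr_coe, sub_eq_add_neg, polar_add_right, polar_smul_right, polar_neg_right, τ.Wy1, τ.Wy2, τ.Wf1, τ.Wf2]

theorem nondeg_W : (polarBilin τ.QW).Nondegenerate :=
  nondeg_of fun u hu => Subtype.ext (eq_zero_of_polar τ.hQ fun x => by
    rw [← τ.pr_polar]; exact hu (τ.pr x))

theorem finrank_W [FiniteDimensional F V] : finrank F τ.W + 4 = finrank F V := by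
  let e : V →ₗ[F] (F × F) × (F × F) :=
    ((polarBilin Q τ.y1).prod (polarBilin Q τ.y2)).prod ((polarBilin Q τ.f1).prod (polarBilin Q τ.f2))
  have hk : LinearMap.ker e = τ.W := by
    ext x
    simp only [e, LinearMap.mem_ker, LinearMap.prod_apply, Function.prod, Function.prod_apply, Prod.mk_eq_zero,
      polarBilin_apply_apply, τ.mem_W]
  have hs : LinearMap.range e = ⊤ := LinearMap.range_eq_top.2 fun p =>
    ⟨p.1.1 • τ.f1 + p.1.2 • τ.f2 + p.2.1 • τ.y1 + p.2.2 • τ.y2, by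
      simp [e, polar_add_right, polar_smul_right, τ.s11, τ.s22, τ.t11, τ.t22, τ.hyy, τ.hyy', τ.hff, τ.hff', τ.h11,
        τ.h22, τ.h12, τ.h21, τ.h11', τ.h22', τ.h12', τ.h21']⟩
  have h := e.finrank_range_add_finrank_ker
  rw [hk, hs, finrank_top, Module.finrank_prod, Module.finrank_prod, Module.finrank_self] at h
  omega

theorem ext_frame {g h : eo Q} (e1 : g.1.1 τ.y1 = h.1.1 τ.y1) (e2 : g.1.1 τ.y2 = h.1.1 τ.y2)
    (e3 : g.1.1 τ.f1 = h.1.1 τ.f1) (e4 : g.1.1 τ.f2 = h.1.1 τ.f2)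
    (e5 : ∀ w : τ.W, g.1.1 (w : V) = h.1.1 (w : V)) : g = h :=
  ext_eo fun x => by
    rw [τ.decomp x]
    simp only [map_add, map_smul, e1, e2, e3, e4, e5]

/-- The centre of the unipotent part. -/
noncomputable def z (c : F) : eo Q := E Q τ.y1 (c • τ.y2)

theorem hz (c : F) : polar Q τ.y1 (c • τ.y2) = 0 := by simp [polar_smul_right, τ.hyy]

theorem z_add (c d : F) : τ.z (c + d) = τ.z c * τ.z d := by
  rw [z, z, z, E_add τ.hy1 (τ.hz c) (τ.hz d), add_smul]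

theorem z_zero : τ.z 0 = 1 := by rw [z, zero_smul, E_zero]

theorem z_neg (c : F) : τ.z (-c) = (τ.z c)⁻¹ :=
  eq_inv_of_mul_eq_one_left (by rw [← τ.z_add, neg_add_cancel, τ.z_zero])

theorem E2_y1 (t : F) : E Q τ.y2 (t • τ.y1) = τ.z (-t) := by
  rw [z, E_swap τ.hy1 τ.hy2 τ.hyy t, neg_smul]

theorem z_apply (c : F) (x : V) :
    (τ.z c).1.1 x = x + (c * polar Q x τ.y2) • τ.y1 + (-(c * polar Q x τ.y1)) • τ.y2 := by
  rw [z, E_apply τ.hy1 (τ.hz c)]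
  simp [polar_smul_right, map_smul', τ.hy2]
  module

theorem z_comm1 {a : V} (ha : polar Q τ.y1 a = 0) (c : F) : τ.z c * E Q τ.y1 a = E Q τ.y1 a * τ.z c := by
  rw [z, E_add τ.hy1 (τ.hz c) ha, E_add τ.hy1 ha (τ.hz c), add_comm]

theorem z_comm2 {b : V} (hb : polar Q τ.y2 b = 0) (c : F) : τ.z c * E Q τ.y2 b = E Q τ.y2 b * τ.z c := by
  have h : polar Q τ.y2 ((-c) • τ.y1) = 0 := by simp [polar_smul_right, τ.hyy']
  rw [show τ.z c = E Q τ.y2 ((-c) • τ.y1) by rw [τ.E2_y1, neg_neg], E_add τ.hy2 h hb, E_add τ.hy2 hb h, add_comm]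

/-- The unipotent elements of the stabiliser of the line. -/
noncomputable def qe (a b : τ.W) (c : F) : eo Q := E Q τ.y1 (a : V) * E Q τ.y2 (b : V) * τ.z c

theorem qe_zero : τ.qe 0 0 0 = 1 := by simp [qe, E_zero, τ.z_zero]

theorem qe_z (c : F) : τ.qe 0 0 c = τ.z c := by simp [qe, E_zero]

theorem qe_one (a : τ.W) : τ.qe a 0 0 = E Q τ.y1 (a : V) := by simp [qe, E_zero, τ.z_zero]

theorem qe_two (b : τ.W) : τ.qe 0 b 0 = E Q τ.y2 (b : V) := by simp [qe, E_zero, τ.z_zero]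

theorem z_comm_qe (a b : τ.W) (c d : F) : τ.z d * τ.qe a b c = τ.qe a b c * τ.z d := by
  rw [qe, ← mul_assoc, ← mul_assoc, τ.z_comm1 (τ.By1 a), mul_assoc (E Q τ.y1 (a : V)), τ.z_comm2 (τ.By2 b),
    ← mul_assoc, mul_assoc _ (τ.z d), ← τ.z_add, add_comm, τ.z_add, ← mul_assoc]

theorem swap21 (a b : τ.W) :
    E Q τ.y2 (b : V) * E Q τ.y1 (a : V) =
      E Q τ.y1 (a : V) * E Q τ.y2 (b : V) * τ.z (polar Q (b : V) (a : V)) := by
  have h := E_conj_two (a := -(a : V)) τ.hy1 τ.hy2 τ.hyy (by rw [polar_neg_right, τ.By1, neg_zero])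
    (by rw [polar_neg_right, τ.By2, neg_zero]) (τ.By1 b) (τ.By2 b)
  rw [← E_inv τ.hy1 (τ.By1 a), inv_inv, τ.E2_y1, polar_neg_right, neg_neg] at h
  rw [mul_assoc (E Q τ.y1 (a : V)), ← h]
  group

theorem qe_mul (a b a' b' : τ.W) (c c' : F) :
    τ.qe a b c * τ.qe a' b' c' = τ.qe (a + a') (b + b') (c + c' + polar Q (b : V) (a' : V)) := by
  have e1 : E Q τ.y1 ((a + a' : τ.W) : V) = E Q τ.y1 (a : V) * E Q τ.y1 (a' : V) :=
    (E_add τ.hy1 (τ.By1 a) (τ.By1 a')).symm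
  have e2 : E Q τ.y2 ((b + b' : τ.W) : V) = E Q τ.y2 (b : V) * E Q τ.y2 (b' : V) :=
    (E_add τ.hy2 (τ.By2 b) (τ.By2 b')).symm
  calc τ.qe a b c * τ.qe a' b' c'
      = E Q τ.y1 (a : V) * E Q τ.y2 (b : V) * (τ.z c * τ.qe a' b' c') := by rw [qe, mul_assoc]
    _ = E Q τ.y1 (a : V) * (E Q τ.y2 (b : V) * E Q τ.y1 (a' : V)) * E Q τ.y2 (b' : V) * τ.z c' * τ.z c := by
        rw [τ.z_comm_qe, qe]; simp only [mul_assoc]
    _ = E Q τ.y1 (a : V) * E Q τ.y1 (a' : V) * E Q τ.y2 (b : V) *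
          (τ.z (polar Q (b : V) (a' : V)) * E Q τ.y2 (b' : V)) * τ.z c' * τ.z c := by
        rw [τ.swap21]; simp only [mul_assoc]
    _ = _ := by
        rw [τ.z_comm2 (τ.By2 b'), qe, e1, e2, τ.z_add, τ.z_add]
        have k1 : τ.z c' * τ.z c = τ.z c * τ.z c' := by rw [← τ.z_add, ← τ.z_add, add_comm]
        have k2 : τ.z (polar Q (b : V) (a' : V)) * (τ.z c * τ.z c') =
            τ.z c * τ.z c' * τ.z (polar Q (b : V) (a' : V)) := by
          rw [← τ.z_add, ← τ.z_add, ← τ.z_add, add_comm]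
        simp only [mul_assoc] at k2 ⊢
        rw [k1, k2]

theorem qe_inv (a b : τ.W) (c : F) : (τ.qe a b c)⁻¹ = τ.qe (-a) (-b) (-c + polar Q (b : V) (a : V)) :=
  inv_eq_of_mul_eq_one_right (by
    rw [τ.qe_mul, add_neg_cancel, add_neg_cancel, ← τ.qe_zero]
    congr 1
    simp [polar_neg_right])

theorem qe_comm (a b a' b' : τ.W) (c c' : F) :
    τ.qe a b c * τ.qe a' b' c' * (τ.qe a' b' c' * τ.qe a b c)⁻¹ =
      τ.z (polar Q (b : V) (a' : V) - polar Q (b' : V) (a : V)) := by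
  rw [mul_inv_eq_iff_eq_mul, τ.qe_mul, τ.qe_mul, ← τ.qe_z, τ.qe_mul, zero_add, zero_add, Submodule.coe_zero,
    polar_comm Q (0 : V) _]
  rw [show polar Q ((a' + a : τ.W) : V) 0 = 0 by simp [polar], add_comm a' a, add_comm b' b]
  congr 1
  ring

theorem qe_y1 (a b : τ.W) (c : F) : (τ.qe a b c).1.1 τ.y1 = τ.y1 := by
  rw [qe, mul_apply_eo, mul_apply_eo, τ.z_apply, τ.hyy, τ.s11]
  simp only [mul_zero, neg_zero, zero_smul, add_zero]
  rw [E_fix τ.hy2 (τ.By2 b) τ.hyy (τ.By1 b), E_fix τ.hy1 (τ.By1 a) τ.s11 (τ.By1 a)]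

theorem qe_y2 (a b : τ.W) (c : F) : (τ.qe a b c).1.1 τ.y2 = τ.y2 := by
  rw [qe, mul_apply_eo, mul_apply_eo, τ.z_apply, τ.hyy', τ.s22]
  simp only [mul_zero, neg_zero, zero_smul, add_zero]
  rw [E_fix τ.hy2 (τ.By2 b) τ.s22 (τ.By2 b), E_fix τ.hy1 (τ.By1 a) τ.hyy' (τ.By2 a)]

theorem E1_W (a w : τ.W) :
    (E Q τ.y1 (a : V)).1.1 (w : V) = (w : V) + polar Q (w : V) (a : V) • τ.y1 := by
  rw [E_apply τ.hy1 (τ.By1 a), τ.Wy1]; simp

theorem E2_W (b w : τ.W) :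
    (E Q τ.y2 (b : V)).1.1 (w : V) = (w : V) + polar Q (w : V) (b : V) • τ.y2 := by
  rw [E_apply τ.hy2 (τ.By2 b), τ.Wy2]; simp

theorem qe_W (a b w : τ.W) (c : F) : (τ.qe a b c).1.1 (w : V) =
    (w : V) + polar Q (w : V) (a : V) • τ.y1 + polar Q (w : V) (b : V) • τ.y2 := by
  rw [qe, mul_apply_eo, mul_apply_eo, τ.z_apply, τ.Wy1, τ.Wy2]
  simp only [mul_zero, neg_zero, zero_smul, add_zero]
  rw [τ.E2_W, map_add, map_smul, τ.E1_W, E_fix τ.hy1 (τ.By1 a) τ.hyy' (τ.By2 a)]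

theorem qe_f1 (a b : τ.W) (c : F) : (τ.qe a b c).1.1 τ.f1 =
    τ.f1 + (-Q (a : V)) • τ.y1 + (-c) • τ.y2 + (-1 : F) • (a : V) := by
  rw [qe, mul_apply_eo, mul_apply_eo, τ.z_apply, τ.h11', τ.h21']
  simp only [mul_zero, mul_one, zero_smul, add_zero, map_add, map_smul]
  rw [E_fix τ.hy2 (τ.By2 b) τ.h21' (τ.Bf1 b), E_fix τ.hy2 (τ.By2 b) τ.s22 (τ.By2 b),
    E_fix τ.hy1 (τ.By1 a) τ.hyy' (τ.By2 a), E_apply τ.hy1 (τ.By1 a), τ.h11', τ.Bf1]
  module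

theorem qe_f2 (a b : τ.W) (c : F) : (τ.qe a b c).1.1 τ.f2 =
    τ.f2 + (c - polar Q (b : V) (a : V)) • τ.y1 + (-Q (b : V)) • τ.y2 + (-1 : F) • (b : V) := by
  rw [qe, mul_apply_eo, mul_apply_eo, τ.z_apply, τ.h22', τ.h12']
  simp only [mul_zero, neg_zero, mul_one, zero_smul, add_zero, map_add, map_smul]
  rw [E_fix τ.hy2 (τ.By2 b) τ.hyy (τ.By1 b), E_apply τ.hy2 (τ.By2 b), τ.h22', τ.Bf2]
  simp only [map_add, map_smul, mul_one, neg_smul, one_smul, map_neg, zero_smul, add_zero]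
  rw [E_fix τ.hy1 (τ.By1 a) τ.s11 (τ.By1 a), E_fix τ.hy1 (τ.By1 a) τ.h12' (τ.Bf2 a), τ.E1_W,
    E_fix τ.hy1 (τ.By1 a) τ.hyy' (τ.By2 a)]
  module

end LF

end Cfsg.Agent.MinIndexForm.O
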