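import Cfsg.Agent.MinIndexForm.O.Line

/-!
Lifts to the stabiliser of the line, the parts of a subgroup in the layers, and the index formula.
-/

set_option autoImplicit false

namespace Cfsg.Agent.MinIndexForm.O

open Cfsg.Agent.Classical Cfsg.Agent.Classical.Quad Module QuadraticMap Matrix
open scoped MatrixGroups

variable {F V : Type*} [Field F] [AddCommGroup V] [Module F V] {Q : QuadraticForm F V}

theorem finite_oG [Finite F] [FiniteDimensional F V] : Finite (oG Q) := by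
  have : Finite V := Module.finite_of_finite F
  have : Finite (V ≃ₗ[F] V) := Finite.of_injective (fun g : V ≃ₗ[F] V => (g : V → V)) DFunLike.coe_injective
  infer_instance

theorem finite_eo [Finite F] [FiniteDimensional F V] : Finite (eo Q) := by
  have := finite_oG (Q := Q)
  infer_instance

namespace LF

variable (τ : LF Q)

/-- The dual line. -/
def fsp : Submodule F V := Submodule.span F {τ.f1, τ.f2}

theorem f1_mem : τ.f1 ∈ τ.fsp := Submodule.subset_span (by simp)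
theorem f2_mem : τ.f2 ∈ τ.fsp := Submodule.subset_span (by simp)

theorem fsp_eq {x : V} (hx : x ∈ τ.fsp) : x = polar Q τ.y1 x • τ.f1 + polar Q τ.y2 x • τ.f2 := by
  obtain ⟨a, b, rfl⟩ := Submodule.mem_span_pair.1 hx
  simp [polar_add_right, polar_smul_right, τ.h11, τ.h12, τ.h21, τ.h22]

/-- The Levi elements of determinant one on the line. -/
def M : Subgroup (eo Q) where
  carrier := {g | g ∈ τ.P1 ∧ (∀ w : τ.W, g.1.1 (w : V) = w) ∧ ∀ x ∈ τ.fsp, g.1.1 x ∈ τ.fsp}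
  one_mem' := ⟨τ.P1.one_mem, fun _ => rfl, fun x hx => hx⟩
  mul_mem' {g h} hg hh := ⟨τ.P1.mul_mem hg.1 hh.1, fun w => by rw [mul_apply_eo, hh.2.1, hg.2.1],
    fun x hx => hg.2.2 _ (hh.2.2 x hx)⟩
  inv_mem' {g} hg := by
    refine ⟨τ.P1.inv_mem hg.1, fun w => ?_, fun x hx => ?_⟩
    · conv_lhs => rw [← hg.2.1 w]
      exact inv_apply_eo g _
    · have : FiniteDimensional F τ.fsp := FiniteDimensional.span_of_finite F (Set.toFinite _)
      have hmap : τ.fsp.map (g.1.1 : V →ₗ[F] V) = τ.fsp := by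
        refine Submodule.eq_of_le_of_finrank_eq (Submodule.map_le_iff_le_comap.2 hg.2.2) ?_
        exact (Submodule.equivMapOfInjective _ g.1.1.injective _).finrank_eq.symm
      rw [← hmap] at hx
      obtain ⟨y, hy, rfl⟩ := hx
      show (g⁻¹).1.1 (g.1.1 y) ∈ τ.fsp
      rw [inv_apply_eo]; exact hy

theorem U1_hw (r : F) : polar Q τ.y1 (r • τ.f2) = 0 := by simp [polar_smul_right, τ.h12]

theorem U2_hw (r : F) : polar Q τ.y2 (r • τ.f1) = 0 := by simp [polar_smul_right, τ.h21]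

theorem U1_mat (r : F) : τ.mat (E Q τ.y1 (r • τ.f2)) = !![1, r; 0, 1] := by
  refine τ.mat_eq ?_ ?_
  · rw [E_fix τ.hy1 (τ.U1_hw r) τ.s11 (τ.U1_hw r)]; simp
  · rw [E_apply τ.hy1 (τ.U1_hw r), τ.hyy', polar_smul_right, τ.h22]
    simp [add_comm]

theorem U2_mat (r : F) : τ.mat (E Q τ.y2 (r • τ.f1)) = !![1, 0; r, 1] := by
  refine τ.mat_eq ?_ ?_
  · rw [E_apply τ.hy2 (τ.U2_hw r), τ.hyy, polar_smul_right, τ.h11]
    simp
  · rw [E_fix τ.hy2 (τ.U2_hw r) τ.s22 (τ.U2_hw r)]; simp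

theorem U1_mem (r : F) : E Q τ.y1 (r • τ.f2) ∈ τ.M := by
  refine ⟨⟨τ.mem_P ?_ ?_, ?_⟩, fun w => E_fix τ.hy1 (τ.U1_hw r) (τ.Wy1 w) (by simp [polar_smul_right, τ.Wf2]),
    fun x hx => ?_⟩
  · rw [E_fix τ.hy1 (τ.U1_hw r) τ.s11 (τ.U1_hw r)]; exact τ.y1_mem
  · rw [E_apply τ.hy1 (τ.U1_hw r), τ.hyy']
    simp only [neg_zero, zero_smul, mul_zero, add_zero]
    exact add_mem τ.y2_mem (τ.ell.smul_mem _ τ.y1_mem)
  · rw [U1_mat, Matrix.det_fin_two]; simp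
  · rw [τ.fsp_eq hx, map_add, map_smul, map_smul, E_fix τ.hy1 (τ.U1_hw r) τ.h12' (by simp [polar_smul_right, τ.t22]),
      E_apply τ.hy1 (τ.U1_hw r), polar_smul_right, τ.hff, Quad.map_smul', τ.hf2]
    simp only [smul_zero, zero_smul, mul_zero, zero_mul, neg_zero, add_zero]
    exact add_mem (τ.fsp.smul_mem _ (add_mem τ.f1_mem (τ.fsp.smul_mem _ (τ.fsp.smul_mem _ τ.f2_mem))))
      (τ.fsp.smul_mem _ τ.f2_mem)

theorem U2_mem (r : F) : E Q τ.y2 (r • τ.f1) ∈ τ.M := by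
  refine ⟨⟨τ.mem_P ?_ ?_, ?_⟩, fun w => E_fix τ.hy2 (τ.U2_hw r) (τ.Wy2 w) (by simp [polar_smul_right, τ.Wf1]),
    fun x hx => ?_⟩
  · rw [E_apply τ.hy2 (τ.U2_hw r), τ.hyy]
    simp only [neg_zero, zero_smul, mul_zero, add_zero]
    exact add_mem τ.y1_mem (τ.ell.smul_mem _ τ.y2_mem)
  · rw [E_fix τ.hy2 (τ.U2_hw r) τ.s22 (τ.U2_hw r)]; exact τ.y2_mem
  · rw [U2_mat, Matrix.det_fin_two]; simp
  · rw [τ.fsp_eq hx, map_add, map_smul, map_smul, E_fix τ.hy2 (τ.U2_hw r) τ.h21' (by simp [polar_smul_right, τ.t11]),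
      E_apply τ.hy2 (τ.U2_hw r), polar_smul_right, τ.hff', Quad.map_smul', τ.hf1]
    simp only [smul_zero, zero_smul, mul_zero, zero_mul, neg_zero, add_zero]
    exact add_mem (τ.fsp.smul_mem _ τ.f1_mem)
      (τ.fsp.smul_mem _ (add_mem τ.f2_mem (τ.fsp.smul_mem _ (τ.fsp.smul_mem _ τ.f1_mem))))

/-- Every matrix of determinant one comes from a Levi element. -/
theorem exists_lev [Finite F] (A : SL(2, F)) :
    ∃ g : τ.P1, g.1 ∈ τ.M ∧ τ.sl g = A := by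
  have h : (τ.M.subgroupOf τ.P1).map τ.sl = ⊤ := by
    refine eq_top_of_up _ (fun c => ⟨⟨_, (τ.U1_mem c).1⟩, τ.U1_mem c, Subtype.ext ?_⟩)
      fun c => ⟨⟨_, (τ.U2_mem (-c)).1⟩, τ.U2_mem (-c), Subtype.ext ?_⟩
    · rw [sl_coe, up_coe]; exact τ.U1_mat c
    · rw [sl_coe, low_eq]; exact τ.U2_mat (-c)
  obtain ⟨g, hg, e⟩ := (h ▸ Subgroup.mem_top A : A ∈ (τ.M.subgroupOf τ.P1).map τ.sl)
  exact ⟨g, hg, e⟩

theorem lam_M {g : eo Q} (hg : g ∈ τ.M) : τ.lam ⟨g, hg.1.1⟩ = 1 :=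
  τ.lam_eq_one fun w => by rw [hg.2.1, τ.pr_W]

/-- Swapping the first pair. -/
theorem weyl_apply (u : τ.W) (hu : Q (u : V) ≠ 0) :
    ((E Q τ.y1 (u : V) * E Q τ.f1 ((Q (u : V))⁻¹ • (u : V)) * E Q τ.y1 (u : V)).1.1 τ.y1 =
      (-(Q (u : V))⁻¹) • τ.f1) ∧
    ((E Q τ.y1 (u : V) * E Q τ.f1 ((Q (u : V))⁻¹ • (u : V)) * E Q τ.y1 (u : V)).1.1 τ.f1 =
      (-Q (u : V)) • τ.y1) ∧
    ((E Q τ.y1 (u : V) * E Q τ.f1 ((Q (u : V))⁻¹ • (u : V)) * E Q τ.y1 (u : V)).1.1 τ.y2 = τ.y2) := by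
  set a := Q (u : V) with ha
  have hw : polar Q τ.f1 (a⁻¹ • (u : V)) = 0 := by simp [polar_smul_right, τ.Bf1]
  have e1 : (E Q τ.y1 (u : V)).1.1 τ.y1 = τ.y1 := E_fix τ.hy1 (τ.By1 u) τ.s11 (τ.By1 u)
  refine ⟨?_, ?_, ?_⟩
  · rw [mul_apply_eo, mul_apply_eo, e1, E_apply τ.hf1 hw, τ.h11]
    simp only [map_add, map_smul, e1, polar_smul_right, τ.By1, Quad.map_smul', ← ha, τ.E1_W, smul_eq_mul]
    rw [E_apply τ.hy1 (τ.By1 u), τ.h11', τ.Bf1, polar_self', ← ha]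
    match_scalars <;> field_simp <;> ring
  · have k1 : (E Q τ.y1 (u : V)).1.1 τ.f1 = τ.f1 + (-1 : F) • (u : V) + (-a) • τ.y1 := by
      rw [E_apply τ.hy1 (τ.By1 u), τ.h11', τ.Bf1]; simp [ha]
    have k2 : (E Q τ.y1 (u : V)).1.1 (u : V) = (u : V) + (2 * a) • τ.y1 := by
      rw [τ.E1_W, polar_self']
    have k3 : (E Q τ.f1 (a⁻¹ • (u : V))).1.1 (u : V) = (u : V) + (2 : F) • τ.f1 := by
      rw [E_apply τ.hf1 hw, τ.Wf1, polar_smul_right, polar_self', smul_eq_mul, ← ha]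
      match_scalars <;> field_simp <;> ring
    have k4 : (E Q τ.f1 (a⁻¹ • (u : V))).1.1 τ.y1 = τ.y1 + (-a⁻¹) • (u : V) + (-a⁻¹) • τ.f1 := by
      rw [E_apply τ.hf1 hw, τ.h11, polar_smul_right, τ.By1, Quad.map_smul', ← ha]
      match_scalars <;> field_simp <;> ring
    have k5 : (E Q τ.f1 (a⁻¹ • (u : V))).1.1 τ.f1 = τ.f1 := E_fix τ.hf1 hw τ.t11 hw
    rw [mul_apply_eo, mul_apply_eo, k1]
    simp only [map_add, map_smul, k3, k4, k5, k1, k2, e1]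
    match_scalars <;> field_simp <;> ring
  · rw [mul_apply_eo, mul_apply_eo, E_fix τ.hy1 (τ.By1 u) τ.hyy' (τ.By2 u),
      E_fix τ.hf1 hw τ.h21 (by simp [polar_smul_right, τ.By2]), E_fix τ.hy1 (τ.By1 u) τ.hyy' (τ.By2 u)]


theorem P2_le' : τ.P2 ≤ τ.P := fun _ hg => τ.P2_le_P hg

/-- The image on the complement of the pointwise stabiliser of the line. -/
def L : Subgroup (oG τ.QW) := (τ.lam.comp (Subgroup.inclusion τ.P2_le')).range

/-- The induced map on the pointwise stabiliser. -/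
def lamR : τ.P2 →* τ.L := (τ.lam.comp (Subgroup.inclusion τ.P2_le')).rangeRestrict

theorem lamR_coe (g : τ.P2) : (τ.lamR g : oG τ.QW) = τ.lam ⟨g.1, τ.P2_le_P g.2⟩ := rfl

theorem lamR_surjective : Function.Surjective τ.lamR := MonoidHom.rangeRestrict_surjective _

theorem lamR_one {g : τ.P2} : τ.lamR g = 1 ↔ ∀ w : τ.W, τ.pr (g.1.1.1 (w : V)) = w := by
  rw [Subtype.ext_iff, lamR_coe]; exact τ.lam_one_iff

/-- A Siegel transformation of the complement lifts. -/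
theorem lift_E {e u : τ.W} (he : τ.QW e = 0) (heu : polar τ.QW e u = 0) :
    ∃ h : E Q (e : V) (u : V) ∈ τ.P2, τ.lam ⟨_, τ.P2_le_P h⟩ = sO he heu := by
  have he' : Q (e : V) = 0 := he
  have heu' : polar Q (e : V) (u : V) = 0 := heu
  have h : E Q (e : V) (u : V) ∈ τ.P2 := ⟨E_fix he' heu' (τ.By1 e) (τ.By1 u), E_fix he' heu' (τ.By2 e) (τ.By2 u)⟩
  refine ⟨h, ext_oG fun w => ?_⟩
  rw [τ.lam_apply, E_apply he' heu', sO_apply]
  simp only [map_add, map_smul, τ.pr_W]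
  rfl

theorem eo_le_L : eo τ.QW ≤ τ.L := by
  refine (Subgroup.closure_le _).2 ?_
  rintro _ ⟨e, u, he, heu, rfl⟩
  obtain ⟨h, e'⟩ := τ.lift_E he heu
  exact ⟨⟨_, h⟩, e'⟩

/-- The kernel on the complement, as vectors. -/
def vec : τ.lamR.ker →* Multiplicative (τ.W × τ.W) :=
  MonoidHom.mk' (fun g => Multiplicative.ofAdd (τ.vecOf g.1.1)) fun g h => by
    rw [← ofAdd_add, ← τ.vecOf_mul g.1.2 (τ.lamR_one.1 g.2) h.1.2]; rfl

theorem qe_ker (a b : τ.W) (c : F) : (⟨τ.qe a b c, τ.qe_mem_P2 a b c⟩ : τ.P2) ∈ τ.lamR.ker :=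
  τ.lamR_one.2 fun w => τ.pr_qe_W a b w c

theorem vec_surjective : Function.Surjective τ.vec := fun x =>
  ⟨⟨_, τ.qe_ker (Multiplicative.toAdd x).1 (Multiplicative.toAdd x).2 0⟩, by
    show Multiplicative.ofAdd (τ.vecOf _) = x
    rw [τ.vecOf_qe]; rfl⟩

/-- The centre as a homomorphism. -/
noncomputable def cen : Multiplicative F →* τ.lamR.ker :=
  MonoidHom.mk' (fun c => ⟨⟨τ.qe 0 0 (Multiplicative.toAdd c), τ.qe_mem_P2 _ _ _⟩, τ.qe_ker _ _ _⟩) fun c d =>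
    Subtype.ext (Subtype.ext (by
      show τ.qe 0 0 _ = τ.qe 0 0 _ * τ.qe 0 0 _
      rw [τ.qe_z, τ.qe_z, τ.qe_z]; exact τ.z_add _ _))

theorem cen_range : τ.cen.range = τ.vec.ker := by
  ext g
  constructor
  · rintro ⟨c, rfl⟩
    show Multiplicative.ofAdd (τ.vecOf (τ.qe 0 0 (Multiplicative.toAdd c))) = 1
    rw [τ.vecOf_qe]; rfl
  · intro hg
    obtain ⟨c, hc⟩ := τ.eq_z g.1.2 (τ.lamR_one.1 g.2) (congrArg Multiplicative.toAdd hg)
    exact ⟨Multiplicative.ofAdd c, Subtype.ext (Subtype.ext (by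
      show τ.qe 0 0 c = g.1.1
      rw [τ.qe_z, hc]))⟩

variable (K : Subgroup (eo Q))

/-- The determinants in the subgroup. -/
def T : Subgroup Fˣ := (K.subgroupOf τ.P).map τ.det

/-- The image on the line. -/
def J : Subgroup SL(2, F) := (K.subgroupOf τ.P1).map τ.sl

/-- The image on the complement. -/
def I : Subgroup τ.L := (K.subgroupOf τ.P2).map τ.lamR

/-- The vector parts. -/
def S : AddSubgroup (τ.W × τ.W) where
  carrier := {x | ∃ c, τ.qe x.1 x.2 c ∈ K}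
  zero_mem' := ⟨0, by simp [τ.qe_zero]⟩
  add_mem' := fun ⟨_, ha⟩ ⟨_, hb⟩ => ⟨_, by
    have := K.mul_mem ha hb
    rwa [τ.qe_mul] at this⟩
  neg_mem' := fun ⟨_, ha⟩ => ⟨_, by
    have := K.inv_mem ha
    rwa [τ.qe_inv] at this⟩

/-- The central parts. -/
def Zp : AddSubgroup F where
  carrier := {c | τ.z c ∈ K}
  zero_mem' := by show τ.z 0 ∈ K; rw [τ.z_zero]; exact K.one_mem
  add_mem' := fun {a b} ha hb => by show τ.z (a + b) ∈ K; rw [τ.z_add]; exact K.mul_mem ha hb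
  neg_mem' := fun {a} ha => by show τ.z (-a) ∈ K; rw [τ.z_neg]; exact K.inv_mem ha

theorem mem_S {a b : τ.W} : (a, b) ∈ τ.S K ↔ ∃ c, τ.qe a b c ∈ K := Iff.rfl

theorem mem_Zp {c : F} : c ∈ τ.Zp K ↔ τ.z c ∈ K := Iff.rfl

theorem mem_I {l : τ.L} : l ∈ τ.I K ↔ ∃ g : τ.P2, g.1 ∈ K ∧ τ.lamR g = l := Iff.rfl

theorem mem_J {A : SL(2, F)} : A ∈ τ.J K ↔ ∃ g : τ.P1, g.1 ∈ K ∧ τ.sl g = A := Iff.rfl

variable [Finite F] [FiniteDimensional F V]

theorem exists_value (hn : 7 ≤ finrank F V) (a : F) : ∃ u : τ.W, Q (u : V) = a := by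
  obtain ⟨e, he0, he⟩ := exists_singular τ.QW (by have := τ.finrank_W; omega)
  obtain ⟨g, hg, heg⟩ := exists_hyp_pair τ.nondeg_W he0 he
  exact ⟨a • e + g, Q_pair he hg heg a⟩

theorem det_surjective (hn : 7 ≤ finrank F V) : Function.Surjective τ.det := fun b => by
  obtain ⟨u, hu⟩ := τ.exists_value hn 1
  obtain ⟨u', hu'⟩ := τ.exists_value hn (b : F)
  obtain ⟨h1, -, h3⟩ := τ.weyl_apply u (by rw [hu]; exact one_ne_zero)
  obtain ⟨-, h2', h3'⟩ := τ.weyl_apply u' (by rw [hu']; exact b.ne_zero)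
  set g := E Q τ.y1 (u' : V) * E Q τ.f1 ((Q (u' : V))⁻¹ • (u' : V)) * E Q τ.y1 (u' : V) *
    (E Q τ.y1 (u : V) * E Q τ.f1 ((Q (u : V))⁻¹ • (u : V)) * E Q τ.y1 (u : V)) with hg
  have e1 : g.1.1 τ.y1 = (b : F) • τ.y1 := by
    rw [hg, mul_apply_eo, h1, map_smul, h2', hu, hu', smul_smul]; simp
  have e2 : g.1.1 τ.y2 = τ.y2 := by rw [hg, mul_apply_eo, h3, h3']
  have hgP : g ∈ τ.P := τ.mem_P (by rw [e1]; exact τ.ell.smul_mem _ τ.y1_mem) (by rw [e2]; exact τ.y2_mem)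
  refine ⟨⟨g, hgP⟩, Units.ext ?_⟩
  rw [det_val, τ.mat_eq (g := g) (a := (b : F)) (b := 0) (c := 0) (d := 1) (by simp [e1]) (by simp [e2]),
    Matrix.det_fin_two]
  simp

theorem sl_surjective : Function.Surjective τ.sl := fun A => by
  obtain ⟨g, -, e⟩ := τ.exists_lev A
  exact ⟨g, e⟩

/-- The index formula at the line. -/
theorem relIndex_P (hn : 7 ≤ finrank F V) :
    K.relIndex τ.P = (τ.T K).index * ((τ.J K).index * ((τ.I K).index * ((τ.S K).index * (τ.Zp K).index))) := by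
  have : Finite V := Module.finite_of_finite F
  have := finite_eo (Q := Q)
  have hι1 : (Subgroup.inclusion τ.P1_le).range = τ.det.ker := by
    ext g
    rw [Subgroup.inclusion_range, Subgroup.mem_subgroupOf, MonoidHom.mem_ker, Units.ext_iff, det_val, Units.val_one]
    exact ⟨fun h => h.2, fun h => ⟨g.2, h⟩⟩
  have hι2 : (Subgroup.inclusion τ.P2_le).range = τ.sl.ker := by
    ext g
    rw [Subgroup.inclusion_range, Subgroup.mem_subgroupOf, MonoidHom.mem_ker]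
    exact ⟨fun h => Subtype.ext (τ.mat_P2 h), fun h => τ.P2_of_mat g.2.1 (congrArg Subtype.val h)⟩
  have h1 := SU.index_split τ.det (τ.det_surjective hn) _ hι1 (K.subgroupOf τ.P)
  have h2 := SU.index_split τ.sl τ.sl_surjective _ hι2 (K.subgroupOf τ.P1)
  have h3 := SU.index_split τ.lamR τ.lamR_surjective τ.lamR.ker.subtype τ.lamR.ker.range_subtype (K.subgroupOf τ.P2)
  have h4 := SU.index_split τ.vec τ.vec_surjective τ.cen τ.cen_range ((K.subgroupOf τ.P2).comap τ.lamR.ker.subtype)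
  have e1 : (K.subgroupOf τ.P).comap (Subgroup.inclusion τ.P1_le) = K.subgroupOf τ.P1 := rfl
  have e2 : (K.subgroupOf τ.P1).comap (Subgroup.inclusion τ.P2_le) = K.subgroupOf τ.P2 := rfl
  have e3 : ((K.subgroupOf τ.P2).comap τ.lamR.ker.subtype).map τ.vec = AddSubgroup.toSubgroup (τ.S K) := by
    ext x
    constructor
    · rintro ⟨g, hg, rfl⟩
      obtain ⟨c, hc⟩ := τ.eq_qe g.1.2 (τ.lamR_one.1 g.2)
      exact ⟨c, hc ▸ hg⟩
    · rintro ⟨c, hc⟩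
      refine ⟨⟨_, τ.qe_ker _ _ c⟩, hc, ?_⟩
      show Multiplicative.ofAdd (τ.vecOf _) = x
      rw [τ.vecOf_qe]; rfl
  have e4 : ((K.subgroupOf τ.P2).comap τ.lamR.ker.subtype).comap τ.cen = AddSubgroup.toSubgroup (τ.Zp K) := by
    ext c
    show τ.qe 0 0 (Multiplicative.toAdd c) ∈ K ↔ τ.z (Multiplicative.toAdd c) ∈ K
    rw [τ.qe_z]
  rw [e1] at h1
  rw [e2] at h2
  rw [e3, e4, AddSubgroup.index_toSubgroup, AddSubgroup.index_toSubgroup] at h4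
  rw [Subgroup.relIndex, h1, h2, h3, h4]
  rfl

theorem relIndex_le_index : K.relIndex τ.P ≤ K.index := by
  have := finite_eo (Q := Q)
  rw [← Subgroup.relIndex_top_right]
  exact Subgroup.relIndex_le_of_le_right le_top Subgroup.index_ne_zero_of_finite

end LF

end Cfsg.Agent.MinIndexForm.O
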