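import Cfsg.Agent.MinIndexForm.O.Frame
import Cfsg.Agent.MinIndexForm.O.SL2

/-!
The stabiliser of a totally singular line in the group generated by Siegel transformations: its four layers.
-/

set_option autoImplicit false

namespace Cfsg.Agent.MinIndexForm.O

open Cfsg.Agent.Classical Cfsg.Agent.Classical.Quad Module QuadraticMap Matrix
open scoped MatrixGroups

variable {F V : Type*} [Field F] [AddCommGroup V] [Module F V] {Q : QuadraticForm F V}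

theorem polar_map_eo (g : eo Q) (x y : V) : polar Q (g.1.1 x) (g.1.1 y) = polar Q x y := polar_oG g.1 x y

namespace LF

variable (τ : LF Q)

/-- The line. -/
def ell : Submodule F V := Submodule.span F {τ.y1, τ.y2}

theorem y1_mem : τ.y1 ∈ τ.ell := Submodule.subset_span (by simp)
theorem y2_mem : τ.y2 ∈ τ.ell := Submodule.subset_span (by simp)

theorem ell_eq {x : V} (hx : x ∈ τ.ell) : x = polar Q x τ.f1 • τ.y1 + polar Q x τ.f2 • τ.y2 := by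
  obtain ⟨a, b, rfl⟩ := Submodule.mem_span_pair.1 hx
  simp [polar_add_left, polar_smul_left, τ.h11, τ.h12, τ.h21, τ.h22]

theorem ell_perp {x : V} (hx : x ∈ τ.ell) (w : τ.W) : polar Q (w : V) x = 0 := by
  rw [τ.ell_eq hx]; simp [polar_add_right, polar_smul_right, τ.Wy1, τ.Wy2]

theorem pr_ell {x : V} (hx : x ∈ τ.ell) : τ.pr x = 0 := by
  rw [τ.ell_eq hx]; simp [τ.pr_y1, τ.pr_y2]

/-- The two by two matrix of the action on the line. -/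
def mat (g : eo Q) : Matrix (Fin 2) (Fin 2) F :=
  !![polar Q (g.1.1 τ.y1) τ.f1, polar Q (g.1.1 τ.y2) τ.f1; polar Q (g.1.1 τ.y1) τ.f2, polar Q (g.1.1 τ.y2) τ.f2]

theorem mat_00 (g : eo Q) : τ.mat g 0 0 = polar Q (g.1.1 τ.y1) τ.f1 := rfl
theorem mat_01 (g : eo Q) : τ.mat g 0 1 = polar Q (g.1.1 τ.y2) τ.f1 := rfl
theorem mat_10 (g : eo Q) : τ.mat g 1 0 = polar Q (g.1.1 τ.y1) τ.f2 := rfl
theorem mat_11 (g : eo Q) : τ.mat g 1 1 = polar Q (g.1.1 τ.y2) τ.f2 := rfl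

/-- The stabiliser of the line. -/
def P : Subgroup (eo Q) where
  carrier := {g | ∀ x ∈ τ.ell, g.1.1 x ∈ τ.ell}
  one_mem' := fun x hx => hx
  mul_mem' {g h} hg hh x hx := hg _ (hh x hx)
  inv_mem' {g} hg x hx := by
    have : FiniteDimensional F τ.ell := FiniteDimensional.span_of_finite F (Set.toFinite _)
    have hmap : τ.ell.map (g.1.1 : V →ₗ[F] V) = τ.ell := by
      refine Submodule.eq_of_le_of_finrank_eq (Submodule.map_le_iff_le_comap.2 hg) ?_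
      exact (Submodule.equivMapOfInjective _ g.1.1.injective _).finrank_eq.symm
    rw [← hmap] at hx
    obtain ⟨y, hy, rfl⟩ := hx
    show (g⁻¹).1.1 (g.1.1 y) ∈ τ.ell
    rw [inv_apply_eo]; exact hy

theorem mem_P {g : eo Q} (h1 : g.1.1 τ.y1 ∈ τ.ell) (h2 : g.1.1 τ.y2 ∈ τ.ell) : g ∈ τ.P := fun x hx => by
  rw [τ.ell_eq hx, map_add, map_smul, map_smul]
  exact add_mem (τ.ell.smul_mem _ h1) (τ.ell.smul_mem _ h2)

theorem g_y1 {g : eo Q} (hg : g ∈ τ.P) : g.1.1 τ.y1 = τ.mat g 0 0 • τ.y1 + τ.mat g 1 0 • τ.y2 :=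
  τ.ell_eq (hg _ τ.y1_mem)

theorem g_y2 {g : eo Q} (hg : g ∈ τ.P) : g.1.1 τ.y2 = τ.mat g 0 1 • τ.y1 + τ.mat g 1 1 • τ.y2 :=
  τ.ell_eq (hg _ τ.y2_mem)

theorem mat_eq {g : eo Q} {a b c d : F} (h1 : g.1.1 τ.y1 = a • τ.y1 + c • τ.y2)
    (h2 : g.1.1 τ.y2 = b • τ.y1 + d • τ.y2) : τ.mat g = !![a, b; c, d] := by
  rw [mat, h1, h2]
  simp [polar_add_left, polar_smul_left, τ.h11, τ.h12, τ.h21, τ.h22]

theorem mat_one : τ.mat 1 = 1 := by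
  rw [τ.mat_eq (g := 1) (a := 1) (b := 0) (c := 0) (d := 1) (by simp [one_apply_eo]) (by simp [one_apply_eo]),
    Matrix.one_fin_two]

theorem mat_mul (g : eo Q) {h : eo Q} (hh : h ∈ τ.P) : τ.mat (g * h) = τ.mat g * τ.mat h := by
  have k1 : ∀ f, polar Q ((g * h).1.1 τ.y1) f =
      τ.mat h 0 0 * polar Q (g.1.1 τ.y1) f + τ.mat h 1 0 * polar Q (g.1.1 τ.y2) f := fun f => by
    rw [mul_apply_eo, τ.g_y1 hh, map_add, map_smul, map_smul, polar_add_left, polar_smul_left, polar_smul_left,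
      smul_eq_mul, smul_eq_mul]
  have k2 : ∀ f, polar Q ((g * h).1.1 τ.y2) f =
      τ.mat h 0 1 * polar Q (g.1.1 τ.y1) f + τ.mat h 1 1 * polar Q (g.1.1 τ.y2) f := fun f => by
    rw [mul_apply_eo, τ.g_y2 hh, map_add, map_smul, map_smul, polar_add_left, polar_smul_left, polar_smul_left,
      smul_eq_mul, smul_eq_mul]
  ext i j
  rw [Matrix.mul_apply, Fin.sum_univ_two]
  fin_cases i <;> fin_cases j
  · show polar Q ((g * h).1.1 τ.y1) τ.f1 = τ.mat g 0 0 * τ.mat h 0 0 + τ.mat g 0 1 * τ.mat h 1 0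
    rw [k1, τ.mat_00 g, τ.mat_01 g]; ring
  · show polar Q ((g * h).1.1 τ.y2) τ.f1 = τ.mat g 0 0 * τ.mat h 0 1 + τ.mat g 0 1 * τ.mat h 1 1
    rw [k2, τ.mat_00 g, τ.mat_01 g]; ring
  · show polar Q ((g * h).1.1 τ.y1) τ.f2 = τ.mat g 1 0 * τ.mat h 0 0 + τ.mat g 1 1 * τ.mat h 1 0
    rw [k1, τ.mat_10 g, τ.mat_11 g]; ring
  · show polar Q ((g * h).1.1 τ.y2) τ.f2 = τ.mat g 1 0 * τ.mat h 0 1 + τ.mat g 1 1 * τ.mat h 1 1
    rw [k2, τ.mat_10 g, τ.mat_11 g]; ring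

/-- The matrix as a homomorphism. -/
def matHom : τ.P →* Matrix (Fin 2) (Fin 2) F where
  toFun g := τ.mat g.1
  map_one' := τ.mat_one
  map_mul' g h := τ.mat_mul g.1 h.2

/-- The determinant on the line. -/
def det : τ.P →* Fˣ := (Matrix.detMonoidHom.comp τ.matHom).toHomUnits

theorem det_val (g : τ.P) : (τ.det g : F) = (τ.mat g.1).det := rfl

/-- The elements of determinant one. -/
def P1 : Subgroup (eo Q) where
  carrier := {g | g ∈ τ.P ∧ (τ.mat g).det = 1}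
  one_mem' := ⟨τ.P.one_mem, by rw [τ.mat_one, Matrix.det_one]⟩
  mul_mem' {g h} hg hh := ⟨τ.P.mul_mem hg.1 hh.1, by rw [τ.mat_mul g hh.1, Matrix.det_mul, hg.2, hh.2, one_mul]⟩
  inv_mem' {g} hg := by
    refine ⟨τ.P.inv_mem hg.1, ?_⟩
    have h := τ.mat_mul g⁻¹ hg.1
    rw [inv_mul_cancel, τ.mat_one] at h
    have := congrArg Matrix.det h
    rw [Matrix.det_one, Matrix.det_mul, hg.2, mul_one] at this
    exact this.symm

theorem P1_le : τ.P1 ≤ τ.P := fun _ hg => hg.1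

/-- The special linear group on the line. -/
def sl : τ.P1 →* SL(2, F) where
  toFun g := ⟨τ.mat g.1, g.2.2⟩
  map_one' := Subtype.ext τ.mat_one
  map_mul' g h := Subtype.ext (τ.mat_mul g.1 h.2.1)

theorem sl_coe (g : τ.P1) : (τ.sl g : Matrix (Fin 2) (Fin 2) F) = τ.mat g.1 := rfl

/-- The elements fixing the line pointwise. -/
def P2 : Subgroup (eo Q) where
  carrier := {g | g.1.1 τ.y1 = τ.y1 ∧ g.1.1 τ.y2 = τ.y2}
  one_mem' := ⟨rfl, rfl⟩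
  mul_mem' {g h} hg hh := ⟨by rw [mul_apply_eo, hh.1, hg.1], by rw [mul_apply_eo, hh.2, hg.2]⟩
  inv_mem' {g} hg :=
    ⟨by conv_lhs => rw [← hg.1]
        exact inv_apply_eo g _,
     by conv_lhs => rw [← hg.2]
        exact inv_apply_eo g _⟩

theorem P2_le_P {g : eo Q} (hg : g ∈ τ.P2) : g ∈ τ.P :=
  τ.mem_P (by rw [hg.1]; exact τ.y1_mem) (by rw [hg.2]; exact τ.y2_mem)

theorem mat_P2 {g : eo Q} (hg : g ∈ τ.P2) : τ.mat g = 1 := by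
  rw [τ.mat_eq (g := g) (a := 1) (b := 0) (c := 0) (d := 1) (by simp [hg.1]) (by simp [hg.2]), Matrix.one_fin_two]

theorem P2_le : τ.P2 ≤ τ.P1 := fun g hg => ⟨τ.P2_le_P hg, by rw [τ.mat_P2 hg, Matrix.det_one]⟩

theorem P2_of_mat {g : eo Q} (hg : g ∈ τ.P) (h : τ.mat g = 1) : g ∈ τ.P2 :=
  ⟨by rw [τ.g_y1 hg, h]; simp, by rw [τ.g_y2 hg, h]; simp⟩

theorem perp_map {g : eo Q} (hg : g ∈ τ.P) {x : V} (hx : x ∈ τ.ell) (w : τ.W) :
    polar Q (g.1.1 (w : V)) x = 0 := by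
  rw [← apply_inv_eo g x, polar_map_eo]
  exact τ.ell_perp (τ.P.inv_mem hg x hx) w

theorem g_W {g : eo Q} (hg : g ∈ τ.P) (w : τ.W) : g.1.1 (w : V) =
    (τ.pr (g.1.1 (w : V)) : V) + (polar Q τ.f1 (g.1.1 (w : V)) • τ.y1 + polar Q τ.f2 (g.1.1 (w : V)) • τ.y2) := by
  conv_lhs => rw [τ.decomp (g.1.1 (w : V))]
  rw [polar_comm Q τ.y1, τ.perp_map hg τ.y1_mem, polar_comm Q τ.y2, τ.perp_map hg τ.y2_mem]
  simp only [zero_smul, add_zero]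
  abel

theorem pr_map {g : eo Q} (hg : g ∈ τ.P) {x : V} (h1 : polar Q τ.y1 x = 0) (h2 : polar Q τ.y2 x = 0) :
    τ.pr (g.1.1 (τ.pr x : V)) = τ.pr (g.1.1 x) := by
  conv_rhs => rw [τ.decomp x, h1, h2]
  simp [τ.pr_ell (hg _ τ.y1_mem), τ.pr_ell (hg _ τ.y2_mem)]

/-- The map induced on the complement. -/
def lamE (g : τ.P) : τ.W ≃ₗ[F] τ.W where
  toFun w := τ.pr (g.1.1.1 (w : V))
  map_add' u v := by simp
  map_smul' c u := by simp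
  invFun w := τ.pr ((g.1⁻¹).1.1 (w : V))
  left_inv w := by
    show τ.pr ((g.1⁻¹).1.1 (τ.pr (g.1.1.1 (w : V)) : V)) = w
    rw [τ.pr_map (τ.P.inv_mem g.2) (by rw [polar_comm, τ.perp_map g.2 τ.y1_mem])
      (by rw [polar_comm, τ.perp_map g.2 τ.y2_mem]), inv_apply_eo, τ.pr_W]
  right_inv w := by
    show τ.pr (g.1.1.1 (τ.pr ((g.1⁻¹).1.1 (w : V)) : V)) = w
    rw [τ.pr_map g.2 (by rw [polar_comm, τ.perp_map (τ.P.inv_mem g.2) τ.y1_mem])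
      (by rw [polar_comm, τ.perp_map (τ.P.inv_mem g.2) τ.y2_mem]), apply_inv_eo, τ.pr_W]

theorem lamE_mem (g : τ.P) : τ.lamE g ∈ oG τ.QW := fun w => by
  show Q (τ.pr (g.1.1.1 (w : V)) : V) = Q (w : V)
  have h := g.1.1.2 (w : V)
  rw [τ.g_W g.2 w, map_add', map_add', Quad.map_smul', Quad.map_smul', τ.hy1, τ.hy2, polar_smul_left, polar_smul_right,
    τ.hyy, polar_add_right, polar_smul_right, polar_smul_right, τ.Wy1, τ.Wy2] at h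
  simpa using h

/-- The induced isometry of the complement. -/
def lam : τ.P →* oG τ.QW :=
  MonoidHom.mk' (fun g => ⟨τ.lamE g, τ.lamE_mem g⟩) fun g h => ext_oG fun w => by
    show τ.pr ((g.1 * h.1).1.1 (w : V)) = τ.pr (g.1.1.1 (τ.pr (h.1.1.1 (w : V)) : V))
    rw [τ.pr_map g.2 (by rw [polar_comm, τ.perp_map h.2 τ.y1_mem]) (by rw [polar_comm, τ.perp_map h.2 τ.y2_mem])]
    rfl

theorem lam_apply (g : τ.P) (w : τ.W) : (τ.lam g).1 w = τ.pr (g.1.1.1 (w : V)) := rfl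

theorem lam_eq_one {g : τ.P} (h : ∀ w : τ.W, τ.pr (g.1.1.1 (w : V)) = w) : τ.lam g = 1 :=
  ext_oG fun w => by rw [τ.lam_apply, h, oG_one_apply]

theorem lam_one_iff {g : τ.P} : τ.lam g = 1 ↔ ∀ w : τ.W, τ.pr (g.1.1.1 (w : V)) = w :=
  ⟨fun h w => by rw [← τ.lam_apply, h, oG_one_apply], τ.lam_eq_one⟩

theorem qe_mem_P2 (a b : τ.W) (c : F) : τ.qe a b c ∈ τ.P2 := ⟨τ.qe_y1 a b c, τ.qe_y2 a b c⟩

theorem pr_qe_W (a b w : τ.W) (c : F) : τ.pr ((τ.qe a b c).1.1 (w : V)) = w := by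
  rw [τ.qe_W]; simp [τ.pr_W, τ.pr_y1, τ.pr_y2]

/-- The vector of an element. -/
def vecOf (g : eo Q) : τ.W × τ.W := (-τ.pr (g.1.1 τ.f1), -τ.pr (g.1.1 τ.f2))

theorem vecOf_qe (a b : τ.W) (c : F) : τ.vecOf (τ.qe a b c) = (a, b) := by
  simp [vecOf, τ.qe_f1, τ.qe_f2, τ.pr_W, τ.pr_y1, τ.pr_y2, τ.pr_f1, τ.pr_f2]

theorem qe_inj {a a' b b' : τ.W} {c c' : F} (h : τ.qe a b c = τ.qe a' b' c') : a = a' ∧ b = b' ∧ c = c' := by
  have h1 := congrArg τ.vecOf h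
  rw [τ.vecOf_qe, τ.vecOf_qe, Prod.mk.injEq] at h1
  obtain ⟨rfl, rfl⟩ := h1
  have h2 := congrArg (fun g : eo Q => polar Q τ.f2 (g.1.1 τ.f1)) h
  simp [τ.qe_f1, polar_add_right, polar_smul_right, τ.hff', τ.h22', τ.h12', τ.Bf2] at h2
  exact ⟨rfl, rfl, h2⟩

theorem pr_f_map {g : eo Q} (hg : g.1.1 τ.y1 = τ.y1 ∧ g.1.1 τ.y2 = τ.y2) (hW : ∀ w : τ.W, τ.pr (g.1.1 (w : V)) = w)
    (h : eo Q) (hh : h ∈ τ.P2) {x : V} (hx : x = τ.f1 ∨ x = τ.f2) :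
    τ.pr ((g * h).1.1 x) = τ.pr (g.1.1 x) + τ.pr (h.1.1 x) := by
  rw [mul_apply_eo]
  conv_lhs => rw [τ.decomp (h.1.1 x)]
  have e1 : polar Q τ.y1 (h.1.1 x) = polar Q τ.y1 x := by rw [← polar_map_eo h τ.y1 x, hh.1]
  have e2 : polar Q τ.y2 (h.1.1 x) = polar Q τ.y2 x := by rw [← polar_map_eo h τ.y2 x, hh.2]
  rcases hx with rfl | rfl
  · simp [e1, e2, hg.1, hg.2, τ.pr_y1, τ.pr_y2, hW, τ.h11, τ.h21, add_comm]
  · simp [e1, e2, hg.1, hg.2, τ.pr_y1, τ.pr_y2, hW, τ.h22, τ.h12, add_comm]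

theorem vecOf_mul {g h : eo Q} (hg : g ∈ τ.P2) (hW : ∀ w : τ.W, τ.pr (g.1.1 (w : V)) = w) (hh : h ∈ τ.P2) :
    τ.vecOf (g * h) = τ.vecOf g + τ.vecOf h := by
  rw [vecOf, τ.pr_f_map hg hW h hh (Or.inl rfl), τ.pr_f_map hg hW h hh (Or.inr rfl)]
  simp [vecOf, add_comm]

theorem eq_z {g : eo Q} (hg : g ∈ τ.P2) (hW : ∀ w : τ.W, τ.pr (g.1.1 (w : V)) = w) (hv : τ.vecOf g = 0) :
    ∃ c, g = τ.z c := by
  have hp : g ∈ τ.P := τ.P2_le_P hg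
  simp only [vecOf, Prod.mk_eq_zero, neg_eq_zero] at hv
  have key : ∀ x : V, τ.pr (g.1.1 x) = 0 → g.1.1 x = polar Q τ.f1 (g.1.1 x) • τ.y1 + polar Q τ.y1 x • τ.f1
      + polar Q τ.f2 (g.1.1 x) • τ.y2 + polar Q τ.y2 x • τ.f2 := fun x hx => by
    conv_lhs => rw [τ.decomp (g.1.1 x), hx]
    rw [← polar_map_eo g τ.y1 x, hg.1, ← polar_map_eo g τ.y2 x, hg.2]
    simp
  have e1 := key _ hv.1
  have e2 := key _ hv.2
  simp only [τ.h11, τ.h21, τ.h12, τ.h22, one_smul, zero_smul, add_zero] at e1 e2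
  set s := polar Q τ.f1 (g.1.1 τ.f1)
  set t := polar Q τ.f2 (g.1.1 τ.f1)
  set s' := polar Q τ.f1 (g.1.1 τ.f2)
  set t' := polar Q τ.f2 (g.1.1 τ.f2)
  have hs : s = 0 := by
    have h := g.1.2 τ.f1
    rw [e1, τ.hf1] at h
    simpa [map_add', Quad.map_smul', polar_add_left, polar_smul_left, polar_smul_right, τ.hy1, τ.hy2, τ.hf1, τ.hyy,
      τ.h11, τ.h21, τ.h21'] using h
  have ht' : t' = 0 := by
    have h := g.1.2 τ.f2
    rw [e2, τ.hf2] at h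
    simpa [map_add', Quad.map_smul', polar_add_left, polar_smul_left, polar_smul_right, τ.hy1, τ.hy2, τ.hf2, τ.hyy,
      τ.h22, τ.h12, τ.h12'] using h
  have hts : t = -s' := by
    have h := polar_map_eo g τ.f1 τ.f2
    rw [e1, e2, τ.hff] at h
    simp [polar_add_left, polar_add_right, polar_smul_left, polar_smul_right, τ.s11, τ.s22, τ.hyy, τ.hyy', τ.hff,
      τ.h12, τ.h22, τ.h11', τ.h21'] at h
    linear_combination h
  rw [hs, zero_smul, zero_add, hts] at e1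
  rw [ht', zero_smul, add_zero] at e2
  have hw : ∀ w : τ.W, g.1.1 (w : V) = w := fun w => by
    have h1 := polar_map_eo g τ.f1 (w : V)
    have h2 := polar_map_eo g τ.f2 (w : V)
    rw [τ.g_W hp w, hW] at h1 h2 ⊢
    rw [e1, τ.Bf1] at h1
    rw [e2, τ.Bf2] at h2
    simp [polar_add_left, polar_add_right, polar_smul_left, polar_smul_right, τ.s11, τ.s22, τ.hyy, τ.hyy', τ.h11',
      τ.h22', τ.h12', τ.h21', τ.Bf1, τ.Bf2, τ.By1, τ.By2] at h1 h2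
    rw [h1, h2]; simp
  refine ⟨s', τ.ext_frame ?_ ?_ ?_ ?_ fun w => ?_⟩
  · rw [hg.1, τ.z_apply, τ.s11, τ.hyy]; simp
  · rw [hg.2, τ.z_apply, τ.s22, τ.hyy']; simp
  · rw [e1, τ.z_apply, τ.h11', τ.h21']; simp [add_comm]
  · rw [e2, τ.z_apply, τ.h22', τ.h12']; simp; abel
  · rw [hw, τ.z_apply, τ.Wy1, τ.Wy2]; simp

theorem eq_qe {g : eo Q} (hg : g ∈ τ.P2) (hW : ∀ w : τ.W, τ.pr (g.1.1 (w : V)) = w) :
    ∃ c, g = τ.qe (τ.vecOf g).1 (τ.vecOf g).2 c := by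
  set a := (τ.vecOf g).1
  set b := (τ.vecOf g).2
  have hinv : (τ.qe a b 0)⁻¹ ∈ τ.P2 := τ.P2.inv_mem (τ.qe_mem_P2 a b 0)
  have hW' : ∀ w : τ.W, τ.pr ((τ.qe a b 0)⁻¹.1.1 (w : V)) = w := fun w => by rw [τ.qe_inv]; exact τ.pr_qe_W _ _ _ _
  obtain ⟨c, hc⟩ := τ.eq_z (g := (τ.qe a b 0)⁻¹ * g) (τ.P2.mul_mem hinv hg) (fun w => by
    rw [mul_apply_eo, ← τ.pr_map (τ.P2_le_P hinv) (by rw [polar_comm, τ.perp_map (τ.P2_le_P hg) τ.y1_mem])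
      (by rw [polar_comm, τ.perp_map (τ.P2_le_P hg) τ.y2_mem]), hW, hW']) (by
    rw [τ.vecOf_mul hinv hW' hg, τ.qe_inv, τ.vecOf_qe]
    simp [a, b, Prod.ext_iff])
  refine ⟨c, ?_⟩
  rw [show τ.qe a b c = τ.qe a b 0 * τ.z c by rw [← τ.qe_z, τ.qe_mul]; simp [polar], ← hc]
  group

/-- Conjugating a unipotent element by an element of the stabiliser. -/
theorem conj_qe {g : eo Q} (hg : g ∈ τ.P) (a b : τ.W) (c : F) :
    ∃ c', g * τ.qe a b c * g⁻¹ =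
      τ.qe (τ.mat g 0 0 • (τ.lam ⟨g, hg⟩).1 a + τ.mat g 0 1 • (τ.lam ⟨g, hg⟩).1 b)
        (τ.mat g 1 0 • (τ.lam ⟨g, hg⟩).1 a + τ.mat g 1 1 • (τ.lam ⟨g, hg⟩).1 b) c' := by
  have hqP : τ.qe a b c ∈ τ.P := τ.P2_le_P (τ.qe_mem_P2 a b c)
  set q : τ.P := ⟨τ.qe a b c, hqP⟩
  set gg : τ.P := ⟨g, hg⟩
  have hW : ∀ w : τ.W, τ.pr ((g * τ.qe a b c * g⁻¹).1.1 (w : V)) = w := by
    show ∀ w : τ.W, τ.pr ((gg * q * gg⁻¹ : τ.P).1.1.1 (w : V)) = w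
    rw [← τ.lam_one_iff (g := gg * q * gg⁻¹), map_mul, map_mul, τ.lam_eq_one (g := q) fun w => τ.pr_qe_W a b w c,
      mul_one, map_inv, mul_inv_cancel]
  have h2 : g * τ.qe a b c * g⁻¹ ∈ τ.P2 := by
    refine τ.P2_of_mat (τ.P.mul_mem (τ.P.mul_mem hg hqP) (τ.P.inv_mem hg)) ?_
    rw [τ.mat_mul _ (τ.P.inv_mem hg), τ.mat_mul _ hqP, τ.mat_P2 (τ.qe_mem_P2 a b c), mul_one,
      ← τ.mat_mul _ (τ.P.inv_mem hg), mul_inv_cancel, τ.mat_one]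
  obtain ⟨c', hc'⟩ := τ.eq_qe h2 hW
  have key : ∀ x : V, τ.pr ((g * τ.qe a b c * g⁻¹).1.1 x) = τ.pr x
      - polar Q (g.1.1 τ.y1) x • (τ.lam gg).1 a - polar Q (g.1.1 τ.y2) x • (τ.lam gg).1 b := fun x => by
    rw [mul_apply_eo, mul_apply_eo]
    set u := (g⁻¹).1.1 x with hu
    have hgu : g.1.1 u = x := apply_inv_eo g x
    have e1 : polar Q τ.y1 u = polar Q (g.1.1 τ.y1) x := by rw [← hgu, polar_map_eo]
    have e2 : polar Q τ.y2 u = polar Q (g.1.1 τ.y2) x := by rw [← hgu, polar_map_eo]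
    rw [← e1, ← e2, ← hgu]
    conv_lhs => rw [τ.decomp u]
    conv_rhs => rw [τ.decomp u]
    simp only [map_add, map_smul, τ.qe_W, τ.qe_f1, τ.qe_f2, τ.qe_y1, τ.qe_y2, τ.pr_ell (hg _ τ.y1_mem),
      τ.pr_ell (hg _ τ.y2_mem), τ.lam_apply, gg, polar_add_right, polar_smul_right, τ.s11, τ.s22, τ.hyy, τ.hyy',
      τ.h11, τ.h12, τ.h21, τ.h22, τ.By1, τ.By2, smul_eq_mul, mul_zero, mul_one, add_zero, zero_add, smul_zero]
    module
  have h1 := key τ.f1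
  have h3 := key τ.f2
  rw [τ.pr_f1] at h1
  rw [τ.pr_f2] at h3
  refine ⟨c', ?_⟩
  rw [hc', vecOf, h1, h3, τ.mat_00, τ.mat_01, τ.mat_10, τ.mat_11]
  congr 1 <;> simp [sub_eq_add_neg, add_comm]

/-- Conjugating a central element by an element of the stabiliser. -/
theorem conj_z {g : eo Q} (hg : g ∈ τ.P) (c : F) : g * τ.z c * g⁻¹ = τ.z ((τ.mat g).det * c) := by
  have hp : Q (g.1.1 τ.y1) = 0 := by rw [g.1.2, τ.hy1]
  have hw : polar Q (g.1.1 τ.y1) (g.1.1 (c • τ.y2)) = 0 := by rw [polar_map_eo]; exact τ.hz c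
  rw [z, conj_E g τ.hy1 (τ.hz c)]
  refine ext_eo fun x => ?_
  rw [E_apply hp hw, τ.z_apply, Matrix.det_fin_two, g.1.2, Quad.map_smul', τ.hy2, mul_zero, zero_mul, neg_zero, zero_smul,
    add_zero, map_smul, τ.g_y1 hg, τ.g_y2 hg]
  simp only [polar_add_right, polar_smul_right, smul_eq_mul]
  match_scalars <;> ring

end LF

end Cfsg.Agent.MinIndexForm.O
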