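import Cfsg.Agent.MinIndexForm.O.BetaCount
import Cfsg.Agent.Classical.OrthPOmega

/-!
The minimal index of a proper subgroup of the group generated by Siegel transformations in dimension at least
seven over a field with at least four elements.
-/

set_option autoImplicit false

namespace Cfsg.Agent.MinIndexForm.O

open Cfsg.Agent.Classical Cfsg.Agent.Classical.Quad Module QuadraticMap

universe uF uV

variable {F : Type uF} [Field F] [Finite F]

/-- A crude bound for the number of singular points. -/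
theorem pts_le (hq : 4 ≤ Nat.card F) : ∀ (k : ℕ) {U : Type uV} [AddCommGroup U] [Module F U] [FiniteDimensional F U]
    {R : QuadraticForm F U}, (polarBilin R).Nondegenerate → finrank F U = k →
    (k ≤ 1 → Nat.card (SPt R) = 0) ∧ (k = 2 → Nat.card (SPt R) ≤ 2) ∧
      (3 ≤ k → Nat.card (SPt R) + 1 ≤ 2 * Nat.card F ^ (k - 2)) := by
  intro k
  induction k using Nat.strong_induction_on with
  | _ k ih =>
    intro U _ _ _ R hR hd
    by_cases hex : ∃ y, y ≠ 0 ∧ R y = 0
    swap
    · push Not at hex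
      have : IsEmpty (SPt R) := ⟨fun p => hex _ p.1.rep_nonzero p.2⟩
      have h1 : 1 ≤ 2 * Nat.card F ^ (k - 2) := by
        have := Nat.one_le_pow (k - 2) (Nat.card F) (by omega); omega
      rw [Nat.card_of_isEmpty]
      exact ⟨fun _ => rfl, fun _ => Nat.zero_le _, fun _ => by omega⟩
    obtain ⟨y, hy0, hy⟩ := hex
    obtain ⟨f, hf, hyf⟩ := exists_hyp_pair hR hy0 hy
    have hdim := finrank_perpPair (Q := R) hy hf hyf
    rw [hd] at hdim
    refine ⟨fun h => by omega, fun h => ?_, fun h => ?_⟩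
    · have hrec := pts_rec hy hf hyf (k := 0) (by omega)
      have h0 := (ih 0 (by omega) (nondeg_restrictPair hR hy hf hyf) (by omega)).1 (by omega)
      rw [h0] at hrec
      simp at hrec
      omega
    · obtain ⟨j, rfl⟩ : ∃ j, k = j + 2 := ⟨k - 2, by omega⟩
      have hrec := pts_rec hy hf hyf (k := j) (by omega)
      obtain ⟨h0, h1, h3⟩ := ih j (by omega) (nondeg_restrictPair hR hy hf hyf) (by omega)
      rw [show j + 2 - 2 = j by omega, hrec]
      rcases Nat.lt_or_ge j 3 with hj | hj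
      · obtain rfl | rfl : j = 1 ∨ j = 2 := by omega
        · rw [h0 le_rfl]; simp; omega
        · have := h1 rfl
          have := Nat.mul_le_mul_left (Nat.card F) this
          nlinarith
      · have hm := Nat.mul_le_mul_left (Nat.card F) (h3 hj)
        rw [Nat.mul_add, mul_one, ← mul_assoc, mul_comm (Nat.card F) 2, mul_assoc, ← pow_succ',
          show j - 2 + 1 = j - 1 by omega] at hm
        have hp : Nat.card F ^ j = Nat.card F * Nat.card F ^ (j - 1) := by
          rw [← pow_succ']; congr 1; omega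
        have := Nat.mul_le_mul_right (Nat.card F ^ (j - 1)) hq
        omega

variable {V : Type uV} [AddCommGroup V] [Module F V] [FiniteDimensional F V] {Q : QuadraticForm F V}

omit [Finite F] in
/-- Two orthogonal independent singular vectors complete to a frame. -/
theorem exists_LF (hQ : (polarBilin Q).Nondegenerate) {p w : V} (hp : Q p = 0) (hw : Q w = 0)
    (hpw : polar Q p w = 0) (hp0 : p ≠ 0) (hind : w ∉ Submodule.span F {p}) : ∃ τ : LF Q, τ.y1 = p ∧ τ.y2 = w := by
  have hnm1 : p ∉ Submodule.span F {w} := fun h => by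
    obtain ⟨a, ha⟩ := Submodule.mem_span_singleton.1 h
    have ha0 : a ≠ 0 := fun h0 => hp0 (by rw [← ha, h0, zero_smul])
    exact hind (Submodule.mem_span_singleton.2 ⟨a⁻¹, by rw [← ha, inv_smul_smul₀ ha0]⟩)
  obtain ⟨u, hu, hpu⟩ := exists_perp hQ hnm1
  have hwu := hu w (Submodule.mem_span_singleton_self w)
  set f1 := u + (-Q u) • p with hf1d
  have hf1 : Q f1 = 0 := by rw [hf1d, map_add_smul, hp, polar_comm Q u p, hpu]; ring
  have h11 : polar Q p f1 = 1 := by
    rw [hf1d, polar_add_right, hpu, polar_smul_right, polar_self', hp]; simp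
  have h21 : polar Q w f1 = 0 := by
    rw [hf1d, polar_add_right, hwu, polar_smul_right, polar_comm Q w p, hpw]; simp
  have hnm2 : w ∉ Submodule.span F {p, f1} := fun h => by
    obtain ⟨a, c, hac⟩ := Submodule.mem_span_pair.1 h
    have e1 : c = 0 := by
      have := congrArg (polar Q p) hac
      rw [polar_add_right, polar_smul_right, polar_smul_right, polar_self', hp, h11, hpw] at this
      simpa using this
    rw [e1, zero_smul, add_zero] at hac
    exact hind (Submodule.mem_span_singleton.2 ⟨a, hac⟩)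
  obtain ⟨u', hu', hwu'⟩ := exists_perp hQ hnm2
  have hpu' := hu' p (Submodule.subset_span (by simp))
  have hfu' := hu' f1 (Submodule.subset_span (by simp))
  set f2 := u' + (-Q u') • w with hf2d
  refine ⟨⟨hQ, p, w, f1, f2, hp, hw, hf1, ?_, hpw, ?_, h11, ?_, ?_, h21⟩, rfl, rfl⟩
  · rw [hf2d, map_add_smul, hw, polar_comm Q u' w, hwu']; ring
  · rw [hf2d, polar_add_right, hfu', polar_smul_right, polar_comm Q f1 w, h21]; simp
  · rw [hf2d, polar_add_right, hwu', polar_smul_right, polar_self', hw]; simp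
  · rw [hf2d, polar_add_right, hpu', polar_smul_right, hpw]; simp

/-- A proper subgroup misses the centre of some line. -/
theorem exists_line (hQ : (polarBilin Q).Nondegenerate) (hn : 5 ≤ finrank F V) {H : Subgroup (eo Q)} (hH : H ≠ ⊤) :
    ∃ τ : LF Q, τ.Zp H ≠ ⊤ := by
  by_contra hc
  push Not at hc
  refine hH ((Subgroup.eq_top_iff' _).2 fun g => ?_)
  suffices hle : eo Q ≤ H.map (eo Q).subtype by
    obtain ⟨x, hx, hxg⟩ := hle g.2
    exact (Subtype.ext hxg : x = g) ▸ hx
  refine (Subgroup.closure_le _).2 ?_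
  rintro _ ⟨p, w, hp, hpw, rfl⟩
  refine sO_mem_of_singular hQ hn _ (fun p w hp hpw hw => ?_) hp hpw
  refine ⟨E Q p w, ?_, E_val hp hpw⟩
  rcases eq_or_ne p 0 with rfl | hp0
  · have : E Q (0 : V) w = 1 := ext_eo fun x => by rw [E_apply hp hpw, one_apply_eo]; simp [polar]
    rw [this]; exact H.one_mem
  by_cases hind : w ∈ Submodule.span F {p}
  · obtain ⟨a, rfl⟩ := Submodule.mem_span_singleton.1 hind
    rw [E_self hp]; exact H.one_mem
  obtain ⟨τ, rfl, rfl⟩ := exists_LF hQ hp hw hpw hp0 hind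
  have h1 : τ.z 1 ∈ H := by
    have : (1 : F) ∈ τ.Zp H := by rw [hc τ]; exact AddSubgroup.mem_top _
    exact this
  rwa [LF.z, one_smul] at h1

/-- The minimal index. -/
theorem index_bound (hQ : (polarBilin Q).Nondegenerate) (hn : 7 ≤ finrank F V) (hq : 4 ≤ Nat.card F)
    (H : Subgroup (eo Q)) (hH : H ≠ ⊤) : Nat.card (SPt Q) ≤ H.index := by
  obtain ⟨τ, hZ⟩ := exists_line hQ (by omega) hH
  obtain ⟨m, hm⟩ : ∃ m, finrank F V = m + 4 := ⟨finrank F V - 4, by omega⟩
  have hN : Nat.card (SPt Q) ≤ Nat.card F ^ (m + 1) * (Nat.card F + 2) := by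
    have h := (pts_le hq _ hQ rfl).2.2 (by omega)
    rw [hm] at h
    obtain ⟨f, hf, hyf⟩ := exists_hyp_pair hQ τ.y1_ne τ.hy1
    have hdim := finrank_perpPair (Q := Q) τ.hy1 hf hyf
    have hrec := pts_rec τ.hy1 hf hyf (k := m + 2) (by omega)
    have h' := (pts_le hq _ (nondeg_restrictPair hQ τ.hy1 hf hyf) rfl).2.2 (by omega)
    rw [show finrank F (perpPair Q τ.y1 f) - 2 = m by omega] at h'
    have hm' := Nat.mul_le_mul_left (Nat.card F) h'
    rw [Nat.mul_add, mul_one] at hm'
    rw [hrec]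
    have e : Nat.card F ^ (m + 1) * (Nat.card F + 2) = Nat.card F ^ (m + 2) + Nat.card F * (2 * Nat.card F ^ m) := by
      ring
    omega
  rcases τ.line_cases H rfl hn hm hN hZ (Or.inl hq) with h | ⟨r, hr⟩ | ⟨Z, hZb⟩
  · exact h
  · obtain ⟨g, hg⟩ := τ.alpha_normal H hr
    obtain ⟨g', hA, hB⟩ := τ.alpha_kinds _ hq hn hg
    rw [conjO_conjO] at hA hB
    exact index_ge_of_kinds hQ hn H τ.hy1 τ.y1_ne τ.hy2 τ.y2_ne τ.hf2 hA hB
  · have h4 := hZb.1
    have h8 : finrank F V = 8 := by have := τ.finrank_W; omega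
    obtain ⟨g, T, z0, hA, hz0, hz, hB⟩ := τ.beta_kinds H hq hZb
    exact index_ge_of_sing hQ h8 H τ.hy1 τ.y1_ne hz hz0 hA hB

theorem center_le_Pt (hQ : (polarBilin Q).Nondegenerate) (hn : 5 ≤ finrank F V) {y : V} (hy0 : y ≠ 0)
    (hy : Q y = 0) : Subgroup.center (eo Q) ≤ Pt (Q := Q) y := fun g hg => by
  have h := center_fix_spt hQ hn hg (spt y hy0 hy)
  rw [smul_spt_eq, spt_eq_iff] at h
  obtain ⟨a, ha⟩ := h
  have ha0 : a ≠ 0 := fun h0 => hy0 (g.1.1.map_eq_zero_iff.1 (by rw [← ha, h0, zero_smul]))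
  exact ⟨Units.mk0 a ha0, ha.symm⟩

/-- The statement for the quotient by the centre. -/
theorem pomega_bound {ι : Type} [Fintype ι] [DecidableEq ι] {Q : QuadraticForm F (ι → F)}
    (hQ : (polarBilin Q).Nondegenerate) (hn : 7 ≤ finrank F (ι → F)) (hq : 4 ≤ Nat.card F) :
    (∀ H : Subgroup (Cfsg.POmega F ⇑Q), H ≠ ⊤ → Nat.card (SPt Q) ≤ H.index) ∧
      ∃ H : Subgroup (Cfsg.POmega F ⇑Q), H.index = Nat.card (SPt Q) := by
  set e := omegaEquiv hQ (show 5 ≤ finrank F (ι → F) by omega)
  have hmk : Function.Surjective (QuotientGroup.mk' (Subgroup.center (Cfsg.Omega F ⇑Q))) :=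
    QuotientGroup.mk'_surjective _
  constructor
  · intro H hH
    set H' := (H.comap (QuotientGroup.mk' (Subgroup.center (Cfsg.Omega F ⇑Q)))).comap e.symm.toMonoidHom
    have hidx : H'.index = H.index := by
      rw [Subgroup.index_comap_of_surjective (f := e.symm.toMonoidHom) _ e.symm.surjective,
        Subgroup.index_comap_of_surjective _ hmk]
    have hne : H' ≠ ⊤ := fun h => hH (Subgroup.index_eq_one.1 (by rw [← hidx, h, Subgroup.index_top]))
    rw [← hidx]
    exact index_bound hQ hn hq H' hne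
  · obtain ⟨y, hy0, hy⟩ := exists_singular Q (by omega)
    set P := (Pt (Q := Q) y).comap e.toMonoidHom
    have hle : Subgroup.center (Cfsg.Omega F ⇑Q) ≤ P := fun g hg => by
      refine center_le_Pt hQ (by omega) hy0 hy ?_
      rw [← map_center_omega hQ (show 5 ≤ finrank F (ι → F) by omega)]
      exact ⟨g, hg, rfl⟩
    refine ⟨P.map (QuotientGroup.mk' _), ?_⟩
    rw [SU.index_center_quotient hle, Subgroup.index_comap_of_surjective (f := e.toMonoidHom) _ e.surjective,
      index_Pt hQ (by omega) hy0 hy]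

theorem pts_eq_div {U : Type uV} [AddCommGroup U] [Module F U] [FiniteDimensional F U] (R : QuadraticForm F U) :
    Nat.card (SPt R) = (zcard R - 1) / (Nat.card F - 1) := by
  have h := zcard_pts R
  have h2 := Finite.one_lt_card (α := F)
  rw [← h, Nat.add_sub_cancel, Nat.mul_div_cancel_left _ (by omega)]

end Cfsg.Agent.MinIndexForm.O
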