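import Cfsg.Agent.MinIndexForm.O.SmallMain

/-!
The minimal index of the odd-dimensional orthogonal groups over the field with three elements.
-/

set_option autoImplicit false

namespace Cfsg.Agent.MinIndexForm.O

open Cfsg.Agent.Classical Cfsg.Agent.Classical.Quad Module QuadraticMap Matrix Projectivization
open scoped MatrixGroups LinearAlgebra.Projectivization commutatorElement

universe uF uV

variable {F : Type uF} [Field F] [Finite F] {V : Type uV} [AddCommGroup V] [Module F V] [FiniteDimensional F V]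
  {Q : QuadraticForm F V}

omit [FiniteDimensional F V] in
/-- The lines of a given norm over a small field. -/
theorem card_norm_lines [Finite V] (hq : Nat.card F ≤ 3) {σ : F} (hσ : σ ≠ 0) :
    Nat.card {w : V // Q w = σ} = Nat.card {p : ℙ F V // Q p.rep = σ} * (Nat.card F - 1) := by
  rw [← Nat.card_units F, ← Nat.card_prod]
  refine (Nat.card_congr (Equiv.ofBijective (fun p : {p : ℙ F V // Q p.rep = σ} × Fˣ =>
    (⟨(p.2 : F) • p.1.1.rep, by rw [Quad.map_smul', p.1.2, sq_unit hq p.2.ne_zero, one_mul]⟩ : {w : V // Q w = σ}))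
    ⟨fun p p' e => ?_, fun x => ?_⟩)).symm
  · have e' : (p.2 : F) • p.1.1.rep = (p'.2 : F) • p'.1.1.rep := congrArg Subtype.val e
    have hp : p.1 = p'.1 := Subtype.ext (by
      rw [← mk_rep p.1.1, ← mk_rep p'.1.1, mk_eq_mk_iff']
      exact ⟨(p'.2 : F) / (p.2 : F), by
        rw [div_eq_inv_mul, mul_smul, ← e', inv_smul_smul₀ p.2.ne_zero]⟩)
    rw [hp] at e'
    exact Prod.ext hp (Units.ext (smul_left_injective F p'.1.1.rep_nonzero e'))
  · have hx : x.1 ≠ 0 := fun h => hσ (by rw [← x.2, h, map_zero])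
    obtain ⟨a, ha⟩ := exists_smul_eq_mk_rep F x.1 hx
    refine ⟨(⟨mk F x.1 hx, ?_⟩, a⁻¹), Subtype.ext ?_⟩
    · rw [← ha, Units.smul_def, Quad.map_smul', sq_unit hq a.ne_zero, one_mul]; exact x.2
    · show ((a⁻¹ : Fˣ) : F) • (mk F x.1 hx).rep = x.1
      rw [← ha, Units.smul_def, smul_smul, Units.inv_mul, one_smul]

/-- Over a small field the stabiliser of an anisotropic line has the number of lines of its norm as index. -/
theorem index_aniso_stab (hQ : (polarBilin Q).Nondegenerate) (hq : Nat.card F ≤ 3) (hn : 5 ≤ finrank F V)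
    {v : V} (hv : Q v ≠ 0) :
    ∃ S : Subgroup (eo Q), Subgroup.center (eo Q) ≤ S ∧
      S.index = Nat.card {p : ℙ F V // Q p.rep = Q v} := by
  have hv0 : v ≠ 0 := fun h => hv (by rw [h, map_zero])
  refine ⟨MulAction.stabilizer (eo Q) (mk F v hv0), fun g hg => ?_, ?_⟩
  · obtain ⟨a, -, ha⟩ := scalar_of_fix_spt hQ hn (g := g) fun p => center_fix_spt hQ hn hg p
    rw [MulAction.mem_stabilizer_iff, smul_mk_eo, mk_eq_mk_iff']
    exact ⟨a, (ha v).symm⟩
  · have horb : MulAction.orbit (eo Q) (mk F v hv0) = {p : ℙ F V | Q p.rep = Q v} := by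
      ext p
      rw [MulAction.mem_orbit_iff]
      constructor
      · rintro ⟨g, rfl⟩
        rw [smul_mk_eo]
        obtain ⟨a, ha⟩ := exists_smul_eq_mk_rep F (g.1.1 v) (by simpa using hv0)
        show Q _ = Q v
        rw [← ha, Units.smul_def, Quad.map_smul', sq_unit hq a.ne_zero, one_mul, g.1.2]
      · intro hp
        have hp' : Q p.rep ≠ 0 := by rw [show Q p.rep = Q v from hp]; exact hv
        obtain ⟨z0, f0, hz0, hf0, hzf0, e0⟩ := exists_pair_through hQ (by omega) hv
        obtain ⟨z1, f1, hz1, hf1, hzf1, e1⟩ := exists_pair_through hQ (by omega) hp'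
        rw [show Q p.rep = Q v from hp] at e1
        obtain ⟨l, hl, t, ht, hl1, hl2⟩ := exists_eo_pair hQ (by omega) hz0 hf0 hzf0 hz1 hf1 hzf1
        refine ⟨⟨l, hl⟩, ?_⟩
        rw [smul_mk_eo]
        conv_rhs => rw [← mk_rep p]
        rw [mk_eq_mk_iff']
        refine ⟨t, ?_⟩
        show t • p.rep = l.1 v
        conv_rhs => rw [e0, map_add, map_smul, hl1, hl2, inv_eq_of_mul_eq_one_right (sq_unit hq ht), smul_comm,
          ← smul_add, ← e1]
    rw [MulAction.index_stabilizer, horb]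
    rfl

/-- The number of vectors of a given norm in odd dimension over the field with three elements. -/
theorem norm_count_odd (hQ : (polarBilin Q).Nondegenerate) (hq : Nat.card F = 3) {k : ℕ} (hk : 1 ≤ k)
    (hd : finrank F V = 2 * k + 1) {σ : F} (hσ : σ ≠ 0) :
    Nat.card {w : V // Q w = σ} + 3 ^ k = 3 ^ (2 * k) ∨ Nat.card {w : V // Q w = σ} = 3 ^ (2 * k) + 3 ^ k := by
  classical
  have : Finite V := Module.finite_of_finite F
  have := Fintype.ofFinite F
  have hch : (2 : F) ≠ 0 := fun h => by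
    have hev := FiniteField.even_card_of_char_two (F := F)
      (CharP.ringChar_of_prime_eq_zero Nat.prime_two (by exact_mod_cast h))
    rw [← Nat.card_eq_fintype_card, hq] at hev
    omega
  set R' : QuadraticForm F (V × F) := Q.prod ((-σ) • sqForm F) with hR'
  have hval : ∀ x : V × F, R' x = Q x.1 + -σ * (x.2 * x.2) := fun x => by
    simp [hR', sqForm, QuadraticMap.prod_apply]
  have hnd : (polarBilin R').Nondegenerate := nondeg_of fun x hx => by
    have h1 : x.1 = 0 := eq_zero_of_polar hQ fun y => by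
      have h := hx (y, 0)
      simp only [polar, hval, Prod.fst_add, Prod.snd_add] at h
      rw [polar]
      linear_combination h
    have h2 := hx (0, 1)
    simp only [polar, hval, Prod.fst_add, Prod.snd_add, h1, map_zero] at h2
    have h3 : (-σ) * (2 * x.2) = 0 := by simp only [add_zero, map_zero] at h2; linear_combination h2
    exact Prod.ext h1 ((mul_eq_zero.1 ((mul_eq_zero.1 h3).resolve_left (neg_ne_zero.2 hσ))).resolve_left hch)
  let e : {x : V × F // R' x = 0} ≃ {w : V // Q w = 0} ⊕ ({w : V // Q w = σ} × Fˣ) :=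
    { toFun := fun x => if h : x.1.2 = 0 then Sum.inl ⟨x.1.1, by
          have := x.2; rw [hval, h] at this; simpa using this⟩
        else Sum.inr (⟨x.1.1, by
          have := x.2; rw [hval, sq_unit hq.le h] at this; linear_combination this⟩, Units.mk0 x.1.2 h)
      invFun := Sum.elim (fun w => ⟨(w.1, 0), by rw [hval, w.2]; simp⟩)
        (fun p => ⟨(p.1.1, (p.2 : F)), by rw [hval, p.1.2, sq_unit hq.le p.2.ne_zero]; ring⟩)
      left_inv := fun x => by
        by_cases h : x.1.2 = 0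
        · simp only [dif_pos h, Sum.elim_inl]
          exact Subtype.ext (Prod.ext rfl h.symm)
        · simp only [dif_neg h, Sum.elim_inr]
          rfl
      right_inv := fun s => by
        rcases s with w | p
        · simp
        · simp [p.2.ne_zero] }
  have hc := Nat.card_congr e
  rw [Nat.card_sum, Nat.card_prod, Nat.card_units, hq, ← zcard, ← zcard] at hc
  have hd' : finrank F (V × F) = 2 * (k + 1) := by rw [Module.finrank_prod, hd, Module.finrank_self]; ring
  have hodd := OrthElem.zcard_odd_eq hQ hd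
  have h1z : 1 ≤ zcard R' := by
    rw [zcard]
    have : Nonempty {x : V × F // R' x = 0} := ⟨⟨0, map_zero R'⟩⟩
    exact Nat.card_pos
  have h1z' : 1 ≤ zcard Q := by
    rw [zcard]
    have : Nonempty {x : V // Q x = 0} := ⟨⟨0, map_zero Q⟩⟩
    exact Nat.card_pos
  have hX : 1 ≤ 3 ^ k := Nat.one_le_pow _ _ (by norm_num)
  rw [← Nat.card_eq_fintype_card, hq] at hodd
  rw [show 3 ^ (2 * k) = 3 ^ k * 3 ^ k by rw [two_mul, pow_add]] at hodd ⊢
  obtain ⟨r, hr⟩ := Nat.exists_eq_add_of_le' hX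
  by_cases hp : OrthElem.Plus R' ⊤
  · right
    have h := OrthElem.zcard_plus_eq hnd hd' hp
    rw [← Nat.card_eq_fintype_card, hq, pow_succ', hr,
      show (3 * (r + 1) - 1) * (r + 1 + 1) = 3 * (r * r) + 8 * r + 4 by
        rw [show 3 * (r + 1) - 1 = 3 * r + 2 by omega]; ring] at h
    rw [hr, show (r + 1) * (r + 1) = r * r + 2 * r + 1 by ring] at hodd ⊢
    omega
  · left
    have h := OrthElem.zcard_minus_eq hnd hd' hp
    rw [← Nat.card_eq_fintype_card, hq, pow_succ', hr,
      show (3 * (r + 1) + 1) * (r + 1 - 1) = 3 * (r * r) + 4 * r by rw [Nat.add_sub_cancel]; ring] at h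
    rw [hr, show (r + 1) * (r + 1) = r * r + 2 * r + 1 by ring] at hodd ⊢
    omega

namespace LF

variable (τ : LF Q) (K : Subgroup (eo Q))

/-- In dimension seven the vector part is not Lagrangian. -/
theorem case_seven (hq : Nat.card F = 3) (h7 : finrank F V = 7) (hZ : τ.Zp K ≠ ⊤)
    (hI : ¬ eo τ.QW ≤ (τ.I K).map τ.L.subtype) : 351 ≤ K.index := by
  classical
  have := τ.finite_L
  have hd : finrank F τ.W = 3 := by have := τ.finrank_W; omega
  have htz := τ.tz_ge K hZ
  rw [hq] at htz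
  have hw := τ.S_index_ge K hd hZ
  rw [hq] at hw
  have key : ∀ b c e : ℕ, b ≤ (τ.J K).index → c ≤ (τ.I K).index → e ≤ (τ.S K).index → 351 ≤ 3 * b * c * e →
      351 ≤ K.index := fun b c e hb hc he h =>
    h.trans (τ.index_ge_of K h7 le_rfl (show 7 = 3 + 4 by rfl) htz hb hc he)
  have hi2 : 2 ≤ (τ.I K).index := by
    have := τ.one_le_I K
    rcases Nat.lt_or_ge (τ.I K).index 2 with h | h
    · refine absurd ?_ hI
      rw [Subgroup.index_eq_one.1 (show (τ.I K).index = 1 by omega), ← MonoidHom.range_eq_map,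
        Subgroup.range_subtype]
      exact τ.eo_le_L
    · exact h
  have hJ1 := τ.one_le_J K
  have hupsq : ∀ c : F, up c = up (-c) * up (-c) := fun c => by
    rw [← up_add]
    congr 1
    have h3 : (3 : F) = 0 := by
      have := Fintype.ofFinite F
      have := FiniteField.cast_card_eq_zero F
      rw [← Nat.card_eq_fintype_card, hq] at this
      exact_mod_cast this
    linear_combination c * h3
  by_cases hsmall : (τ.J K).index * (τ.I K).index ≤ 4
  swap
  · refine key _ _ 27 le_rfl le_rfl hw ?_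
    calc 351 ≤ 3 * 5 * 27 := by norm_num
      _ ≤ 3 * ((τ.J K).index * (τ.I K).index) * 27 := by gcongr; omega
      _ = _ := by ring
  have hJ : τ.J K = ⊤ := by
    have h2 : (τ.J K).index ≤ 2 := by
      by_contra h
      have := Nat.mul_le_mul (Nat.lt_of_not_le h) hi2
      omega
    rcases eq_or_lt_of_le h2 with h | h
    · refine eq_top_of_up _ (fun c => ?_) fun c => ?_
      · rw [hupsq c]; exact Subgroup.mul_self_mem_of_index_two h _
      · rw [hupsq c, show wey * (up (-c) * up (-c)) * (wey (F := F))⁻¹ =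
          (wey * up (-c) * wey⁻¹) * (wey * up (-c) * wey⁻¹) by group]
        exact Subgroup.mul_self_mem_of_index_two h _
    · exact Subgroup.index_eq_one.1 (by omega)
  have hI4 : (τ.I K).index ≤ 4 := le_trans (Nat.le_mul_of_pos_left _ hJ1) hsmall
  let R0 : Subgroup τ.P1 := K.subgroupOf τ.P1 ⊓ (τ.lam.comp (Subgroup.inclusion τ.P1_le)).ker
  have hR0 : ∀ g : τ.P1, g ∈ R0 ↔ g.1 ∈ K ∧ τ.lam ⟨g.1, g.2.1⟩ = 1 := fun g => Iff.rfl
  set Γ : Subgroup SL(2, F) := R0.map τ.sl with hΓ
  have hsurj : ∀ A : SL(2, F), ∃ g : τ.P1, g.1 ∈ K ∧ τ.sl g = A := fun A =>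
    (τ.mem_J K).1 (hJ ▸ Subgroup.mem_top A)
  haveI hnormal : Γ.Normal := ⟨fun x hx B => by
    obtain ⟨g, hg, rfl⟩ := hx
    obtain ⟨h, hh, rfl⟩ := hsurj B
    refine ⟨h * g * h⁻¹, ?_, by rw [map_mul, map_mul, map_inv]⟩
    obtain ⟨hgK, hgl⟩ := (hR0 g).1 hg
    refine (hR0 _).2 ⟨K.mul_mem (K.mul_mem hh hgK) (K.inv_mem hh), ?_⟩
    show τ.lam ((⟨h.1, h.2.1⟩ : τ.P) * ⟨g.1, g.2.1⟩ * (⟨h.1, h.2.1⟩ : τ.P)⁻¹) = 1
    rw [map_mul, map_mul, hgl, mul_one, map_inv, mul_inv_cancel]⟩
  choose pick hpick using fun x : SL(2, F) ⧸ Γ => hsurj x.out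
  have hidx : Γ.index ≤ 4 := by
    refine le_trans ?_ hI4
    rw [Subgroup.index, Subgroup.index]
    refine Nat.card_le_card_of_injective (fun x => ((⟨_, τ.lam_mem_L (pick x)⟩ : τ.L) : τ.L ⧸ τ.I K)) fun x y e => ?_
    have h := QuotientGroup.eq.1 e
    have hxy : ((pick x)⁻¹ * pick y).1 ∈ K := K.mul_mem (K.inv_mem (hpick x).1) (hpick y).1
    obtain ⟨g', hg', e', hl⟩ := τ.lift_one K hxy (by
      convert h using 1
      refine Subtype.ext ?_
      show τ.lam ((⟨(pick x).1, (pick x).2.1⟩ : τ.P)⁻¹ * ⟨(pick y).1, (pick y).2.1⟩) = _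
      rw [map_mul, map_inv]; rfl)
    have hmem : x.out⁻¹ * y.out ∈ Γ := ⟨g', (hR0 g').2 ⟨hg', hl⟩, by
      rw [e', map_mul, map_inv, (hpick x).2, (hpick y).2]⟩
    rw [← x.out_eq, ← y.out_eq]
    exact QuotientGroup.eq.2 hmem
  have hcomm : ∀ x y : SL(2, F), ⁅x, y⁆ ∈ Γ := fun x y => by
    have hc : ∀ a b : SL(2, F) ⧸ Γ, a * b = b * a := by
      have h0 : Γ.index ≠ 0 := Subgroup.index_ne_zero_of_finite
      have hcard : Nat.card (SL(2, F) ⧸ Γ) ≤ 4 := hidx
      rcases (show Γ.index = 1 ∨ Γ.index = 2 ∨ Γ.index = 3 ∨ Γ.index = 4 by omega) with h | h | h | h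
      · intro a b
        have : Subsingleton (SL(2, F) ⧸ Γ) := (Nat.card_eq_one_iff_unique.1 h).1
        exact Subsingleton.elim _ _
      · have : Fact (Nat.Prime 2) := ⟨Nat.prime_two⟩
        have := isCyclic_of_prime_card (α := SL(2, F) ⧸ Γ) h
        exact fun a b => IsCyclic.isMulCommutative.is_comm.comm a b
      · have : Fact (Nat.Prime 3) := ⟨Nat.prime_three⟩
        have := isCyclic_of_prime_card (α := SL(2, F) ⧸ Γ) h
        exact fun a b => IsCyclic.isMulCommutative.is_comm.comm a b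
      · have : Fact (Nat.Prime 2) := ⟨Nat.prime_two⟩
        exact fun a b => (IsPGroup.isMulCommutative_of_card_eq_prime_sq (p := 2) (G := SL(2, F) ⧸ Γ) (by rw [← Subgroup.index, h]; rfl)).is_comm.comm a b
    rw [← QuotientGroup.eq_one_iff, commutatorElement_def]
    rw [QuotientGroup.mk_mul, QuotientGroup.mk_mul, QuotientGroup.mk_mul, QuotientGroup.mk_inv, QuotientGroup.mk_inv, hc (x : SL(2, F) ⧸ Γ) (y : SL(2, F) ⧸ Γ)]
    group
  have act : ∀ A ∈ Γ, ∀ a b : τ.W, (a, b) ∈ τ.S K →
      (A.1 0 0 • a + A.1 0 1 • b, A.1 1 0 • a + A.1 1 1 • b) ∈ τ.S K := by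
    rintro _ ⟨g, hg, rfl⟩ a b h
    have := τ.S_inv K g.2.1 ((hR0 g).1 hg).1 h
    rwa [((hR0 g).1 hg).2, ← τ.sl_coe g] at this
  have hcoe : ∀ c : F, (⁅up c, wey⁆ : SL(2, F)).1 = !![1 + c * c, c; c, 1] := fun c => by
    rw [commutatorElement_def, show up c * wey * (up c)⁻¹ * (wey (F := F))⁻¹ = up c * (wey * up (-c) * wey⁻¹) by
      rw [show up (-c) = (up c)⁻¹ from (inv_eq_of_mul_eq_one_right (by rw [← up_add, add_neg_cancel, up_zero])).symm]
      group, Matrix.SpecialLinearGroup.coe_mul, low_eq, up_coe]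
    ext i j; fin_cases i <;> fin_cases j <;> simp [Matrix.mul_apply, Fin.sum_univ_two]
  have h3 : (3 : F) = 0 := by
    have := Fintype.ofFinite F
    have := FiniteField.cast_card_eq_zero F
    rw [← Nat.card_eq_fintype_card, hq] at this
    exact_mod_cast this
  have hsplit : ∀ a b : τ.W, (a, b) ∈ τ.S K → (a, (0 : τ.W)) ∈ τ.S K ∧ (b, (0 : τ.W)) ∈ τ.S K := by
    have hsw : ∀ a b : τ.W, (a, b) ∈ τ.S K → (a, -b) ∈ τ.S K ∧ (-b, -a) ∈ τ.S K := fun a b h => by
      have h1 := act _ (hcomm (up 1) wey) a b h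
      have h2 := act _ (hcomm (up (-1)) wey) a b h
      simp only [hcoe, Matrix.of_apply, Matrix.cons_val', Matrix.cons_val_zero, Matrix.cons_val_one,
        Matrix.cons_val_fin_one] at h1 h2
      constructor
      · convert (τ.S K).add_mem h1 h2 using 1
        refine Prod.ext ?_ ?_
        · simp only [Prod.fst_add]
          linear_combination (norm := module) -(h3 • (a : τ.W))
        · simp only [Prod.snd_add]
          linear_combination (norm := module) -(h3 • (b : τ.W))
      · convert (τ.S K).sub_mem h1 h2 using 1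
        refine Prod.ext ?_ ?_
        · simp only [Prod.fst_sub]
          linear_combination (norm := module) -(h3 • (b : τ.W))
        · simp only [Prod.snd_sub]
          linear_combination (norm := module) -(h3 • (a : τ.W))
    have hfst : ∀ a b : τ.W, (a, b) ∈ τ.S K → (a, (0 : τ.W)) ∈ τ.S K := fun a b h => by
      have h1 := (τ.S K).neg_mem ((τ.S K).add_mem h (hsw a b h).1)
      convert h1 using 1
      refine Prod.ext ?_ ?_
      · simp only [Prod.fst_add, Prod.fst_neg]
        linear_combination (norm := module) h3 • (a : τ.W)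
      · simp
    exact fun a b h => ⟨hfst a b h, by simpa using (τ.S K).neg_mem (hfst _ _ (hsw a b h).2)⟩
  let Z : AddSubgroup τ.W := (τ.S K).comap ((AddMonoidHom.id τ.W).prod 0)
  have hS : ∀ a b : τ.W, (a, b) ∈ τ.S K ↔ a ∈ Z ∧ b ∈ Z := fun a b => by
    refine ⟨fun h => hsplit a b h, fun ⟨ha, hb⟩ => ?_⟩
    have h1 := act _ (hcomm (up 1) wey) b 0 hb
    have h2 := act _ (hcomm (up (-1)) wey) b 0 hb
    simp only [hcoe, Matrix.of_apply, Matrix.cons_val', Matrix.cons_val_zero, Matrix.cons_val_one,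
      Matrix.cons_val_fin_one, smul_zero, add_zero] at h1 h2
    have h3' := (τ.S K).neg_mem ((τ.S K).sub_mem h1 h2)
    have := (τ.S K).add_mem (show (a, (0 : τ.W)) ∈ τ.S K from ha) h3'
    convert this using 1
    refine Prod.ext ?_ ?_
    · simp only [Prod.fst_add, Prod.fst_neg, Prod.fst_sub]; module
    · simp only [Prod.snd_add, Prod.snd_neg, Prod.snd_sub, zero_add]
      linear_combination (norm := module) h3 • (b : τ.W)
  have hcard : Nat.card (τ.S K) = Nat.card Z * Nat.card Z := by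
    rw [← Nat.card_prod]
    exact Nat.card_congr
      { toFun := fun x => (⟨x.1.1, ((hS _ _).1 x.2).1⟩, ⟨x.1.2, ((hS _ _).1 x.2).2⟩)
        invFun := fun p => ⟨(p.1.1, p.2.1), (hS _ _).2 ⟨p.1.2, p.2.2⟩⟩
        left_inv := fun x => rfl
        right_inv := fun p => rfl }
  have hmul := (τ.S K).card_mul_index
  rw [τ.card_WW hd, hq, hcard] at hmul
  refine key 1 2 81 hJ1 hi2 ?_ (by norm_num)
  by_contra hlt
  have hz6 : Nat.card Z ≤ 5 := by
    by_contra hc
    have := Nat.mul_le_mul (Nat.mul_le_mul (Nat.lt_of_not_le hc) (Nat.lt_of_not_le hc)) hw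
    omega
  interval_cases (Nat.card Z) <;> omega

end LF

/-- The bound for the isometry group. -/
theorem index_bound_three (hQ : (polarBilin Q).Nondegenerate) (hq : Nat.card F = 3) {k : ℕ} (hk : 2 ≤ k)
    (hd : finrank F V = 2 * k + 3) (H : Subgroup (eo Q)) (hH : H ≠ ⊤) :
    3 ^ (k + 1) * (3 ^ (k + 1) - 1) / 2 ≤ H.index := by
  have : Finite V := Module.finite_of_finite F
  set X := 3 ^ k with hX
  have hT : 3 ^ (k + 1) * (3 ^ (k + 1) - 1) + 3 * X = 9 * (X * X) := by
    rw [pow_succ', ← hX]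
    obtain ⟨r, hr⟩ := Nat.exists_eq_add_of_le' (show 1 ≤ X from Nat.one_le_pow _ _ (by norm_num))
    rw [hr, show 3 * (r + 1) - 1 = 3 * r + 2 by omega]
    ring
  generalize hTd : 3 ^ (k + 1) * (3 ^ (k + 1) - 1) = T at hT ⊢
  obtain ⟨τ, hZ⟩ := exists_line hQ (by omega) hH
  have hN : T / 2 ≤ Nat.card F ^ (2 * k - 1 + 1) * (Nat.card F + 2) := by
    rw [hq, show 2 * k - 1 + 1 = k + k by omega, pow_add, ← hX]
    omega
  have alpha : (∃ r, τ.AlphaBad H r) → T / 2 ≤ H.index := by
    rintro ⟨r, hr⟩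
    obtain ⟨g, hg⟩ := τ.alpha_normal H hr
    obtain ⟨g', s, hA, hB⟩ := τ.alpha_kinds_small _ hq.le (by omega) hg
    rw [conjO_conjO] at hA hB
    have hQv : Q (τ.f2 + s • τ.y2) = s := by
      rw [map_add_smul, τ.hf2, τ.hy2, τ.h22']
      ring
    obtain ⟨f, hf, hyf⟩ := exists_hyp_pair hQ τ.y1_ne τ.hy1
    have hdim := finrank_perpPair (Q := Q) τ.hy1 hf hyf
    have hU : finrank F (perpPair Q τ.y1 f) = 2 * k + 1 := by omega
    by_cases hs : s = 0
    · refine le_trans ?_ (index_ge_of_kinds hQ (by omega) H τ.hy1 τ.y1_ne τ.hy2 τ.y2_ne (hQv.trans hs) hA hB)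
      have hrec := pts_rec τ.hy1 hf hyf hU
      have hU2 := zcard_pts (restrictPair Q τ.y1 f)
      have := Fintype.ofFinite F
      have hz := OrthElem.zcard_odd_eq (R := restrictPair Q τ.y1 f) (F := F) (nondeg_restrictPair hQ τ.hy1 hf hyf) hU
      rw [← Nat.card_eq_fintype_card, hq, two_mul, pow_add, ← hX] at hz
      rw [hrec, hq, pow_succ _ (2 * k), two_mul, pow_add, ← hX]
      rw [hq] at hU2
      omega
    · have h := index_ge_of_kinds_aniso hQ hq.le (by omega) H τ.hy1 τ.y1_ne τ.hy2 τ.y2_ne (by rwa [hQv]) hf hyf hA hB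
      have hcnt := norm_count_odd (nondeg_restrictPair hQ τ.hy1 hf hyf) hq (by omega) hU hs
      rw [hQv, Module.natCard_eq_pow_finrank (K := F) (V := perpPair Q τ.y1 f), hU, hq, pow_succ, two_mul k, pow_add,
        ← hX] at h
      rw [show 3 ^ (2 * k) = X * X by rw [two_mul, pow_add]] at hcnt
      change 3 * Nat.card {w : perpPair Q τ.y1 f // restrictPair Q τ.y1 f w = s} + _ ≤ _ at h
      omega
  rcases eq_or_lt_of_le hk with hk2 | hk3
  · subst hk2
    by_cases hI : eo τ.QW ≤ (τ.I H).map τ.L.subtype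
    · exact (τ.alpha_case H hd (by omega) (show 2 * 2 + 3 = 2 * 2 - 1 + 4 by norm_num) hN hZ hI).elim id alpha
    · refine le_trans ?_ (τ.case_seven H hq hd hZ hI)
      rw [← hTd]
      norm_num
  · have hsm : ∀ I : Subgroup τ.L, ¬ eo τ.QW ≤ I.map τ.L.subtype → Nat.card F + 2 ≤ I.index := fun I hI => by
      have := τ.finite_L
      have hW := τ.finrank_W
      have hperf : commutator (eo τ.QW) = ⊤ := by
        refine eq_top_iff.2 ?_
        rintro ⟨g, hg⟩ -
        have h := eo_le_commutator_eo τ.nondeg_W (by omega) hg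
        rw [← Subgroup.map_subtype_commutator] at h
        obtain ⟨x, hx, hxg⟩ := h
        exact (Subtype.ext hxg : x = ⟨g, hg⟩) ▸ hx
      by_contra hlt
      push Not at hlt
      refine hI fun g hg => ?_
      exact ⟨⟨g, τ.eo_le_L hg⟩, range_le_of_index_le_four hperf (Subgroup.inclusion τ.eo_le_L) I
        Subgroup.index_ne_zero_of_finite (by omega) ⟨⟨g, hg⟩, rfl⟩, rfl⟩
    rcases τ.line_cases H hd (by omega) (show 2 * k + 3 = 2 * k - 1 + 4 by omega) hN hZ (Or.inr hsm) with
      h | h | ⟨Z, hZb⟩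
    · exact h
    · exact alpha h
    · have := τ.finrank_W
      have := hZb.1
      omega

/-- Some non-zero norm has the smaller number of lines. -/
theorem exists_small_norm (hQ : (polarBilin Q).Nondegenerate) (hq : Nat.card F = 3) {k : ℕ} (hk : 1 ≤ k)
    (hd : finrank F V = 2 * k + 1) :
    ∃ v : V, Q v ≠ 0 ∧ Nat.card {w : V // Q w = Q v} + 3 ^ k = 3 ^ (2 * k) := by
  classical
  have : Finite V := Module.finite_of_finite F
  have h2 : (1 : F) ≠ -1 := fun h => by
    have h' : (2 : F) = 0 := by linear_combination h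
    have := Fintype.ofFinite F
    have hev := FiniteField.even_card_of_char_two (F := F)
      (CharP.ringChar_of_prime_eq_zero Nat.prime_two (by exact_mod_cast h'))
    rw [← Nat.card_eq_fintype_card, hq] at hev
    omega
  have hX : 3 ^ k < 3 ^ (2 * k) := Nat.pow_lt_pow_right (by norm_num) (by omega)
  have key : ∀ σ : F, σ ≠ 0 → Nat.card {w : V // Q w = σ} + 3 ^ k = 3 ^ (2 * k) →
      ∃ v : V, Q v ≠ 0 ∧ Nat.card {w : V // Q w = Q v} + 3 ^ k = 3 ^ (2 * k) := fun σ hσ h => by
    have : Nonempty {w : V // Q w = σ} := (Nat.card_pos_iff.1 (by omega)).1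
    obtain ⟨⟨v, hv⟩⟩ := this
    exact ⟨v, by rw [hv]; exact hσ, by rw [hv]; exact h⟩
  rcases norm_count_odd hQ hq hk hd (one_ne_zero (α := F)) with h | h
  · exact key 1 one_ne_zero h
  rcases norm_count_odd hQ hq hk hd (neg_ne_zero.2 (one_ne_zero (α := F))) with h' | h'
  · exact key (-1) (neg_ne_zero.2 one_ne_zero) h'
  exfalso
  have := Fintype.ofFinite F
  have hz := OrthElem.zcard_odd_eq hQ hd
  have h1z : 1 ≤ zcard Q := by
    rw [zcard]
    have : Nonempty {x : V // Q x = 0} := ⟨⟨0, map_zero Q⟩⟩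
    exact Nat.card_pos
  rw [← Nat.card_eq_fintype_card, hq] at hz
  have htot : zcard Q + (Nat.card {w : V // Q w = 1} + Nat.card {w : V // Q w = -1}) ≤ Nat.card V := by
    rw [zcard, ← Nat.card_sum, ← Nat.card_sum]
    refine Nat.card_le_card_of_injective (Sum.elim (fun w => w.1) (Sum.elim (fun w => w.1) fun w => w.1)) ?_
    rintro (a | a | a) (b | b | b) e <;> simp only [Sum.elim_inl, Sum.elim_inr] at e <;>
      have ha := a.2 <;> have hb := b.2 <;> rw [e] at ha <;>
      first
        | (obtain rfl : a = b := Subtype.ext e; rfl)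
        | (exfalso; rw [hb] at ha; first | exact h2 ha | exact h2 ha.symm | simp at ha)
  rw [h, h', Module.natCard_eq_pow_finrank (K := F) (V := V), hd, hq, pow_succ] at htot
  have := Nat.one_le_pow k 3 (by norm_num)
  omega

/-- The statement for the quotient by the centre, from a bound and a subgroup attaining it. -/
theorem pomega_of_attained {ι : Type} [Fintype ι] [DecidableEq ι] {Q : QuadraticForm F (ι → F)}
    (hQ : (polarBilin Q).Nondegenerate) (hn : 5 ≤ finrank F (ι → F)) {N : ℕ}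
    (hb : ∀ H : Subgroup (eo Q), H ≠ ⊤ → N ≤ H.index)
    (hS : ∃ S : Subgroup (eo Q), Subgroup.center (eo Q) ≤ S ∧ S.index = N) :
    (∀ H : Subgroup (Cfsg.POmega F ⇑Q), H ≠ ⊤ → N ≤ H.index) ∧
      ∃ H : Subgroup (Cfsg.POmega F ⇑Q), H.index = N := by
  set e := omegaEquiv hQ hn
  have hmk : Function.Surjective (QuotientGroup.mk' (Subgroup.center (Cfsg.Omega F ⇑Q))) :=
    QuotientGroup.mk'_surjective _
  constructor
  · intro H hH
    set H' := (H.comap (QuotientGroup.mk' (Subgroup.center (Cfsg.Omega F ⇑Q)))).comap e.symm.toMonoidHom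
    have hidx : H'.index = H.index := by
      rw [Subgroup.index_comap_of_surjective (f := e.symm.toMonoidHom) _ e.symm.surjective,
        Subgroup.index_comap_of_surjective _ hmk]
    have hne : H' ≠ ⊤ := fun h => hH (Subgroup.index_eq_one.1 (by rw [← hidx, h, Subgroup.index_top]))
    rw [← hidx]
    exact hb H' hne
  · obtain ⟨S, hc, hSi⟩ := hS
    set P := S.comap e.toMonoidHom
    have hle : Subgroup.center (Cfsg.Omega F ⇑Q) ≤ P := fun g hg => by
      refine hc ?_
      rw [← map_center_omega hQ hn]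
      exact ⟨g, hg, rfl⟩
    refine ⟨P.map (QuotientGroup.mk' _), ?_⟩
    rw [SU.index_center_quotient hle, Subgroup.index_comap_of_surjective (f := e.toMonoidHom) _ e.surjective, hSi]

end Cfsg.Agent.MinIndexForm.O
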