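import Cfsg.Agent.MinIndexForm.O.Cases
import Cfsg.Agent.Classical.OrthElem.Type
import Cfsg.Agent.ThreeInv.Quadratic

/-!
For a space of minus type the group on the complement of a line is perfect, hence has no proper subgroup of index
at most four.
-/

set_option autoImplicit false

namespace Cfsg.Agent.MinIndexForm.O

open Cfsg.Agent.Classical Cfsg.Agent.Classical.Quad Module QuadraticMap
open scoped commutatorElement

universe uF uV

variable {F : Type uF} [Field F] [Finite F]

section Four

variable {U : Type uV} [AddCommGroup U] [Module F U] [FiniteDimensional F U] {R : QuadraticForm F U}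

/-- In an anisotropic plane two independent vectors have the same norm. -/
theorem exists_same_norm (hd : finrank F U = 2) (ha : ∀ x : U, R x = 0 → x = 0) :
    ∃ u v : U, R u = R v ∧ R u ≠ 0 ∧ ∀ c : F, v ≠ c • u := by
  classical
  have := Fintype.ofFinite F
  have : Finite U := Module.finite_of_finite F
  have := Fintype.ofFinite U
  set q := Fintype.card F
  let f : {x : U // x ≠ 0} → Fˣ := fun x => Units.mk0 (R x.1) fun h => x.2 (ha _ h)
  have hq : 2 ≤ q := Fintype.one_lt_card
  have hcard : Fintype.card {x : U // x ≠ 0} = q ^ 2 - 1 := by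
    rw [Fintype.card_subtype_compl, Fintype.card_subtype_eq, Module.card_eq_pow_finrank (K := F) (V := U), hd]
  obtain ⟨a, ha'⟩ := Fintype.exists_lt_card_fiber_of_mul_lt_card f (n := q - 1) (by
    rw [hcard, Fintype.card_units]
    obtain ⟨k, hk⟩ : ∃ k, q = k + 2 := ⟨q - 2, by omega⟩
    have e : q ^ 2 = k * k + 4 * k + 4 := by rw [hk]; ring
    show (q - 1) * (q - 1) < q ^ 2 - 1
    rw [e, hk, show k + 2 - 1 = k + 1 by omega]
    have : (k + 1) * (k + 1) = k * k + 2 * k + 1 := by ring
    omega)
  set S := Finset.univ.filter fun x => f x = a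
  obtain ⟨u, hu⟩ : S.Nonempty := Finset.card_pos.1 (by omega)
  by_contra hc
  push Not at hc
  refine absurd (Finset.card_le_card_of_surjOn (s := (Finset.univ : Finset Fˣ)) (t := S)
    (fun c : Fˣ => (⟨(c : F) • u.1, smul_ne_zero c.ne_zero u.2⟩ : {x : U // x ≠ 0})) (fun v hv => ?_)) ?_
  · simp only [S, Finset.coe_filter, Finset.mem_univ, true_and, Set.mem_ofPred_eq] at hv
    simp only [S, Finset.mem_filter, Finset.mem_univ, true_and] at hu
    have e : R u.1 = R v.1 := congrArg Units.val (hu.trans hv.symm)
    obtain ⟨c, hc'⟩ := hc u.1 v.1 e (fun h => u.2 (ha _ h))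
    have hc0 : c ≠ 0 := fun h => v.2 (by rw [hc', h, zero_smul])
    exact ⟨Units.mk0 c hc0, by simp, Subtype.ext hc'.symm⟩
  · rw [Finset.card_univ, Fintype.card_units, not_le]
    exact ha'

/-- In dimension four without totally singular planes, the group of Siegel transformations is perfect. -/
theorem eo_perfect_four (hR : (polarBilin R).Nondegenerate) (hd : finrank F U = 4)
    (hTS : ∀ X : Submodule F U, (∀ x ∈ X, R x = 0) → finrank F X ≠ 2) : eo R ≤ ⁅eo R, eo R⁆ := by
  refine (Subgroup.closure_le _).2 ?_
  rintro _ ⟨p, w, hp, hpw, rfl⟩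
  by_cases hp0 : p = 0
  · have e : sO hp hpw = 1 := ext_oG fun x => by rw [sO_apply, oG_one_apply, hp0]; simp [polar]
    exact e ▸ one_mem _
  obtain ⟨f, hf, hpf⟩ := exists_hyp_pair hR hp0 hp
  have hPd := finrank_perpPair (Q := R) hp hf hpf
  have hP := nondeg_restrictPair hR hp hf hpf
  have haniso : ∀ x : perpPair R p f, restrictPair R p f x = 0 → x = 0 := fun x hx => by
    by_contra h0
    have hind : LinearIndependent F ![p, (x : U)] := by
      rw [LinearIndependent.pair_iff' hp0]
      intro a h
      have := (mem_perpPair.1 x.2).2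
      rw [← h, polar_smul_right, polar_comm R f p, hpf, smul_eq_mul, mul_one] at this
      rw [this, zero_smul] at h
      exact h0 (Subtype.ext h.symm)
    refine hTS (Submodule.span F (Set.range ![p, (x : U)])) (fun y hy => ?_)
      (by rw [finrank_span_eq_card hind, Fintype.card_fin])
    rw [show Set.range ![p, (x : U)] = {p, (x : U)} by simp [Set.pair_comm], Submodule.mem_span_pair] at hy
    obtain ⟨a, b, rfl⟩ := hy
    have hx' : R (x : U) = 0 := hx
    rw [map_add', Quad.map_smul', Quad.map_smul', hp, hx', polar_smul_left, polar_smul_right,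
      (mem_perpPair.1 x.2).1]
    simp
  obtain ⟨u, v, huv, hu0, hnot⟩ := exists_same_norm (R := restrictPair R p f) (by omega) haniso
  have huR : R (u : U) ≠ 0 := hu0
  have hvR : R (v : U) ≠ 0 := fun h => hu0 (huv.trans h)
  set g := rO huR * rO hvR with hg
  have hgeo : g ∈ eo R := by
    have h1 := mk_rO_eq hR (by omega) hp hf hpf huR
    have h2 := mk_rO_eq hR (by omega) hp hf hpf hvR
    rw [rPair_congr hp hf hpf huR hvR huv, ← h2] at h1
    have : (QuotientGroup.mk' (eo R)) g = 1 := by
      rw [hg, map_mul, h1, ← map_mul, rO_mul_self, map_one]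
    exact (QuotientGroup.eq_one_iff _).1 this
  have hfix : ∀ y : U, polar R y (u : U) = 0 → polar R y (v : U) = 0 → g.1 y = y := fun y h1 h2 => by
    rw [hg, oG_mul_apply, rO_apply hvR, h2, zero_div, zero_smul, sub_zero, rO_apply huR, h1]; simp
  have hgp : g.1 p = p := hfix p (mem_perpPair.1 u.2).1 (mem_perpPair.1 v.2).1
  have hgmem : ∀ x : perpPair R p f, g.1 (x : U) ∈ perpPair R p f := fun x => by
    have hgf : g.1 f = f := hfix f (mem_perpPair.1 u.2).2 (mem_perpPair.1 v.2).2
    refine mem_perpPair.2 ⟨?_, ?_⟩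
    · have := polar_oG g p (x : U); rw [hgp] at this; rw [this]; exact (mem_perpPair.1 x.2).1
    · have := polar_oG g f (x : U); rw [hgf] at this; rw [this]; exact (mem_perpPair.1 x.2).2
  let D : perpPair R p f → perpPair R p f := fun x => ⟨g.1 (x : U) - x, Submodule.sub_mem _ (hgmem x) x.2⟩
  have hker : ∀ x : perpPair R p f, g.1 (x : U) = x → x = 0 := fun x hx => by
    have h' : (rO hvR).1 (x : U) = (rO huR).1 (x : U) := by
      conv_rhs => rw [← hx, hg, oG_mul_apply, ← oG_mul_apply (rO huR), rO_mul_self, oG_one_apply]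
    rw [rO_apply, rO_apply, sub_right_inj] at h'
    have hb : polar R (x : U) (v : U) = 0 := by
      by_contra hb
      refine hnot ((polar R (x : U) (v : U) / R (v : U))⁻¹ * (polar R (x : U) (u : U) / R (u : U))) (Subtype.ext ?_)
      rw [Submodule.coe_smul, mul_smul, ← h', inv_smul_smul₀ (div_ne_zero hb hvR)]
    have ha : polar R (x : U) (u : U) = 0 := by
      rw [hb, zero_div, zero_smul] at h'
      rcases smul_eq_zero.1 h'.symm with h | h
      · exact (div_eq_zero_iff.1 h).resolve_right huR
      · exact absurd (by rw [h, map_zero] : R (u : U) = 0) huR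
    refine eq_zero_of_polar hP fun y => ?_
    have hind : LinearIndependent F ![u, v] := by
      rw [LinearIndependent.pair_iff' (fun h => hu0 (by rw [h, map_zero]))]
      exact fun a h => hnot a h.symm
    have htop : Submodule.span F (Set.range ![u, v]) = ⊤ := hind.span_eq_top_of_card_eq_finrank (by simp; omega)
    have hy : y ∈ Submodule.span F (Set.range ![u, v]) := htop ▸ Submodule.mem_top
    rw [show Set.range ![u, v] = {u, v} by simp [Set.pair_comm], Submodule.mem_span_pair] at hy
    obtain ⟨a, b, rfl⟩ := hy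
    show polar R (x : U) ((a • u + b • v : perpPair R p f) : U) = 0
    rw [Submodule.coe_add, Submodule.coe_smul, Submodule.coe_smul, polar_add_right, polar_smul_right,
      polar_smul_right, ha, hb]
    simp
  have hinj : Function.Injective D := fun x x' h => by
    have h' : g.1 (x : U) - x = g.1 (x' : U) - x' := congrArg Subtype.val h
    refine sub_eq_zero.1 (hker (x - x') ?_)
    rw [Submodule.coe_sub, map_sub]
    linear_combination (norm := module) h'
  have : Finite U := Module.finite_of_finite F
  set t := polar R f w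
  have hu0mem : w - t • p ∈ perpPair R p f := mem_perpPair.2 ⟨by
    rw [sub_eq_add_neg, ← neg_smul]; exact polar_perp_add hpw (by simp [polar_smul_right, polar_self', hp]), by
    rw [sub_eq_add_neg, ← neg_smul, polar_add_right, polar_smul_right, polar_comm R f p, hpf, smul_eq_mul,
      mul_one, add_neg_cancel]⟩
  obtain ⟨x, hx⟩ := (Finite.injective_iff_surjective.1 hinj) ⟨_, hu0mem⟩
  have hx' : g.1 (x : U) - x = w - t • p := congrArg Subtype.val hx
  have hpx : polar R p (x : U) = 0 := (mem_perpPair.1 x.2).1
  have hpgx : polar R p (g.1 (x : U)) = 0 := (mem_perpPair.1 (hgmem x)).1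
  have key : ⁅g, sO hp hpx⁆ = sO hp hpw := by
    have hwt : polar R p (w + -t • p) = 0 := polar_perp_add hpw (by simp [polar_smul_right, polar_self', hp])
    rw [commutatorElement_def, conj_sO, sO_left_congr _ _ hp hpgx hgp, sO_inv, sO_mul,
      sO_congr hp _ hwt (by rw [← sub_eq_add_neg, hx', neg_smul, sub_eq_add_neg]), sO_add_self hp hpw]
  exact key ▸ Subgroup.commutator_mem_commutator hgeo (sO_mem_eo hp hpx)

end Four

/-- A homomorphism from a perfect group lands in every subgroup of index at most four. -/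
theorem range_le_of_index_le_four {E G : Type*} [Group E] [Group G] (hE : commutator E = ⊤) (f : E →* G)
    (I : Subgroup G) (h0 : I.index ≠ 0) (h4 : I.index ≤ 4) : f.range ≤ I := by
  have : Finite (G ⧸ I) := (Nat.card_ne_zero.1 h0 |>.2 : Finite (G ⧸ I))
  have hs := ThreeInv.isSolvable_perm_small (α := G ⧸ I) h4
  set ψ := (MulAction.toPermHom G (G ⧸ I)).comp f
  obtain ⟨n, hn⟩ := hs.solvable
  have htop : ∀ k, derivedSeries E k = ⊤ := by
    intro k
    induction k with
    | zero => rfl
    | succ k ih => rw [derivedSeries_succ, ih, ← commutator_def, hE]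
  rintro _ ⟨e, rfl⟩
  have he : ψ e ∈ derivedSeries (Equiv.Perm (G ⧸ I)) n :=
    map_derivedSeries_le_derivedSeries ψ n ⟨e, by rw [htop]; exact Subgroup.mem_top _, rfl⟩
  rw [hn, Subgroup.mem_bot] at he
  have := congrArg (fun σ : Equiv.Perm (G ⧸ I) => σ ((1 : G) : G ⧸ I)) he
  simp only [ψ, MonoidHom.comp_apply, MulAction.toPermHom_apply, MulAction.toPerm_apply,
    Equiv.Perm.coe_one, id_eq] at this
  rw [MulAction.Quotient.smul_coe, smul_eq_mul, mul_one] at this
  rw [eq_comm, QuotientGroup.eq, inv_one, one_mul] at this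
  exact this

variable {V : Type uV} [AddCommGroup V] [Module F V] [FiniteDimensional F V] {Q : QuadraticForm F V}

namespace LF

variable (τ : LF Q)

/-- In minus type and dimension eight the complement of a line has no totally singular plane. -/
theorem no_ts_plane (h8 : finrank F V = 8) (hm : ¬ OrthElem.Plus Q ⊤) {X : Submodule F τ.W}
    (hX : ∀ x ∈ X, τ.QW x = 0) (hX2 : finrank F X = 2) : False := by
  refine hm ?_
  refine ⟨τ.ell ⊔ X.map τ.W.subtype, le_top, ?_, ?_⟩
  · intro y hy
    obtain ⟨a, ha, _, ⟨x, hx, rfl⟩, rfl⟩ := Submodule.mem_sup.1 hy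
    have hx' : Q (x : V) = 0 := hX x hx
    rw [map_add', show Q a = 0 by
      rw [τ.ell_eq ha, map_add', Quad.map_smul', Quad.map_smul', τ.hy1, τ.hy2, polar_smul_left, polar_smul_right,
        τ.hyy]
      simp, Submodule.coe_subtype, hx', polar_comm, τ.ell_perp ha]
    simp
  · have hind : LinearIndependent F ![τ.y1, τ.y2] := by
      rw [LinearIndependent.pair_iff' τ.y1_ne]
      intro a h
      have := congrArg (fun y => polar Q y τ.f2) h
      simp only [polar_smul_left, τ.h22, polar_comm Q τ.y1 τ.f2, τ.h12', smul_zero] at this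
      exact zero_ne_one this
    have hell : finrank F τ.ell = 2 := by
      rw [ell, show ({τ.y1, τ.y2} : Set V) = Set.range ![τ.y1, τ.y2] by simp [Set.pair_comm],
        finrank_span_eq_card hind, Fintype.card_fin]
    have hdis : τ.ell ⊓ X.map τ.W.subtype = ⊥ := by
      refine (Submodule.eq_bot_iff _).2 fun y hy => ?_
      obtain ⟨hy1, x, hx, rfl⟩ := hy
      rw [τ.ell_eq hy1, Submodule.coe_subtype, polar_comm Q (x : V) τ.f1, polar_comm Q (x : V) τ.f2, τ.Bf1,
        τ.Bf2]
      simp
    have h2 := Submodule.finrank_sup_add_finrank_inf_eq τ.ell (X.map τ.W.subtype)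
    rw [hdis, finrank_bot, hell, Submodule.finrank_map_subtype_eq, hX2] at h2
    rw [finrank_top]
    omega

/-- Over a small field and in minus type, the group on the complement has no small proper subgroup. -/
theorem small_index (hq : Nat.card F ≤ 3) (hn : 8 ≤ finrank F V) (hm : ¬ OrthElem.Plus Q ⊤)
    (I : Subgroup τ.L) (hI : ¬ eo τ.QW ≤ I.map τ.L.subtype) : Nat.card F + 2 ≤ I.index := by
  have := τ.finite_L
  have hW := τ.finrank_W
  have hle : eo τ.QW ≤ ⁅eo τ.QW, eo τ.QW⁆ := by
    rcases eq_or_lt_of_le hn with h8 | h8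
    swap
    · exact eo_le_commutator_eo τ.nondeg_W (by omega)
    exact eo_perfect_four τ.nondeg_W (by omega) fun X hX hX2 => τ.no_ts_plane h8.symm hm hX hX2
  have hperf : commutator (eo τ.QW) = ⊤ := by
    refine eq_top_iff.2 ?_
    rintro ⟨g, hg⟩ -
    have h := hle hg
    rw [← Subgroup.map_subtype_commutator] at h
    obtain ⟨x, hx, hxg⟩ := h
    exact (Subtype.ext hxg : x = ⟨g, hg⟩) ▸ hx
  by_contra hlt
  push Not at hlt
  refine hI fun g hg => ?_
  exact ⟨⟨g, τ.eo_le_L hg⟩, range_le_of_index_le_four hperf (Subgroup.inclusion τ.eo_le_L) I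
    Subgroup.index_ne_zero_of_finite (by omega) ⟨⟨g, hg⟩, rfl⟩, rfl⟩

end LF

end Cfsg.Agent.MinIndexForm.O
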