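import Cfsg.Agent.MinIndexForm.O.FourTwo

/-!
At a line of the eight-dimensional space of plus type over two elements, a subgroup of index two or three on the
complement either has no vector part or all lifts.
-/

set_option autoImplicit false

namespace Cfsg.Agent.MinIndexForm.O

open Cfsg.Agent.Classical Cfsg.Agent.Classical.Quad Module QuadraticMap Matrix
open scoped MatrixGroups

universe uF uV

variable {F : Type uF} [Field F] [Finite F] {V : Type uV} [AddCommGroup V] [Module F V] [FiniteDimensional F V]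
  {Q : QuadraticForm F V}

/-- A field with two elements. -/
theorem eq_bits (hq : Nat.card F = 2) (r : F) : r = 0 ∨ r = 1 := by
  by_contra hc
  push Not at hc
  have := Fintype.ofFinite F
  have hnd : [(0 : F), 1, r].Nodup := by simp [Ne.symm hc.1, Ne.symm hc.2]
  have := hnd.length_le_card
  rw [Nat.card_eq_fintype_card] at hq
  simp at this
  omega

theorem two_eq_zero_of_card (hq : Nat.card F = 2) : (2 : F) = 0 := by
  rcases eq_bits hq (2 : F) with h | h
  · exact h
  · exfalso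
    have : (1 : F) = 0 := by linear_combination h
    exact one_ne_zero this

namespace LF

variable (τ : LF Q) (K : Subgroup (eo Q))

/-- Two hyperbolic pairs spanning the complement. -/
theorem exists_four (hq : Nat.card F = 2) (h8 : finrank F V = 8) (hp : OrthElem.Plus Q ⊤) :
    ∃ e1 h1 e2 h2 : τ.W, (τ.QW e1 = 0 ∧ τ.QW h1 = 0 ∧ τ.QW e2 = 0 ∧ τ.QW h2 = 0) ∧
      (polar τ.QW e1 h1 = 1 ∧ polar τ.QW e2 h2 = 1) ∧
      (polar τ.QW e1 e2 = 0 ∧ polar τ.QW e1 h2 = 0 ∧ polar τ.QW h1 e2 = 0 ∧ polar τ.QW h1 h2 = 0) ∧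
      ∀ w : τ.W, w = polar τ.QW h1 w • e1 + polar τ.QW e1 w • h1 + polar τ.QW h2 w • e2 + polar τ.QW e2 w • h2 := by
  have := Fintype.ofFinite F
  have hN := OrthElem.zcard_plus_eq τ.hQ (k := 3) (by rw [h8]) hp
  rw [← zcard_pts, Nat.add_sub_cancel, ← Nat.card_eq_fintype_card, hq] at hN
  norm_num at hN
  have hU := finrank_perpPair (Q := Q) τ.hy1 τ.hf1 τ.h11
  have hUnd := nondeg_restrictPair τ.hQ τ.hy1 τ.hf1 τ.h11
  have hUd : finrank F (perpPair Q τ.y1 τ.f1) = 6 := by omega
  have r1 := pts_rec τ.hy1 τ.hf1 τ.h11 hUd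
  set U := perpPair Q τ.y1 τ.f1
  set R := restrictPair Q τ.y1 τ.f1 with hR
  let y2' : U := ⟨τ.y2, mem_perpPair.2 ⟨τ.hyy, τ.h21'⟩⟩
  let f2' : U := ⟨τ.f2, mem_perpPair.2 ⟨τ.h12, τ.hff⟩⟩
  have hy2' : R y2' = 0 := τ.hy2
  have hf2' : R f2' = 0 := τ.hf2
  have hyf' : polar R y2' f2' = 1 := τ.h22
  have hU2 : finrank F U = 2 + finrank F (perpPair R y2' f2') := finrank_perpPair (Q := R) hy2' hf2' hyf'
  have hU2nd := nondeg_restrictPair hUnd hy2' hf2' hyf'
  have hU2d : finrank F (perpPair R y2' f2') = 4 := by omega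
  have r2 := pts_rec hy2' hf2' hyf' hU2d
  set U2 := perpPair R y2' f2'
  set R2 := restrictPair R y2' f2' with hR2
  obtain ⟨a, ha0, ha⟩ := exists_singular R2 (show 3 ≤ finrank F U2 by omega)
  obtain ⟨b, hb, hab⟩ := exists_hyp_pair hU2nd ha0 ha
  have hU3 : finrank F U2 = 2 + finrank F (perpPair R2 a b) := finrank_perpPair (Q := R2) ha hb hab
  have hU3nd := nondeg_restrictPair hU2nd ha hb hab
  have hU3d : finrank F (perpPair R2 a b) = 2 := by omega
  have r3 := pts_rec ha hb hab hU3d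
  set R3 : QuadraticForm F (perpPair R2 a b) := restrictPair R2 a b with hR3
  rw [hq] at r1 r2 r3
  have hpos : 0 < Nat.card (SPt (F := F) (V := perpPair R2 a b) R3) := by omega
  obtain ⟨p⟩ := (Nat.card_pos_iff.1 hpos).1
  obtain ⟨d, hd, hcd⟩ := exists_hyp_pair hU3nd p.1.rep_nonzero p.2
  set c := p.1.rep
  have hmemW : ∀ x : U2, ((x : U) : V) ∈ τ.W := fun x =>
    τ.mem_W.2 ⟨⟨(mem_perpPair.1 (x : U).2).1, (mem_perpPair.1 x.2).1⟩,
      (mem_perpPair.1 (x : U).2).2, (mem_perpPair.1 x.2).2⟩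
  let ι : U2 → τ.W := fun x => ⟨((x : U) : V), hmemW x⟩
  refine ⟨ι a, ι b, ι c, ι d, ⟨ha, hb, p.2, hd⟩, ⟨hab, hcd⟩,
    ⟨(mem_perpPair.1 c.2).1, (mem_perpPair.1 d.2).1, (mem_perpPair.1 c.2).2, (mem_perpPair.1 d.2).2⟩, fun w => ?_⟩
  have hwU : (w : V) ∈ U := mem_perpPair.2 ⟨τ.By1 w, τ.Bf1 w⟩
  have hwU2 : (⟨(w : V), hwU⟩ : U) ∈ U2 := mem_perpPair.2 ⟨τ.By2 w, τ.Bf2 w⟩
  set x : U2 := ⟨_, hwU2⟩
  set e := x - polar R2 b x • a - polar R2 a x • b with he
  have he3 : e ∈ perpPair R2 a b := mem_perpPair.2 ⟨by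
    rw [he, polar_sub_right, polar_sub_right,
      polar_smul_right, polar_smul_right, polar_self', ha, hab]
    simp, by
    rw [he, polar_sub_right, polar_sub_right,
      polar_smul_right, polar_smul_right, polar_self' (Q := R2) b, hb, polar_comm R2 b a, hab]
    simp⟩
  set e' : perpPair R2 a b := ⟨e, he3⟩
  have hind : LinearIndependent F ![c, d] := by
    rw [LinearIndependent.pair_iff' p.1.rep_nonzero]
    intro t h
    have := congrArg (polar R3 c) h
    rw [hcd, polar_smul_right, polar_self', p.2] at this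
    simp at this
  have hsd : finrank F (Submodule.span F (Set.range ![c, d])) = finrank F (perpPair R2 a b) := by
    rw [finrank_span_eq_card hind, Fintype.card_fin]; exact hU3d.symm
  have hspan : Submodule.span F (Set.range ![c, d]) = ⊤ := by
    haveI : FiniteDimensional F (perpPair R2 a b) := FiniteDimensional.finiteDimensional_submodule _
    exact @Submodule.eq_top_of_finrank_eq F (perpPair R2 a b) _ _ _ _ _ hsd
  obtain ⟨s, t, hst⟩ : ∃ s t : F, s • c + t • d = e' := by
    have hm : e' ∈ Submodule.span F (Set.range ![c, d]) := hspan ▸ Submodule.mem_top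
    rwa [show Set.range ![c, d] = {c, d} by simp [Set.pair_comm], Submodule.mem_span_pair] at hm
  have hs : s = polar R3 d e' := by
    rw [← hst, polar_add_right, polar_smul_right, polar_smul_right, polar_self', hd, polar_comm R3 d c, hcd]
    simp
  have ht : t = polar R3 c e' := by
    rw [← hst, polar_add_right, polar_smul_right, polar_smul_right, polar_self', p.2, hcd]
    simp
  have hce : polar R3 c e' = polar R2 (c : U2) x := by
    show polar R2 (c : U2) e = _
    rw [he, polar_sub_right, polar_sub_right,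
      polar_smul_right, polar_smul_right, polar_comm R2 (c : U2) a, polar_comm R2 (c : U2) b,
      (mem_perpPair.1 c.2).1, (mem_perpPair.1 c.2).2]
    simp
  have hde : polar R3 d e' = polar R2 (d : U2) x := by
    show polar R2 (d : U2) e = _
    rw [he, polar_sub_right, polar_sub_right,
      polar_smul_right, polar_smul_right, polar_comm R2 (d : U2) a, polar_comm R2 (d : U2) b,
      (mem_perpPair.1 d.2).1, (mem_perpPair.1 d.2).2]
    simp
  have hx : x = polar R2 b x • a + polar R2 a x • b + polar R2 (d : U2) x • (c : U2) + polar R2 (c : U2) x • (d : U2) := by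
    have h := congrArg Subtype.val hst
    rw [hs, ht, hce, hde] at h
    simp only [Submodule.coe_add, Submodule.coe_smul] at h
    rw [show ((e' : perpPair R2 a b) : U2) = e from rfl, he] at h
    linear_combination (norm := module) -h
  exact Subtype.ext (congrArg (fun z : U2 => ((z : U) : V)) hx :)

end LF

variable [DecidableEq F]

/-- A bit. -/
def bit (r : F) : Bool := decide (r = 1)

omit [Finite F] in
theorem bit_zero : bit (0 : F) = false := by simp [bit]

omit [Finite F] in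
theorem bit_one : bit (1 : F) = true := by simp [bit]

theorem bit_add (hq : Nat.card F = 2) (x y : F) : bit (x + y) = xor (bit x) (bit y) := by
  have h11 : (1 : F) + 1 = 0 := by linear_combination two_eq_zero_of_card hq
  rcases eq_bits hq x with rfl | rfl <;> rcases eq_bits hq y with rfl | rfl <;> simp [bit, h11]

theorem bit_mul (hq : Nat.card F = 2) (x y : F) : bit (x * y) = (bit x && bit y) := by
  rcases eq_bits hq x with rfl | rfl <;> rcases eq_bits hq y with rfl | rfl <;> simp [bit]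

namespace LF

variable (τ : LF Q) (K : Subgroup (eo Q))

/-- With index two on the complement there is no vector part. -/
theorem case_two (hq : Nat.card F = 2) (h8 : finrank F V = 8) (hp : OrthElem.Plus Q ⊤) (hJ : τ.J K = ⊤)
    (hI : (τ.I K).index = 2) (hZ : τ.Zp K = ⊥) : τ.S K = ⊥ := by
  have htwo := two_eq_zero_of_card hq
  obtain ⟨e1, h1, e2, h2, ⟨q1, q2, q3, q4⟩, ⟨p11, p22⟩, ⟨pee, peh, phe, phh⟩, hexp⟩ := τ.exists_four hq h8 hp
  have hneg : ∀ r : F, -r = r := fun r => by linear_combination (-r) * htwo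
  have hsq : ∀ g ∈ eo τ.QW, ∀ a b : τ.W, (a, b) ∈ τ.S K → ((g * g).1 a, (g * g).1 b) ∈ τ.S K := fun g hg a b h =>
    τ.S_inv_I K (Subgroup.mul_self_mem_of_index_two hI (⟨g, τ.eo_le_L hg⟩ : τ.L)) h
  have hO : ∀ a b : τ.W, (a, b) ∈ τ.S K → (b, a + b) ∈ τ.S K := fun a b h => by
    let M : SL(2, F) := ⟨!![1, 1; 1, 0], by rw [det_fin_two]; simp; linear_combination (-1 : F) * htwo⟩
    obtain ⟨g, hg, eg⟩ := (τ.mem_J K).1 (hJ ▸ Subgroup.mem_top M)
    obtain ⟨g', hg', e', hl⟩ := τ.lift_one K (g := g * g) (K.mul_mem hg hg) (by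
      convert Subgroup.mul_self_mem_of_index_two hI (⟨_, τ.lam_mem_L g⟩ : τ.L) using 1
      refine Subtype.ext ?_
      show τ.lam ((⟨g.1, g.2.1⟩ : τ.P) * ⟨g.1, g.2.1⟩) = _
      rw [map_mul]; rfl)
    have := τ.S_inv K g'.2.1 hg' h
    rw [hl, ← τ.sl_coe g', e', map_mul, eg, Matrix.SpecialLinearGroup.coe_mul] at this
    simp [M, Matrix.mul_apply, Fin.sum_univ_two] at this
    convert this using 1
    refine Prod.ext ?_ ?_
    · simp [show (1 : F) + 1 = 0 by linear_combination htwo]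
    · simp
  let cd : τ.W → FourTwo.B4 := fun w =>
    (bit (polar τ.QW h1 w), bit (polar τ.QW e1 w), bit (polar τ.QW h2 w), bit (polar τ.QW e2 w))
  let pc : τ.W × τ.W → FourTwo.B8 := fun v => (cd v.1, cd v.2)
  have hadd : ∀ a b, cd (a + b) = FourTwo.add (cd a) (cd b) := fun a b => by
    simp [cd, FourTwo.add, polar_add_right, bit_add hq]
  have hpol : ∀ a b, bit (polar τ.QW a b) = FourTwo.pol (cd a) (cd b) := fun a b => by
    have e : polar τ.QW a b = polar τ.QW h1 a * polar τ.QW e1 b + polar τ.QW e1 a * polar τ.QW h1 b +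
        (polar τ.QW h2 a * polar τ.QW e2 b + polar τ.QW e2 a * polar τ.QW h2 b) := by
      conv_lhs => rw [hexp a]
      simp only [polar_add_left, polar_smul_left, smul_eq_mul]
      ring
    rw [e, bit_add hq, bit_add hq, bit_add hq, bit_mul hq, bit_mul hq, bit_mul hq, bit_mul hq]
    simp only [cd, FourTwo.pol]
  set gL : oG τ.QW := sO q1 pee * sO q2 phh with hgL
  set gR : oG τ.QW := sO q1 peh * sO q2 phe with hgR
  have hLmem : gL ∈ eo τ.QW := mul_mem (sO_mem_eo _ _) (sO_mem_eo _ _)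
  have hRmem : gR ∈ eo τ.QW := mul_mem (sO_mem_eo _ _) (sO_mem_eo _ _)
  have p11' : polar τ.QW h1 e1 = 1 := by rw [polar_comm, p11]
  have p22' : polar τ.QW h2 e2 = 1 := by rw [polar_comm, p22]
  have pee' : polar τ.QW e2 e1 = 0 := by rw [polar_comm, pee]
  have peh' : polar τ.QW h2 e1 = 0 := by rw [polar_comm, peh]
  have phe' : polar τ.QW e2 h1 = 0 := by rw [polar_comm, phe]
  have phh' : polar τ.QW h2 h1 = 0 := by rw [polar_comm, phh]
  have hcL : ∀ w, cd ((gL * gL).1 w) = FourTwo.mL (cd w) := fun w => by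
    simp only [cd, hgL, oG_mul_apply, sO_apply, polar_add_right, polar_smul_right, polar_add_left, polar_smul_left,
      polar_self', q1, q2, q3, q4, p11, p11', p22, p22', pee, pee', peh, peh', phe, phe', phh, phh',
      polar_comm τ.QW w e1, polar_comm τ.QW w h1, polar_comm τ.QW w e2, polar_comm τ.QW w h2, smul_eq_mul, hneg,
      mul_zero, zero_mul, add_zero, zero_add, mul_one, one_mul, FourTwo.mL]
    rcases eq_bits hq (polar τ.QW h1 w) with ha | ha <;> rcases eq_bits hq (polar τ.QW e1 w) with hb | hb <;>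
      rcases eq_bits hq (polar τ.QW h2 w) with hc | hc <;> rcases eq_bits hq (polar τ.QW e2 w) with hd | hd <;>
      simp [ha, hb, hc, hd, bit, show (1 : F) + 1 = 0 by linear_combination htwo]
  have hcR : ∀ w, cd ((gR * gR).1 w) = FourTwo.mR (cd w) := fun w => by
    simp only [cd, hgR, oG_mul_apply, sO_apply, polar_add_right, polar_smul_right, polar_add_left, polar_smul_left,
      polar_self', q1, q2, q3, q4, p11, p11', p22, p22', pee, pee', peh, peh', phe, phe', phh, phh',
      polar_comm τ.QW w e1, polar_comm τ.QW w h1, polar_comm τ.QW w e2, polar_comm τ.QW w h2, smul_eq_mul, hneg,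
      mul_zero, zero_mul, add_zero, zero_add, mul_one, one_mul, FourTwo.mR]
    rcases eq_bits hq (polar τ.QW h1 w) with ha | ha <;> rcases eq_bits hq (polar τ.QW e1 w) with hb | hb <;>
      rcases eq_bits hq (polar τ.QW h2 w) with hc | hc <;> rcases eq_bits hq (polar τ.QW e2 w) with hd | hd <;>
      simp [ha, hb, hc, hd, bit, show (1 : F) + 1 = 0 by linear_combination htwo]
  rw [AddSubgroup.eq_bot_iff_forall]
  rintro ⟨a, b⟩ hv
  let M : Set FourTwo.B8 := pc '' (τ.S K : Set (τ.W × τ.W))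
  have kO : ∀ u ∈ M, FourTwo.dO u ∈ M := by
    rintro _ ⟨v, h, rfl⟩
    exact ⟨_, hO v.1 v.2 h, by simp [pc, FourTwo.dO, hadd]⟩
  have kL : ∀ u ∈ M, FourTwo.dL u ∈ M := by
    rintro _ ⟨v, h, rfl⟩
    exact ⟨_, hsq _ hLmem v.1 v.2 h, Prod.ext (hcL _) (hcL _)⟩
  have kR : ∀ u ∈ M, FourTwo.dR u ∈ M := by
    rintro _ ⟨v, h, rfl⟩
    exact ⟨_, hsq _ hRmem v.1 v.2 h, Prod.ext (hcR _) (hcR _)⟩
  have hiso : ∀ w ∈ M, FourTwo.bet (pc (a, b)) w = false := by
    rintro _ ⟨⟨a', b'⟩, h, rfl⟩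
    have := τ.S_comm K hv h
    rw [hZ, AddSubgroup.mem_bot, ← τ.polar_QW, ← τ.polar_QW, sub_eq_add_neg, hneg] at this
    have h' := congrArg bit this
    rw [bit_add hq, hpol, hpol, bit_zero] at h'
    exact h'
  have hv' : pc (a, b) ∈ M := ⟨_, hv, rfl⟩
  have hd := FourTwo.detect (pc (a, b)) (by
    rw [List.all_eq_true]
    intro w hw
    rw [hiso w ?_]
    · rfl
    · simp only [FourTwo.test, List.mem_cons, List.not_mem_nil, or_false] at hw
      rcases hw with rfl | rfl | rfl | rfl | rfl | rfl | rfl | rfl | rfl | rfl | rfl | rfl | rfl <;>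
        (repeat' first | exact hv' | apply kO | apply kL | apply kR))
  have hzero : ∀ w, cd w = (false, false, false, false) → w = 0 := fun w h => by
    have hb : ∀ r : F, bit r = false → r = 0 := fun r hr => by
      rcases eq_bits hq r with rfl | rfl
      · rfl
      · simp [bit] at hr
    simp only [cd, Prod.mk.injEq] at h
    rw [hexp w, hb _ h.1, hb _ h.2.1, hb _ h.2.2.1, hb _ h.2.2.2]
    simp
  simp only [pc, Prod.mk.injEq] at hd
  exact Prod.ext (hzero a (by simp [cd, hd])) (hzero b (by simp [cd, hd]))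

omit [DecidableEq F] in
/-- With index three on the complement all matrices lift trivially. -/
theorem lifts_three (hq : Nat.card F = 2) (hJ : τ.J K = ⊤) (hI : (τ.I K).index = 3)
    (hIe : ¬ eo τ.QW ≤ (τ.I K).map τ.L.subtype) (A : SL(2, F)) :
    ∃ g : τ.P1, g.1 ∈ K ∧ τ.sl g = A ∧ τ.lam ⟨g.1, g.2.1⟩ = 1 := by
  obtain ⟨g, hg, rfl⟩ := (τ.mem_J K).1 (hJ ▸ Subgroup.mem_top A)
  set l : τ.L := ⟨_, τ.lam_mem_L g⟩ with hl
  have hmem : ∀ g : τ.P1, g.1 ∈ K → ∀ k ∈ τ.I K, (⟨_, τ.lam_mem_L g⟩ : τ.L) * k * (⟨_, τ.lam_mem_L g⟩ : τ.L)⁻¹ ∈ τ.I K := by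
    intro g hg k hk
    obtain ⟨x, hx, rfl⟩ := (τ.mem_I K).1 hk
    have hmat : g.1 * x.1 * g.1⁻¹ ∈ τ.P2 := by
      set x1 : τ.P1 := ⟨x.1, τ.P2_le x.2⟩
      refine τ.P2_of_mat (g * x1 * g⁻¹).2.1 (congrArg Subtype.val (show τ.sl (g * x1 * g⁻¹) = 1 by
        rw [map_mul, map_mul, map_inv, show τ.sl x1 = 1 from Subtype.ext (τ.mat_P2 x.2), mul_one, mul_inv_cancel]))
    refine (τ.mem_I K).2 ⟨⟨_, hmat⟩, K.mul_mem (K.mul_mem hg hx) (K.inv_mem hg), Subtype.ext ?_⟩
    show τ.lam ((⟨g.1, g.2.1⟩ : τ.P) * (⟨x.1, τ.P2_le_P x.2⟩ : τ.P) * (⟨g.1, g.2.1⟩ : τ.P)⁻¹) = _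
    rw [map_mul, map_mul, map_inv]
    rfl
  have hN : l ∈ Subgroup.normalizer (τ.I K : Set τ.L) := by
    rw [Subgroup.mem_normalizer_iff]
    intro k
    refine ⟨fun hk => hmem g hg k hk, fun hk => ?_⟩
    have h' := hmem g⁻¹ (K.inv_mem hg) _ hk
    have e : (⟨_, τ.lam_mem_L g⁻¹⟩ : τ.L) = l⁻¹ := Subtype.ext (by
      show τ.lam (⟨g.1, g.2.1⟩ : τ.P)⁻¹ = _
      rw [map_inv]; rfl)
    rw [e, inv_inv] at h'
    simpa [mul_assoc] using h'
  refine τ.lift_one K hg ?_
  set N := Subgroup.normalizer (τ.I K : Set τ.L)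
  have hle : τ.I K ≤ N := Subgroup.le_normalizer
  have := τ.finite_L
  have hprod := Subgroup.relIndex_mul_index hle
  rw [hI] at hprod
  rcases Nat.prime_three.eq_one_or_self_of_dvd N.index (Dvd.intro_left _ hprod) with h | h
  · exfalso
    have hnormal : (τ.I K).Normal := Subgroup.normalizer_eq_top_iff.1 (Subgroup.index_eq_one.1 h)
    refine hIe ((Subgroup.closure_le _).2 ?_)
    rintro _ ⟨e, u, he, hu, rfl⟩
    set y : τ.L := ⟨sO he hu, τ.eo_le_L (sO_mem_eo he hu)⟩
    refine ⟨y, ?_, rfl⟩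
    have hy2 : y * y = 1 := Subtype.ext (by
      show sO he hu * sO he hu = 1
      rw [sO_mul, sO_congr he _ (show polar τ.QW e (0 : τ.W) = 0 by simp [polar])
        (by rw [← two_smul F u, two_eq_zero_of_card hq, zero_smul]), sO_zero])
    have h3 : y ^ 3 ∈ τ.I K := by
      rw [← hI]
      exact Subgroup.pow_index_mem _ _
    rwa [show y ^ 3 = y by rw [pow_succ, pow_two, hy2, one_mul]] at h3
  · rw [h] at hprod
    have h1 : (τ.I K).relIndex N = 1 := by omega
    exact Subgroup.relIndex_eq_one.1 h1 hN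

end LF

end Cfsg.Agent.MinIndexForm.O
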