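import Cfsg.Agent.MinIndexForm.O.PlusFour
import Cfsg.Agent.MinIndexForm.O.OddThree

/-!
The minimal index of the orthogonal groups of plus type over the field with two elements.
-/

set_option autoImplicit false

namespace Cfsg.Agent.MinIndexForm.O

open Cfsg.Agent.Classical Cfsg.Agent.Classical.Quad Module QuadraticMap Matrix
open scoped MatrixGroups

universe uF uV

variable {F : Type uF} [Field F] [Finite F]

section Orbit

variable {U : Type uV} [AddCommGroup U] [Module F U] [FiniteDimensional F U] {R : QuadraticForm F U}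

/-- A subspace with at most three singular points has an orbit of size at least the number of points. -/
theorem card_orbit_of_points (hR : (polarBilin R).Nondegenerate) (hd : 5 ≤ finrank F U) (hq : Nat.card F = 2)
    (hN : Nat.card (SPt R) = 35) (X : Submodule F U) {x0 : U} (hx0 : x0 ≠ 0) (hxs : R x0 = 0) (hxX : x0 ∈ X)
    (h3 : Nat.card {x : U // x ∈ X ∧ x ≠ 0 ∧ R x = 0} ≤ 3) :
    35 ≤ Nat.card {X' : Submodule F U // ∃ l ∈ eo R, X' = X.map (l.1 : U →ₗ[F] U)} := by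
  classical
  have : Finite U := Module.finite_of_finite F
  have : Finite (Submodule F U) := Finite.of_injective _ SetLike.coe_injective
  have := finite_eo (Q := R)
  let St : Subgroup (eo R) :=
    { carrier := {l | ∀ x ∈ X, l.1.1 x ∈ X}
      one_mem' := fun x hx => hx
      mul_mem' := fun {a b} ha hb x hx => ha _ (hb x hx)
      inv_mem' := fun {a} ha x hx => by
        have hmap : X.map (a.1.1 : U →ₗ[F] U) = X :=
          Submodule.eq_of_le_of_finrank_eq (Submodule.map_le_iff_le_comap.2 ha)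
            (Submodule.equivMapOfInjective _ a.1.1.injective _).finrank_eq.symm
        rw [← hmap] at hx
        obtain ⟨y, hy, rfl⟩ := hx
        show (a⁻¹).1.1 (a.1.1 y) ∈ X
        rw [inv_apply_eo]; exact hy }
  have hfix : ∀ k ∈ Pt (Q := R) x0, k.1.1 x0 = x0 := fun k ⟨a, ha⟩ => by
    rcases eq_bits hq (a : F) with h | h
    · exact absurd h a.ne_zero
    · rw [ha, h, one_smul]
  set Rel : eo R → Prop := fun g => g.1.1 x0 ∈ X
  have hdc := SU.double_count St (Pt (Q := R) x0) Rel (fun h hh g => by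
      show (h * g).1.1 x0 ∈ X ↔ g.1.1 x0 ∈ X
      rw [mul_apply_eo]
      refine ⟨fun hm => ?_, fun hm => hh _ hm⟩
      have := St.inv_mem hh _ hm
      rwa [inv_apply_eo] at this)
    (fun k hk g => by
      show (g * k).1.1 x0 ∈ X ↔ g.1.1 x0 ∈ X
      rw [mul_apply_eo, hfix k hk])
  rw [index_Pt hR hd hx0 hxs, hN] at hdc
  have hs : Nat.card {p : eo R ⧸ Pt (Q := R) x0 // Rel p.out} ≤ 3 := by
    refine le_trans (Nat.card_le_card_of_injective (fun p => (⟨p.1.out.1.1 x0, p.2,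
      fun h => hx0 (p.1.out.1.1.map_eq_zero_iff.1 h), by rw [p.1.out.1.2, hxs]⟩ :
      {x : U // x ∈ X ∧ x ≠ 0 ∧ R x = 0})) fun p p' e => ?_) h3
    have e' : p.1.out.1.1 x0 = p'.1.out.1.1 x0 := congrArg Subtype.val e
    refine Subtype.ext ?_
    rw [← p.1.out_eq, ← p'.1.out_eq]
    refine QuotientGroup.eq.2 ⟨1, ?_⟩
    rw [mul_apply_eo, ← e', inv_apply_eo, Units.val_one, one_smul]
  have hs1 : 0 < Nat.card {p : eo R ⧸ Pt (Q := R) x0 // Rel p.out} := by
    have : Nonempty {p : eo R ⧸ Pt (Q := R) x0 // Rel p.out} := ⟨⟨((1 : eo R) : eo R ⧸ Pt (Q := R) x0), by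
      obtain ⟨k, hk⟩ := QuotientGroup.mk_out_eq_mul (Pt (Q := R) x0) (1 : eo R)
      show (((1 : eo R) : eo R ⧸ Pt (Q := R) x0).out).1.1 x0 ∈ X
      rw [hk, one_mul, hfix k k.2]; exact hxX⟩⟩
    exact Nat.card_pos
  have hle : St.index ≤ Nat.card {X' : Submodule F U // ∃ l ∈ eo R, X' = X.map (l.1 : U →ₗ[F] U)} := by
    refine Nat.card_le_card_of_injective (fun c => ⟨_, c.out.1, c.out.2, rfl⟩) fun c c' e => ?_
    have e' : X.map (c.out.1.1 : U →ₗ[F] U) = X.map (c'.out.1.1 : U →ₗ[F] U) := congrArg Subtype.val e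
    rw [← c.out_eq, ← c'.out_eq]
    refine QuotientGroup.eq.2 fun x hx => ?_
    obtain ⟨y, hy, hyx⟩ := e' ▸ Submodule.mem_map_of_mem (f := (c'.out.1.1 : U →ₗ[F] U)) hx
    show (c.out⁻¹ * c'.out).1.1 x ∈ X
    rw [mul_apply_eo, ← show c.out.1.1 y = c'.out.1.1 x from hyx, inv_apply_eo]
    exact hy
  refine le_trans ?_ hle
  have hpos : 0 < St.index := Nat.pos_of_ne_zero Subgroup.index_ne_zero_of_finite
  have h35 : 35 ∣ St.index * Nat.card {p : eo R ⧸ Pt (Q := R) x0 // Rel p.out} := ⟨_, hdc⟩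
  generalize Nat.card {p : eo R ⧸ Pt (Q := R) x0 // Rel p.out} = s at hs hs1 h35
  have hco : Nat.Coprime 35 s := by interval_cases s <;> norm_num
  exact Nat.le_of_dvd hpos (hco.dvd_of_dvd_mul_right h35)

end Orbit

variable {V : Type uV} [AddCommGroup V] [Module F V] [FiniteDimensional F V] {Q : QuadraticForm F V}

/-- A point whose transformations in the subgroup form a subspace of co-dimension three gives a large index. -/
theorem index_ge_of_subspace (hq : Nat.card F = 2) (H : Subgroup (eo Q)) {g : eo Q} {y f : V}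
    (hy : Q y = 0) (hf : Q f = 0) (hyf : polar Q y f = 1) (X : Submodule F (perpPair Q y f)) {c : ℕ}
    (hc : finrank F (perpPair Q y f) = finrank F X + c)
    (hX : ∀ u : perpPair Q y f, E Q y (u : V) ∈ conjO g H ↔ u ∈ X) :
    Nat.card {X' : Submodule F (perpPair Q y f) //
      ∃ l ∈ eo (restrictPair Q y f), X' = X.map (l.1 : perpPair Q y f →ₗ[F] perpPair Q y f)} * 2 ^ c ≤ H.index := by
  classical
  have : Finite V := Module.finite_of_finite F
  have := finite_eo (Q := Q)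
  set O := {X' : Submodule F (perpPair Q y f) // ∃ l ∈ eo (restrictPair Q y f), X' = X.map (l.1 : (perpPair Q y f) →ₗ[F] (perpPair Q y f))}
  have hu : ∀ u : (perpPair Q y f), polar Q y (u : V) = 0 := fun u => (mem_perpPair.1 u.2).1
  have hlift : ∀ o : O, ∃ k : eo Q, ∀ u : (perpPair Q y f), E Q y (u : V) ∈ conjO k H ↔ u ∈ o.1 := fun o => by
    obtain ⟨l, hl, ho⟩ := o.2
    obtain ⟨k, k1, -, k3⟩ := extend_pair hy hf l hl
    refine ⟨k * g, fun u => ?_⟩
    obtain ⟨u0, rfl⟩ := l.1.surjective u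
    have e : E Q y ((l.1 u0 : (perpPair Q y f)) : V) = k * E Q y (u0 : V) * k⁻¹ := by rw [conj_E k hy (hu u0), k1, k3]
    rw [e, ← conjO_conjO, mem_conjO (g := k), show k⁻¹ * (k * E Q y (u0 : V) * k⁻¹) * k = E Q y (u0 : V) by group,
      hX, ho]
    refine ⟨fun h => ⟨u0, h, rfl⟩, fun ⟨x, hx, hxe⟩ => ?_⟩
    exact (l.1.injective hxe : x = u0) ▸ hx
  choose k hk using hlift
  have hmove : ∀ (o : O) (v u : (perpPair Q y f)), E Q y (u : V) ∈ conjO (E Q y (v : V) * k o) H ↔ u ∈ o.1 := fun o v u => by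
    rw [← conjO_conjO, mem_conjO (g := E Q y (v : V)), ← hk o u]
    rw [E_inv hy (hu v), E_add hy (polar_perp_neg (hu v)) (hu u),
      E_add hy (polar_perp_add (polar_perp_neg (hu v)) (hu u)) (hu v), neg_add_cancel_comm]
  have hcomp : ∀ o : O, ∃ φ : (Fin c → F) →ₗ[F] (perpPair Q y f), ∀ v, φ v ∈ o.1 → v = 0 := fun o => by
    obtain ⟨C, hC⟩ := Submodule.exists_isCompl o.1
    have h1 := Submodule.finrank_add_eq_of_isCompl hC
    obtain ⟨l, -, ho⟩ := o.2
    have h2 : finrank F o.1 = finrank F X := by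
      rw [ho]; exact (Submodule.equivMapOfInjective _ l.1.injective X).finrank_eq.symm
    rw [h2] at h1
    let b := finBasisOfFinrankEq F C (show finrank F C = c by omega)
    refine ⟨C.subtype ∘ₗ b.equivFun.symm.toLinearMap, fun v hv => ?_⟩
    have hbot : ((b.equivFun.symm v : C) : (perpPair Q y f)) ∈ o.1 ⊓ C := ⟨hv, (b.equivFun.symm v).2⟩
    rw [hC.inf_eq_bot, Submodule.mem_bot] at hbot
    exact b.equivFun.symm.map_eq_zero_iff.1 (Subtype.ext hbot)
  choose φ hφ using hcomp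
  have hout : ∀ g : eo Q, conjO (g : eo Q ⧸ H).out H = conjO g H := fun g => by
    obtain ⟨k, hk⟩ := QuotientGroup.mk_out_eq_mul H g
    rw [hk, conjO_mul_mem g k.2]
  rw [show (2 : ℕ) ^ c = Nat.card (Fin c → F) by rw [Nat.card_fun, Nat.card_fin, hq], ← Nat.card_prod]
  refine Nat.card_le_card_of_injective
    (fun ov : O × (Fin c → F) => ((E Q y ((φ ov.1 ov.2 : (perpPair Q y f)) : V) * k ov.1 : eo Q) : eo Q ⧸ H)) ?_
  rintro ⟨o, v⟩ ⟨o', v'⟩ e
  have hK := congrArg (fun x : eo Q ⧸ H => conjO x.out H) e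
  simp only [hout] at hK
  have hoo : o = o' := Subtype.ext (Submodule.ext fun u => by
    rw [← hmove o (φ o v) u, hK, hmove o' (φ o' v') u])
  subst hoo
  refine Prod.ext rfl ?_
  have hm := QuotientGroup.eq.1 e
  rw [_root_.mul_inv_rev, E_inv hy (hu _), show (k o)⁻¹ * E Q y (-((φ o v : (perpPair Q y f)) : V)) *
    (E Q y ((φ o v' : (perpPair Q y f)) : V) * k o) = (k o)⁻¹ * (E Q y (-((φ o v : (perpPair Q y f)) : V)) *
    E Q y ((φ o v' : (perpPair Q y f)) : V)) * k o by group, E_add hy (polar_perp_neg (hu _)) (hu _),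
    ← mem_conjO, ← Submodule.coe_neg, ← Submodule.coe_add, hk, ← map_neg, ← map_add] at hm
  exact neg_add_eq_zero.1 (hφ o _ hm)

namespace LF

variable (τ : LF Q) (K : Subgroup (eo Q))

/-- The second configuration has large index. -/
theorem beta_two (hq : Nat.card F = 2) (h8 : finrank F V = 8) (hp : OrthElem.Plus Q ⊤) {Z : Submodule F τ.W}
    (hβ : τ.BetaBad K Z) : 120 ≤ K.index := by
  classical
  have : Finite V := Module.finite_of_finite F
  have htwo := two_eq_zero_of_card hq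
  have hneg : ∀ r : F, -r = r := fun r => by linear_combination (-r) * htwo
  -- removing the central part on the vectors at the first point
  obtain ⟨h4, h2, hZb, hTS, hS, hl, -⟩ := id hβ
  have hZ0 : ∀ c, τ.z c ∈ K → c = 0 := fun c hc => by rwa [← mem_Zp, hZb, AddSubgroup.mem_bot] at hc
  choose cf hcf using fun a : Z => (hS (a : τ.W) 0).2 ⟨a.2, Z.zero_mem⟩
  have hadd : ∀ a a', cf (a + a') = cf a + cf a' := fun a a' => by
    have h := K.mul_mem (K.mul_mem (hcf a) (hcf a')) (K.inv_mem (hcf (a + a')))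
    rw [τ.qe_mul, τ.qe_inv, τ.qe_mul, add_zero, neg_zero, add_zero, Submodule.coe_add, add_neg_cancel, τ.qe_z] at h
    have := hZ0 _ h
    simp only [Submodule.coe_zero, polar_zero_left', add_zero] at this
    exact (eq_of_sub_eq_zero (by rwa [← sub_eq_add_neg] at this)).symm
  let φ : Z →ₗ[F] F := smallLinear (by omega) (AddMonoidHom.mk' (fun a => -cf a) fun a a' => by rw [hadd, neg_add])
  obtain ⟨ψ, hψ⟩ := LinearMap.exists_extend φ
  set x : τ.W := (LinearMap.BilinForm.toDual (polarBilin τ.QW) τ.nondeg_W).symm ψ with hx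
  have hxa : ∀ a : Z, polar τ.QW x a = -cf a := fun a => by
    have e1 : polar τ.QW x a = ψ a :=
      LinearMap.BilinForm.apply_toDual_symm_apply (hB := τ.nondeg_W) ψ (a : τ.W)
    rw [e1]
    exact LinearMap.congr_fun hψ a
  have hβ' := τ.betaBad_conj_qe K hβ 0 x
  set g := τ.qe 0 x 0
  have hE0 : ∀ a : Z, E Q τ.y1 ((a : τ.W) : V) ∈ conjO g K := fun a => by
    have : g * τ.qe (a : τ.W) 0 (cf a) * g⁻¹ ∈ conjO g K := ⟨_, hcf a, rfl⟩
    rw [τ.qe_inv, τ.qe_mul, τ.qe_mul] at this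
    simp only [zero_add, add_zero, neg_zero, add_neg_cancel, Submodule.coe_zero, polar_zero',
      ← τ.polar_QW, hxa, add_neg_cancel] at this
    rwa [τ.qe_one] at this
  set K' := conjO g K with hK'
  obtain ⟨-, -, hZb', -, hS', hl', -⟩ := hβ'
  have hZ' : ∀ c, τ.z c ∈ K' → c = 0 := fun c hc => by rwa [← mem_Zp, hZb', AddSubgroup.mem_bot] at hc
  have hE1 : ∀ a ∈ Z, E Q τ.y1 ((a : τ.W) : V) ∈ K' := fun a ha => hE0 ⟨a, ha⟩
  have hperp : ∀ s : τ.W, (∀ a ∈ Z, polar τ.QW s a = 0) → s ∈ Z := fun s hs => by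
    let B : LinearMap.BilinForm F τ.W := polarBilin τ.QW
    have hle : Z ≤ B.orthogonal Z := fun x hx y hy => polar_of_ts hTS hy hx
    have hdim := LinearMap.BilinForm.finrank_orthogonal (B := B) τ.nondeg_W Z
    have heq : Z = B.orthogonal Z := Submodule.eq_of_le_of_finrank_eq hle (by omega)
    rw [heq]
    exact fun y hy => by
      show polar τ.QW y s = 0
      rw [polar_comm]; exact hs y hy
  -- the transformation towards the second pair
  obtain ⟨u, hu, eu, hul⟩ := hl' (up 1)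
  have hU1 := τ.U1_mem (1 : F)
  have hP2 : ((⟨_, hU1.1⟩ : τ.P1)⁻¹ * u).1 ∈ τ.P2 := τ.P2_of_mat ((⟨_, hU1.1⟩ : τ.P1)⁻¹ * u).2.1
    (congrArg Subtype.val (show τ.sl ((⟨_, hU1.1⟩ : τ.P1)⁻¹ * u) = 1 by
      rw [map_mul, map_inv, eu, inv_mul_eq_one]
      exact Subtype.ext (by rw [τ.sl_coe, τ.U1_mat, up_coe])))
  obtain ⟨c, hc⟩ := τ.eq_qe hP2 (fun w => τ.lam_one_iff.1
    (show τ.lam ((⟨_, hU1.1.1⟩ : τ.P)⁻¹ * ⟨u.1, u.2.1⟩) = 1 by
      rw [map_mul, map_inv, hul, τ.lam_M hU1, inv_one, one_mul]) w)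
  set s1 := (τ.vecOf ((⟨_, hU1.1⟩ : τ.P1)⁻¹ * u).1).1
  set s2 := (τ.vecOf ((⟨_, hU1.1⟩ : τ.P1)⁻¹ * u).1).2
  have huq : u.1 = E Q τ.y1 ((1 : F) • τ.f2) * τ.qe s1 s2 c := by
    rw [← hc]
    show u.1 = E Q τ.y1 ((1 : F) • τ.f2) * ((E Q τ.y1 ((1 : F) • τ.f2))⁻¹ * u.1)
    group
  have hs2 : s2 ∈ Z := hperp _ fun a ha => by
    refine hZ' _ ?_
    have hcom : E Q τ.y1 ((1 : F) • τ.f2) * E Q τ.y1 (a : V) * (E Q τ.y1 ((1 : F) • τ.f2))⁻¹ = E Q τ.y1 (a : V) := by
      rw [E_add τ.hy1 (τ.U1_hw 1) (τ.By1 a), E_inv τ.hy1 (τ.U1_hw 1),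
        E_add τ.hy1 (polar_perp_add (τ.U1_hw 1) (τ.By1 a)) (polar_perp_neg (τ.U1_hw 1))]
      congr 1; abel
    have hz : E Q τ.y1 ((1 : F) • τ.f2) * τ.z (polar τ.QW s2 a) * (E Q τ.y1 ((1 : F) • τ.f2))⁻¹ =
        τ.z (polar τ.QW s2 a) := by
      rw [← τ.z_comm1 (τ.U1_hw 1), mul_inv_cancel_right]
    have hcomm : τ.qe s1 s2 c * E Q τ.y1 (a : V) * (τ.qe s1 s2 c)⁻¹ =
        E Q τ.y1 (a : V) * τ.z (polar τ.QW s2 a) := by
      rw [← τ.qe_one, τ.qe_inv, τ.qe_mul, τ.qe_mul, ← τ.qe_z, τ.qe_mul, τ.polar_QW]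
      simp only [polar_zero', polar_zero_left', add_zero, zero_add, Submodule.coe_zero, Submodule.coe_neg,
        polar_neg_right]
      congr 1 <;> [abel; abel; ring]
    have h1 := K'.mul_mem (K'.mul_mem hu (hE1 a ha)) (K'.inv_mem hu)
    rw [huq, show E Q τ.y1 ((1 : F) • τ.f2) * τ.qe s1 s2 c * E Q τ.y1 (a : V) *
        (E Q τ.y1 ((1 : F) • τ.f2) * τ.qe s1 s2 c)⁻¹ = E Q τ.y1 ((1 : F) • τ.f2) *
        (τ.qe s1 s2 c * E Q τ.y1 (a : V) * (τ.qe s1 s2 c)⁻¹) * (E Q τ.y1 ((1 : F) • τ.f2))⁻¹ by group, hcomm,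
      show E Q τ.y1 ((1 : F) • τ.f2) * (E Q τ.y1 (a : V) * τ.z (polar τ.QW s2 a)) *
        (E Q τ.y1 ((1 : F) • τ.f2))⁻¹ = (E Q τ.y1 ((1 : F) • τ.f2) * E Q τ.y1 (a : V) *
        (E Q τ.y1 ((1 : F) • τ.f2))⁻¹) * (E Q τ.y1 ((1 : F) • τ.f2) * τ.z (polar τ.QW s2 a) *
        (E Q τ.y1 ((1 : F) • τ.f2))⁻¹) by group, hcom, hz, K'.mul_mem_cancel_left (hE1 a ha)] at h1
    exact h1
  obtain ⟨d, hd⟩ : ∃ d : F, E Q τ.y1 (τ.f2 + d • τ.y2) ∈ K' := by
    have hs1 : s1 ∈ Z := hperp _ fun a ha => by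
      by_contra hne
      obtain ⟨cc, hcc⟩ := (hS' 0 a).2 ⟨Z.zero_mem, ha⟩
      have h1 := K'.mul_mem (K'.mul_mem hu hcc) (K'.inv_mem hu)
      rw [huq, show E Q τ.y1 ((1 : F) • τ.f2) * τ.qe s1 s2 c * τ.qe 0 a cc *
          (E Q τ.y1 ((1 : F) • τ.f2) * τ.qe s1 s2 c)⁻¹ = E Q τ.y1 ((1 : F) • τ.f2) *
          (τ.qe s1 s2 c * τ.qe 0 a cc * (τ.qe s1 s2 c)⁻¹) * (E Q τ.y1 ((1 : F) • τ.f2))⁻¹ by group,
        show τ.qe s1 s2 c * τ.qe 0 a cc * (τ.qe s1 s2 c)⁻¹ = τ.qe 0 a (cc + (-polar τ.QW s1 a)) by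
          rw [τ.qe_inv, τ.qe_mul, τ.qe_mul, τ.polar_QW, polar_comm Q (s1 : V) (a : V)]
          simp only [polar_zero', Submodule.coe_add, Submodule.coe_zero, Submodule.coe_neg, polar_neg_right,
            polar_add_left, add_zero]
          congr 1 <;> [abel; abel; ring]] at h1
      have haQ : Q (a : V) = 0 := hTS a ha
      have hU2 : (E Q τ.y1 ((1 : F) • τ.f2)).1.1 τ.y2 = τ.y1 + τ.y2 := by
        rw [E_apply τ.hy1 (τ.U1_hw 1), one_smul, τ.h22, τ.hyy', τ.hf2]
        match_scalars <;> first | ring | linear_combination htwo | linear_combination -htwo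
      have hUa : (E Q τ.y1 ((1 : F) • τ.f2)).1.1 (a : V) = (a : V) := by
        rw [E_apply τ.hy1 (τ.U1_hw 1), one_smul, τ.Wf2, τ.Wy1]
        simp
      have hexact : ∀ t : F, E Q τ.y1 ((1 : F) • τ.f2) * τ.qe 0 a t * (E Q τ.y1 ((1 : F) • τ.f2))⁻¹ = τ.qe a a t := by
        intro t
        rw [qe, qe, Submodule.coe_zero, E_zero, one_mul,
          show E Q τ.y1 ((1 : F) • τ.f2) * (E Q τ.y2 (a : V) * τ.z t) * (E Q τ.y1 ((1 : F) • τ.f2))⁻¹ =
            (E Q τ.y1 ((1 : F) • τ.f2) * E Q τ.y2 (a : V) * (E Q τ.y1 ((1 : F) • τ.f2))⁻¹) *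
            (E Q τ.y1 ((1 : F) • τ.f2) * τ.z t * (E Q τ.y1 ((1 : F) • τ.f2))⁻¹) by group,
          τ.M_z hU1, conj_E _ τ.hy2 (τ.By2 a), hU2, hUa, E_add_left τ.hy1 τ.hy2 τ.hyy (τ.By1 a) (τ.By2 a), haQ,
          zero_smul, E_zero, mul_one]
      rw [hexact] at h1
      have h2' := K'.mul_mem (K'.inv_mem (K'.mul_mem (hE1 a ha) hcc)) h1
      rw [← τ.qe_one, τ.qe_mul, τ.qe_inv, τ.qe_mul, add_zero, zero_add, neg_add_cancel, τ.qe_z] at h2'
      have hv := hZ' _ h2'
      have hap : polar Q (a : V) (a : V) = 0 := polar_of_ts (fun w hw => hTS w hw) ha ha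
      simp only [Submodule.coe_zero, polar_zero', polar_zero_left', Submodule.coe_neg, polar_neg_left, polar_neg_right,
        hap, neg_zero, add_zero, zero_add] at hv
      exact hne (by linear_combination -hv)
    obtain ⟨c', hc'⟩ := (hS' s1 s2).2 ⟨hs1, hs2⟩
    refine ⟨c - c', ?_⟩
    have h1 := K'.mul_mem hu (K'.inv_mem hc')
    rw [huq, mul_assoc, show τ.qe s1 s2 c * (τ.qe s1 s2 c')⁻¹ = τ.z (c - c') by
      rw [τ.qe_inv, τ.qe_mul, add_neg_cancel, add_neg_cancel, τ.qe_z]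
      congr 1
      simp [polar_neg_right]; ring, z, E_add τ.hy1 (τ.U1_hw 1) (τ.hz _), one_smul] at h1
    exact h1
  have hw0 : polar Q τ.y1 (τ.f2 + d • τ.y2) = 0 := polar_perp_add τ.h12 (τ.hz d)
  -- the subspace at the first point
  have hUd := finrank_perpPair (Q := Q) τ.hy1 τ.hf1 τ.h11
  set U := perpPair Q τ.y1 τ.f1 with hU
  have hf2U : τ.f2 + d • τ.y2 ∈ U := mem_perpPair.2 ⟨hw0, by
    rw [polar_add_right, polar_smul_right, τ.hff, τ.h21', smul_zero, add_zero]⟩
  have hWU : ∀ a : τ.W, (a : V) ∈ U := fun a => mem_perpPair.2 ⟨τ.By1 a, τ.Bf1 a⟩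
  let ι : F × Z →ₗ[F] U :=
    { toFun := fun p => ⟨p.1 • (τ.f2 + d • τ.y2) + ((p.2 : τ.W) : V),
        U.add_mem (U.smul_mem _ hf2U) (hWU _)⟩
      map_add' := fun p p' => Subtype.ext (by simp [add_smul]; abel)
      map_smul' := fun r p => Subtype.ext (by simp [smul_add, smul_smul, mul_assoc]) }
  have hιinj : Function.Injective ι := by
    rw [← LinearMap.ker_eq_bot, LinearMap.ker_eq_bot']
    intro p hp0
    have h' : p.1 • (τ.f2 + d • τ.y2) + ((p.2 : τ.W) : V) = 0 := congrArg Subtype.val hp0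
    have hr : p.1 = 0 := by
      have := congrArg (polar Q τ.y2) h'
      simpa [polar_add_right, polar_smul_right, τ.h22, τ.s22, τ.By2, polar_zero'] using this
    rw [hr, zero_smul, zero_add] at h'
    exact Prod.ext hr (Subtype.ext (Subtype.ext h'))
  set X := LinearMap.range ι with hX
  have hXd : finrank F X = 3 := by
    rw [hX, LinearMap.finrank_range_of_inj hιinj, Module.finrank_prod, Module.finrank_self, h2]
  have hmain := index_ge_of_subspace hq K τ.hy1 τ.hf1 τ.h11 X (c := 3) (show finrank F U = _ by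
      rw [hXd]; omega) (g := g) (fun w => by
    set a := τ.pr (w : V) with ha
    set t := polar Q τ.f2 (w : V)
    set r := polar Q τ.y2 (w : V)
    have hwy := mem_perpPair.1 w.2
    have e : (w : V) = (a : V) + r • τ.f2 + t • τ.y2 := by
      conv_lhs => rw [τ.decomp (w : V), hwy.1, hwy.2]
      simp [ha, t, r]; abel
    have hr : polar Q τ.y1 (r • (τ.f2 + d • τ.y2)) = 0 := polar_perp_smul hw0 r
    have hUr : E Q τ.y1 (r • (τ.f2 + d • τ.y2)) ∈ K' := by
      rcases eq_bits hq r with h | h <;> rw [h]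
      · rw [zero_smul, E_zero]; exact K'.one_mem
      · rw [one_smul]; exact hd
    have hk : E Q τ.y1 (w : V) = E Q τ.y1 (r • (τ.f2 + d • τ.y2)) * τ.qe a 0 (t - r * d) := by
      rw [qe, Submodule.coe_zero, E_zero, mul_one, z, E_add τ.hy1 (τ.By1 a) (τ.hz _),
        E_add τ.hy1 hr (polar_perp_add (τ.By1 a) (τ.hz _))]
      congr 1
      rw [e]; module
    rw [← hK', hk, K'.mul_mem_cancel_left hUr]
    constructor
    · intro hm
      have haZ : a ∈ Z := ((hS' a 0).1 ⟨_, hm⟩).1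
      rw [qe, Submodule.coe_zero, E_zero, mul_one, K'.mul_mem_cancel_left (hE1 a haZ)] at hm
      have ht : t = r * d := sub_eq_zero.1 (hZ' _ hm)
      refine ⟨(r, ⟨a, haZ⟩), Subtype.ext ?_⟩
      show r • (τ.f2 + d • τ.y2) + (a : V) = (w : V)
      rw [e, ht]; module
    · rintro ⟨⟨r', a'⟩, hpa⟩
      have hw : (w : V) = r' • (τ.f2 + d • τ.y2) + ((a' : τ.W) : V) := (congrArg Subtype.val hpa).symm
      have e2 : a = a' := by
        rw [ha, hw]; simp [τ.pr_f2, τ.pr_y2, τ.pr_W]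
      have e1 : t = r * d := by
        simp only [t, r, hw, polar_add_right, polar_smul_right, τ.t22, τ.h22', τ.h22, τ.s22, τ.Bf2, τ.By2,
          smul_eq_mul, mul_one, mul_zero, add_zero, zero_add]
      rw [qe, Submodule.coe_zero, E_zero, mul_one, e1, sub_self, τ.z_zero, mul_one, e2]
      exact hE1 _ a'.2)
  refine le_trans ?_ hmain
  have hUn := nondeg_restrictPair τ.hQ τ.hy1 τ.hf1 τ.h11
  have hU6 : finrank F U = 6 := by omega
  set R := restrictPair Q τ.y1 τ.f1 with hR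
  have hval : ∀ p : F × Z, R (ι p) = p.1 * p.1 * d := fun p => by
    show Q (p.1 • (τ.f2 + d • τ.y2) + ((p.2 : τ.W) : V)) = _
    have hz : Q ((p.2 : τ.W) : V) = 0 := hTS _ p.2.2
    rw [map_add', Quad.map_smul', map_add_smul, τ.hf2, τ.hy2, τ.h22', hz, polar_smul_left, polar_add_left,
      polar_smul_left, τ.Bf2, τ.By2]
    simp
  rcases eq_bits hq d with hd0 | hd1
  · have := card_plane_orbit hUn hU6 X (fun x hx => by
      obtain ⟨p, rfl⟩ := hx
      rw [hval, hd0, mul_zero]) hXd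
    rw [hq] at this
    omega
  · have hN : Nat.card (SPt R) = 35 := by
      have := Fintype.ofFinite F
      have hz := OrthElem.zcard_plus_eq τ.hQ (k := 3) (by rw [h8]) hp
      rw [← zcard_pts, Nat.add_sub_cancel, ← Nat.card_eq_fintype_card, hq] at hz
      have hrec : Nat.card (SPt Q) = Nat.card F * Nat.card (SPt R) + Nat.card F ^ 6 + 1 :=
        pts_rec τ.hy1 τ.hf1 τ.h11 hU6
      rw [hq] at hrec
      norm_num at hz hrec
      omega
    have : Nontrivial Z := Module.nontrivial_of_finrank_pos (R := F) (by omega)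
    obtain ⟨z0, hz0⟩ := exists_ne (0 : Z)
    have h35 := card_orbit_of_points hUn (show 5 ≤ finrank F U by omega) hq hN X (x0 := ι (0, z0))
      (fun h => hz0 (congrArg Prod.snd (hιinj (h.trans (map_zero ι).symm))))
      (by rw [hval, mul_zero, zero_mul]) ⟨_, rfl⟩ (by
        have : Finite Z := Module.finite_of_finite F
        refine le_trans (Nat.card_le_card_of_surjective
          (fun z : {z : Z // z ≠ 0} => (⟨ι (0, z.1), ⟨_, rfl⟩,
            fun h => z.2 (congrArg Prod.snd (hιinj (h.trans (map_zero ι).symm))), by rw [hval, mul_zero, zero_mul]⟩ :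
            {x : U // x ∈ X ∧ x ≠ 0 ∧ R x = 0})) ?_) ?_
        · rintro ⟨x, ⟨⟨r, z⟩, rfl⟩, hx0, hxs⟩
          rw [hval, hd1, mul_one, mul_self_eq_zero] at hxs
          obtain rfl : r = 0 := hxs
          exact ⟨⟨z, fun h => hx0 (by rw [h]; exact map_zero ι)⟩, rfl⟩
        · have : Fintype Z := Fintype.ofFinite Z
          rw [Nat.card_eq_fintype_card, Fintype.card_subtype_compl, Fintype.card_subtype_eq, ← Nat.card_eq_fintype_card,
            Module.natCard_eq_pow_finrank (K := F) (V := Z), h2, hq]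
          norm_num)
    omega

end LF

/-- The bound in dimension eight at a line. -/
theorem LF.bound_eight (τ : LF Q) (hq : Nat.card F = 2) (h8 : finrank F V = 8) (hp : OrthElem.Plus Q ⊤)
    (K : Subgroup (eo Q)) (hZ : τ.Zp K ≠ ⊤) :
    120 ≤ K.index ∨ ∃ r, τ.AlphaBad K r := by
  classical
  have hd : finrank F τ.W = 4 := by have := τ.finrank_W; omega
  have hN : 120 ≤ Nat.card F ^ (4 + 1) * (Nat.card F + 2) := by rw [hq]; norm_num
  by_cases hI : eo τ.QW ≤ (τ.I K).map τ.L.subtype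
  · exact τ.alpha_case K h8 (by omega) (by norm_num) hN hZ hI
  left
  have htz := τ.tz_ge K hZ
  have hw := τ.S_index_ge K hd hZ
  rw [hq] at htz hw
  norm_num at hw
  have hJ1 := τ.one_le_J K
  have key : ∀ b c e : ℕ, b ≤ (τ.J K).index → c ≤ (τ.I K).index → e ≤ (τ.S K).index → 120 ≤ 2 * b * c * e →
      120 ≤ K.index := fun b c e hb hc he h =>
    h.trans (τ.index_ge_of K h8 (by omega) (show 8 = 4 + 4 by rfl) htz hb hc he)
  have := τ.finite_L
  have hi2 : 2 ≤ (τ.I K).index := by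
    have := τ.one_le_I K
    rcases Nat.lt_or_ge (τ.I K).index 2 with h | h
    · refine absurd ?_ hI
      rw [Subgroup.index_eq_one.1 (show (τ.I K).index = 1 by omega), ← MonoidHom.range_eq_map,
        Subgroup.range_subtype]
      exact τ.eo_le_L
    · exact h
  by_cases hbig : 4 ≤ (τ.J K).index * (τ.I K).index
  · refine key _ _ 16 le_rfl le_rfl hw ?_
    calc 120 ≤ 2 * 4 * 16 := by norm_num
      _ ≤ 2 * ((τ.J K).index * (τ.I K).index) * 16 := by gcongr
      _ = _ := by ring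
  have hJ : τ.J K = ⊤ := Subgroup.index_eq_one.1 (by
    by_contra h
    have := Nat.mul_le_mul (show 2 ≤ (τ.J K).index by omega) hi2
    omega)
  have hI3 : (τ.I K).index ≤ 3 := by rw [hJ, Subgroup.index_top, one_mul] at hbig; omega
  have hZb : τ.Zp K = ⊥ := by
    rw [AddSubgroup.eq_bot_iff_forall]
    intro c hc
    rcases eq_bits hq c with rfl | rfl
    · rfl
    · exfalso
      refine hZ ((AddSubgroup.eq_top_iff' _).2 fun x => ?_)
      rcases eq_bits hq x with rfl | rfl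
      · exact AddSubgroup.zero_mem _
      · exact hc
  rcases (show (τ.I K).index = 2 ∨ (τ.I K).index = 3 by omega) with h | h
  · refine key 1 2 256 hJ1 (by omega) (le_of_eq ?_) (by norm_num)
    rw [τ.case_two K hq h8 hp hJ h hZb, AddSubgroup.index_bot, τ.card_WW hd, hq]
    norm_num
  · rcases τ.beta_of_lifts K h8 (by omega) (show 8 = 4 + 4 by rfl) hN hZ hi2 (by omega)
      (τ.lifts_three K hq hJ h hI) with h' | ⟨Z, hZ'⟩
    · exact h'
    · exact τ.beta_two K hq h8 hp hZ'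

/-- The bound for the isometry group. -/
theorem index_bound_plus (hQ : (polarBilin Q).Nondegenerate) (hq : Nat.card F = 2) {k : ℕ} (hk : 3 ≤ k)
    (hd : finrank F V = 2 * (k + 1)) (hp : OrthElem.Plus Q ⊤) (H : Subgroup (eo Q)) (hH : H ≠ ⊤) :
    2 ^ k * (2 ^ (k + 1) - 1) ≤ H.index := by
  have := Fintype.ofFinite F
  have hz := OrthElem.zcard_plus_eq hQ hd hp
  rw [← zcard_pts, Nat.add_sub_cancel, ← Nat.card_eq_fintype_card, hq] at hz
  set X := 2 ^ k with hXd
  have hX1 : 1 ≤ X := Nat.one_le_pow _ _ (by omega)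
  obtain ⟨r, hr⟩ := Nat.exists_eq_add_of_le' hX1
  have hT : X * (2 ^ (k + 1) - 1) + X = 2 * (X * X) := by
    rw [pow_succ', ← hXd, hr, show 2 * (r + 1) - 1 = 2 * r + 1 by omega]; ring
  have hz' : Nat.card (SPt Q) + 1 = 2 * (X * X) + X := by
    rw [pow_succ', ← hXd, hr, show 2 * (r + 1) - 1 = 2 * r + 1 by omega] at hz
    rw [show (2 - 1) * Nat.card (SPt Q) = Nat.card (SPt Q) by omega] at hz
    rw [hz, hr]; ring
  generalize hTd : X * (2 ^ (k + 1) - 1) = T at hT ⊢
  obtain ⟨τ, hZ⟩ := exists_line hQ (by omega) hH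
  have hbound : T ≤ Nat.card F ^ (2 * k - 2 + 1) * (Nat.card F + 2) := by
    rw [hq]
    have e : 2 ^ (2 * k - 2 + 1) * (2 + 2) = 2 * (X * X) := by
      rw [hXd, show (2 + 2 : ℕ) = 2 ^ 2 by norm_num, ← pow_add, ← pow_add, ← pow_succ']
      congr 1; omega
    rw [e]; omega
  have alpha : (∃ r, τ.AlphaBad H r) → T ≤ H.index := by
    rintro ⟨r', hr'⟩
    obtain ⟨g, hg⟩ := τ.alpha_normal H hr'
    obtain ⟨g', s, hA, hB⟩ := τ.alpha_kinds_small _ (by omega) (by omega) hg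
    rw [conjO_conjO] at hA hB
    have hQv : Q (τ.f2 + s • τ.y2) = s := by
      rw [map_add_smul, τ.hf2, τ.hy2, τ.h22']
      ring
    by_cases hs : s = 0
    · exact le_trans (by omega)
        (index_ge_of_kinds hQ (by omega) H τ.hy1 τ.y1_ne τ.hy2 τ.y2_ne (hQv.trans hs) hA hB)
    · obtain ⟨f, hf, hyf⟩ := exists_hyp_pair hQ τ.y1_ne τ.hy1
      have h := index_ge_of_kinds_aniso hQ (by omega) (by omega) H τ.hy1 τ.y1_ne τ.hy2 τ.y2_ne (by rwa [hQv]) hf hyf
        hA hB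
      have hdim := finrank_perpPair (Q := Q) τ.hy1 hf hyf
      have hU : finrank F (perpPair Q τ.y1 f) = 2 * k := by omega
      have hcnt := norm_count (R := restrictPair Q τ.y1 f) (nondeg_restrictPair hQ τ.hy1 hf hyf) (by omega) hU hs
      have hrec := pts_rec τ.hy1 hf hyf hU
      have eX : 2 ^ (2 * k) = X * X := by rw [hXd, two_mul, pow_add]
      rw [← zcard_pts, hq, eX] at hcnt
      rw [hq, eX] at hrec
      rw [hQv, Module.natCard_eq_pow_finrank (K := F) (V := perpPair Q τ.y1 f), hU, hq, eX] at h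
      change 2 * Nat.card {w : perpPair Q τ.y1 f // restrictPair Q τ.y1 f w = s} + _ ≤ _ at h
      omega
  rcases eq_or_lt_of_le hk with hk3 | hk4
  · subst hk3
    exact (τ.bound_eight hq hd hp H hZ).elim (fun h => le_trans (by rw [← hTd]; simp [X]) h) alpha
  · have hsm : ∀ I : Subgroup τ.L, ¬ eo τ.QW ≤ I.map τ.L.subtype → Nat.card F + 2 ≤ I.index := fun I hI => by
      have := τ.finite_L
      have hW := τ.finrank_W
      have hperf : commutator (eo τ.QW) = ⊤ := by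
        refine eq_top_iff.2 ?_
        rintro ⟨g, hg⟩ -
        have h := eo_le_commutator_eo τ.nondeg_W (by omega) hg
        rw [← Subgroup.map_subtype_commutator] at h
        obtain ⟨x, hx, hxg⟩ := h
        exact (Subtype.ext hxg : x = ⟨g, hg⟩) ▸ hx
      by_contra hlt
      push Not at hlt
      refine hI fun g hg => ?_
      exact ⟨⟨g, τ.eo_le_L hg⟩, range_le_of_index_le_four hperf (Subgroup.inclusion τ.eo_le_L) I
        Subgroup.index_ne_zero_of_finite (by omega) ⟨⟨g, hg⟩, rfl⟩, rfl⟩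
    rcases τ.line_cases H hd (by omega) (show 2 * (k + 1) = 2 * k - 2 + 4 by omega) hbound hZ (Or.inr hsm) with
      h | h | ⟨Z, hZb⟩
    · exact h
    · exact alpha h
    · have := τ.finrank_W
      have := hZb.1
      omega

end Cfsg.Agent.MinIndexForm.O
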