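import Cfsg.Agent.MinIndexForm.O.Types
import Cfsg.Agent.MinIndexForm.SU.Main

/-!
The number of singular points, and the bound on the index when both kinds of points occur.
-/

set_option autoImplicit false

namespace Cfsg.Agent.MinIndexForm.O

open Cfsg.Agent.Classical Cfsg.Agent.Classical.Quad Module QuadraticMap Projectivization
open scoped LinearAlgebra.Projectivization

universe uF uV

variable {F : Type uF} {V : Type uV} [Field F] [AddCommGroup V] [Module F V] {Q : QuadraticForm F V}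

theorem polar_zero' (v : V) : polar Q v 0 = 0 := by simp [polar]

theorem polar_zero_left' (v : V) : polar Q 0 v = 0 := by simp [polar]

theorem conjO_conjO (a b : eo Q) (H : Subgroup (eo Q)) : conjO a (conjO b H) = conjO (a * b) H := by
  ext x; simp [mem_conjO, mul_assoc]

theorem conjO_mul_mem (a : eo Q) {H : Subgroup (eo Q)} {h : eo Q} (hh : h ∈ H) :
    conjO (a * h) H = conjO a H := by
  ext x
  rw [mem_conjO, mem_conjO, show (a * h)⁻¹ * x * (a * h) = h⁻¹ * (a⁻¹ * x * a) * h by group]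
  exact ⟨fun hx => by simpa [mul_assoc] using H.mul_mem (H.mul_mem hh hx) (H.inv_mem hh),
    fun hx => H.mul_mem (H.mul_mem (H.inv_mem hh) hx) hh⟩

theorem conjO_one (H : Subgroup (eo Q)) : conjO 1 H = H := by ext x; simp [mem_conjO]

theorem conjO_self {H : Subgroup (eo Q)} {h : eo Q} (hh : h ∈ H) : conjO h H = H := by
  rw [← one_mul h, conjO_mul_mem 1 hh, conjO_one]

theorem hypKind_conj {K : Subgroup (eo Q)} {y v : V} (hy : Q y = 0) (h : HypKind K y v) (g : eo Q) :
    HypKind (conjO g K) (g.1.1 y) (g.1.1 v) := by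
  obtain ⟨h1, h2, h3⟩ := h
  refine ⟨fun hc => h1 ?_, by rw [polar_map_eo, h2], fun w hw => ?_⟩
  · obtain ⟨s, hs⟩ := Submodule.mem_span_singleton.1 hc
    rw [← map_smul] at hs
    exact Submodule.mem_span_singleton.2 ⟨s, g.1.1.injective hs⟩
  · set w0 := (g⁻¹).1.1 w
    have e : g.1.1 w0 = w := apply_inv_eo g w
    rw [← e] at hw ⊢
    rw [polar_map_eo] at hw
    rw [polar_map_eo, mem_conjO, ← h3 w0 hw, ← conj_E g hy hw]
    simp [mul_assoc]

theorem nilKind_conj {K : Subgroup (eo Q)} {y : V} (hy : Q y = 0) (h : NilKind K y) (g : eo Q) :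
    NilKind (conjO g K) (g.1.1 y) := fun w hw hm => by
  set w0 := (g⁻¹).1.1 w
  have e : g.1.1 w0 = w := apply_inv_eo g w
  rw [← e] at hw hm ⊢
  rw [polar_map_eo] at hw
  rw [mem_conjO, ← conj_E g hy hw] at hm
  obtain ⟨s, hs⟩ := Submodule.mem_span_singleton.1 (h w0 hw (by simpa [mul_assoc] using hm))
  exact Submodule.mem_span_singleton.2 ⟨s, by rw [← map_smul, hs]⟩

theorem hypKind_smul {K : Subgroup (eo Q)} {y v : V} {t : F} (ht : t ≠ 0) (hy : Q y = 0)
    (h : HypKind K (t • y) v) : HypKind K y v := by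
  obtain ⟨h1, h2, h3⟩ := h
  rw [polar_smul_left, smul_eq_mul] at h2
  refine ⟨fun hc => h1 ?_, (mul_eq_zero.1 h2).resolve_left ht, fun w hw => ?_⟩
  · rwa [Submodule.span_singleton_smul_eq (Ne.isUnit ht)]
  · have hw' : polar Q (t • y) (t⁻¹ • w) = 0 := by simp [polar_smul_left, polar_smul_right, hw]
    have := h3 _ hw'
    rw [E_smul_left hy (by simp [polar_smul_right, hw]), smul_smul, mul_inv_cancel₀ ht, one_smul] at this
    rw [this, polar_smul_left, smul_eq_mul]
    simp [ht]

theorem nilKind_smul {K : Subgroup (eo Q)} {y : V} {t : F} (ht : t ≠ 0) (hy : Q y = 0) (h : NilKind K (t • y)) :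
    NilKind K y := fun w hw hm => by
  have hw' : polar Q (t • y) (t⁻¹ • w) = 0 := by simp [polar_smul_left, polar_smul_right, hw]
  have := h _ hw' (by
    rw [E_smul_left hy (by simp [polar_smul_right, hw]), smul_smul, mul_inv_cancel₀ ht, one_smul]; exact hm)
  obtain ⟨s, hs⟩ := Submodule.mem_span_singleton.1 this
  refine Submodule.mem_span_singleton.2 ⟨t * (s * t), ?_⟩
  calc (t * (s * t)) • y = t • (s • (t • y)) := by rw [smul_smul, smul_smul]; congr 1; ring
    _ = t • t⁻¹ • w := by rw [hs]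
    _ = w := smul_inv_smul₀ ht w

theorem hypKind_add {K : Subgroup (eo Q)} {y v : V} (hy : Q y = 0) (s : F) (h : HypKind K y v) :
    HypKind K y (v + s • y) := by
  obtain ⟨h1, h2, h3⟩ := h
  refine ⟨fun hc => h1 ?_, polar_perp_add h2 (by simp [polar_smul_right, polar_self', hy]), fun w hw => ?_⟩
  · simpa using Submodule.sub_mem _ hc (Submodule.smul_mem _ s (Submodule.mem_span_singleton_self y))
  · rw [h3 w hw, polar_add_right, polar_smul_right, polar_comm Q w y, hw, smul_zero, add_zero]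

variable [Finite F] [FiniteDimensional F V]

/-- The kind determines the vector. -/
theorem hypKind_span (hQ : (polarBilin Q).Nondegenerate) {K : Subgroup (eo Q)} {y v v' : V}
    (h : HypKind K y v) (h' : HypKind K y v') : v' ∈ Submodule.span F {y, v} := by
  by_contra hne
  obtain ⟨w, hw, hvw⟩ := exists_perp hQ hne
  have hyw : polar Q y w = 0 := hw y (Submodule.subset_span (by simp))
  have h1 : polar Q w v = 0 := by rw [polar_comm]; exact hw v (Submodule.subset_span (by simp))
  have := (h'.2.2 w hyw).1 ((h.2.2 w hyw).2 h1)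
  rw [polar_comm, hvw] at this
  exact one_ne_zero this

theorem zcard_pts (R : QuadraticForm F V) :
    (Nat.card F - 1) * Nat.card (SPt R) + 1 = zcard R := by
  have : Finite V := Module.finite_of_finite F
  have hu : Nat.card Fˣ = Nat.card F - 1 := Nat.card_units F
  let e : {x : V // R x = 0} ≃ Option {x : V // x ≠ 0 ∧ R x = 0} :=
    { toFun := fun x => by classical exact if h : x.1 = 0 then none else some ⟨x.1, h, x.2⟩
      invFun := fun o => o.elim ⟨0, map_zero R⟩ fun x => ⟨x.1, x.2.2⟩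
      left_inv := fun x => by
        by_cases h : x.1 = 0
        · simp [h]; exact Subtype.ext h.symm
        · simp [h]
      right_inv := fun o => by
        cases o with
        | none => simp
        | some x => simp [x.2.1] }
  have h2 : Nat.card {x : V // x ≠ 0 ∧ R x = 0} = Nat.card (SPt R) * Nat.card Fˣ := by
    rw [← Nat.card_prod]
    refine (Nat.card_congr (Equiv.ofBijective (fun p : SPt R × Fˣ => (⟨(p.2 : F) • p.1.1.rep,
      smul_ne_zero p.2.ne_zero p.1.1.rep_nonzero, by rw [Quad.map_smul', p.1.2, mul_zero]⟩ :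
      {x : V // x ≠ 0 ∧ R x = 0})) ⟨fun p p' e => ?_, fun x => ?_⟩)).symm
    · have e' : (p.2 : F) • p.1.1.rep = (p'.2 : F) • p'.1.1.rep := congrArg Subtype.val e
      have hp : p.1 = p'.1 := Subtype.ext (by
        rw [← mk_rep p.1.1, ← mk_rep p'.1.1, mk_eq_mk_iff']
        exact ⟨(p'.2 : F) / (p.2 : F), by
          rw [div_eq_inv_mul, mul_smul, ← e', inv_smul_smul₀ p.2.ne_zero]⟩)
      rw [hp] at e'
      exact Prod.ext hp (Units.ext (smul_left_injective F p'.1.1.rep_nonzero e'))
    · obtain ⟨a, ha⟩ := exists_smul_eq_mk_rep F x.1 x.2.1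
      refine ⟨(⟨mk F x.1 x.2.1, (Q_rep x.2.1).2 x.2.2⟩, a⁻¹), Subtype.ext ?_⟩
      show ((a⁻¹ : Fˣ) : F) • (mk F x.1 x.2.1).rep = x.1
      rw [← ha, Units.smul_def, smul_smul, Units.inv_mul, one_smul]
  rw [zcard, Nat.card_congr e, Finite.card_option, h2, hu, mul_comm]

omit [Finite F] in
theorem finite_spt [Finite V] : Finite (SPt Q) :=
  Finite.of_injective (fun p : SPt Q => p.1.rep) fun p p' e => Subtype.ext (by
    rw [← mk_rep p.1, ← mk_rep p'.1]
    congr 1)

/-- The recursion for the number of singular points. -/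
theorem pts_rec {y f : V} (hy : Q y = 0) (hf : Q f = 0) (hyf : polar Q y f = 1) {k : ℕ}
    (hk : finrank F (perpPair Q y f) = k) :
    Nat.card (SPt Q) = Nat.card F * Nat.card (SPt (restrictPair Q y f)) + Nat.card F ^ k + 1 := by
  have h1 := zcard_hypOne (restrictPair Q y f)
  rw [← zcard_congr (splitPair hy hf hyf) (splitPair_map hy hf hyf), Module.natCard_eq_pow_finrank (K := F), hk,
    ← zcard_pts, ← zcard_pts] at h1
  obtain ⟨r, hr⟩ : ∃ r, Nat.card F = r + 2 := ⟨Nat.card F - 2, by have := Finite.one_lt_card (α := F); omega⟩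
  rw [hr] at h1 ⊢
  rw [show r + 2 - 1 = r + 1 by omega] at h1
  generalize (r + 2) ^ k = X at h1 ⊢
  refine Nat.eq_of_mul_eq_mul_left (show 0 < r + 1 by omega) ?_
  linarith

omit [Finite F] [FiniteDimensional F V] in
/-- Elements of the complement's group extend. -/
theorem extend_pair {y f : V} (hy : Q y = 0) (hf : Q f = 0) (l : oG (restrictPair Q y f))
    (hl : l ∈ eo (restrictPair Q y f)) :
    ∃ g : eo Q, g.1.1 y = y ∧ g.1.1 f = f ∧
      ∀ w : perpPair Q y f, g.1.1 (w : V) = (l.1 w : V) := by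
  induction hl using Subgroup.closure_induction with
  | mem x hx =>
    obtain ⟨e, u, he, heu, rfl⟩ := hx
    have he' : Q (e : V) = 0 := he
    have heu' : polar Q (e : V) (u : V) = 0 := heu
    refine ⟨E Q (e : V) (u : V), E_fix he' heu' (mem_perpPair.1 e.2).1 (mem_perpPair.1 u.2).1,
      E_fix he' heu' (mem_perpPair.1 e.2).2 (mem_perpPair.1 u.2).2, fun w => ?_⟩
    rw [E_apply he' heu', sO_apply]
    rfl
  | one => exact ⟨1, rfl, rfl, fun w => rfl⟩
  | mul a b _ _ ha hb =>
    obtain ⟨g, g1, g2, g3⟩ := ha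
    obtain ⟨g', g1', g2', g3'⟩ := hb
    exact ⟨g * g', by rw [mul_apply_eo, g1', g1], by rw [mul_apply_eo, g2', g2],
      fun w => by rw [mul_apply_eo, g3', g3, oG_mul_apply]⟩
  | inv a _ ha =>
    obtain ⟨g, g1, g2, g3⟩ := ha
    refine ⟨g⁻¹, ?_, ?_, fun w => ?_⟩
    · conv_lhs => rw [← g1]
      exact inv_apply_eo g y
    · conv_lhs => rw [← g2]
      exact inv_apply_eo g f
    · conv_lhs => rw [← oG_apply_inv a w, ← g3]
      exact inv_apply_eo g _

/-- The stabiliser of a point. -/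
def Pt (y : V) : Subgroup (eo Q) where
  carrier := {g | ∃ a : Fˣ, g.1.1 y = (a : F) • y}
  one_mem' := ⟨1, by simp [one_apply_eo]⟩
  mul_mem' := by
    rintro g h ⟨a, ha⟩ ⟨b, hb⟩
    exact ⟨b * a, by rw [mul_apply_eo, hb, map_smul, ha, smul_smul, Units.val_mul]⟩
  inv_mem' := by
    rintro g ⟨a, ha⟩
    refine ⟨a⁻¹, ?_⟩
    have := congrArg (fun x => ((a⁻¹ : Fˣ) : F) • (g⁻¹).1.1 x) ha
    simp only [map_smul, smul_smul, Units.inv_mul, one_smul, inv_apply_eo] at this
    exact this.symm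

theorem mem_Pt {y : V} {g : eo Q} : g ∈ Pt y ↔ ∃ a : Fˣ, g.1.1 y = (a : F) • y := Iff.rfl

theorem index_Pt (hQ : (polarBilin Q).Nondegenerate) (hn : 5 ≤ finrank F V) {y : V} (hy0 : y ≠ 0) (hy : Q y = 0) :
    (Pt (Q := Q) y).index = Nat.card (SPt Q) := by
  have := isPretransitive_eo hQ hn
  have e : Pt (Q := Q) y = MulAction.stabilizer (eo Q) (spt y hy0 hy) := by
    ext g
    rw [MulAction.mem_stabilizer_iff, smul_spt_eq, spt_eq_iff, mem_Pt]
    refine ⟨fun ⟨a, ha⟩ => ⟨a, ha.symm⟩, fun ⟨a, ha⟩ => ?_⟩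
    have ha0 : a ≠ 0 := fun h0 => hy0 (g.1.1.map_eq_zero_iff.1 (by rw [← ha, h0, zero_smul]))
    exact ⟨Units.mk0 a ha0, ha.symm⟩
  rw [e, MulAction.index_stabilizer, MulAction.orbit_eq_univ, Set.ncard_univ]

/-- If both kinds of points occur, the index is at least the number of singular points. -/
theorem index_ge_of_kinds (hQ : (polarBilin Q).Nondegenerate) (hn : 7 ≤ finrank F V) (H : Subgroup (eo Q))
    {g1 g2 : eo Q} {y1 y2 v : V} (hy1 : Q y1 = 0) (hy10 : y1 ≠ 0) (hy2 : Q y2 = 0) (hy20 : y2 ≠ 0) (hv : Q v = 0)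
    (hA : HypKind (conjO g1 H) y1 v) (hB : NilKind (conjO g2 H) y2) :
    Nat.card (SPt Q) ≤ H.index := by
  classical
  have : Finite V := Module.finite_of_finite F
  have := finite_eo (Q := Q)
  have := finite_spt (Q := Q)
  obtain ⟨f, hf, hyf⟩ := exists_hyp_pair hQ hy10 hy1
  set y := y1
  set R := restrictPair Q y f with hR
  have hdim := finrank_perpPair (Q := Q) hy1 hf hyf
  have hRnd := nondeg_restrictPair hQ hy1 hf hyf
  have := finite_spt (Q := R)
  set AX : eo Q ⧸ H → Prop := fun x => ∃ v, Q v = 0 ∧ HypKind (conjO x.out H) y v with hAX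
  set BX : eo Q ⧸ H → Prop := fun x => NilKind (conjO x.out H) y with hBX
  have hout : ∀ g : eo Q, conjO (g : eo Q ⧸ H).out H = conjO g H := fun g => by
    obtain ⟨k, hk⟩ := QuotientGroup.mk_out_eq_mul H g
    rw [hk, conjO_mul_mem g k.2]
  -- the base points
  have hv2 := hA.2.1
  set v0 := v + (-polar Q f v) • y with hv0
  have hA0 : HypKind (conjO g1 H) y v0 := hypKind_add hy1 _ hA
  have hv0W : v0 ∈ perpPair Q y f := mem_perpPair.2 ⟨hA0.2.1, by
    rw [hv0, polar_add_right, polar_smul_right, polar_comm Q f y, hyf, smul_eq_mul, mul_one, add_neg_cancel]⟩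
  have hv0s : Q v0 = 0 := by rw [hv0, map_add_smul, hv, hy1, polar_comm Q v y, hv2]; ring
  have hv0ne : (⟨v0, hv0W⟩ : perpPair Q y f) ≠ 0 := fun h0 => hA0.1 (by
    rw [show v0 = 0 from congrArg Subtype.val h0]; exact Submodule.zero_mem _)
  -- the translations
  have hmove : ∀ (g : eo Q) (w : perpPair Q y f), Q (w : V) = 0 → HypKind (conjO g H) y (w : V) →
      ∀ u : perpPair Q y f, HypKind (conjO (E Q y (u : V) * g) H) y (w : V) := by
    intro g w _ h u
    have huy := (mem_perpPair.1 u.2).1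
    have h2 := hypKind_conj hy1 h (E Q y (u : V))
    rw [conjO_conjO, E_fix hy1 huy (by rw [polar_self', hy1, mul_zero]) huy, E_apply hy1 huy,
      polar_comm Q (w : V) y, (mem_perpPair.1 w.2).1] at h2
    simp only [neg_zero, zero_smul, mul_zero, add_zero] at h2
    simpa using hypKind_add hy1 (-polar Q (w : V) (u : V)) h2
  -- representatives for the points of the complement
  have hreach : ∀ p : SPt R, ∃ g : eo Q, HypKind (conjO g H) y ((p.1.rep : perpPair Q y f) : V) := by
    intro p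
    obtain ⟨l, hl, t, ht, hlt⟩ := exists_eo_point hRnd (by omega) hv0ne hv0s p.1.rep_nonzero p.2
    obtain ⟨k, k1, -, k3⟩ := extend_pair hy1 hf l hl
    have h2 := hypKind_conj hy1 hA0 k
    rw [conjO_conjO, k1, k3 ⟨v0, hv0W⟩, hlt, Submodule.coe_smul] at h2
    refine ⟨k * g1, ?_⟩
    obtain ⟨q1, q2, q3⟩ := h2
    refine ⟨fun hc => q1 (Submodule.smul_mem _ t hc), (mem_perpPair.1 (p.1.rep).2).1, fun w hw => ?_⟩
    rw [q3 w hw, polar_smul_right, smul_eq_mul]
    simp [ht]
  choose gp hgp using hreach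
  have hdual : ∀ p : SPt R, ∃ u : perpPair Q y f, polar Q (u : V) ((p.1.rep : perpPair Q y f) : V) = 1 := fun p => by
    obtain ⟨u, -, hu⟩ := exists_hyp_pair hRnd p.1.rep_nonzero p.2
    exact ⟨u, by rw [polar_comm]; exact hu⟩
  choose up' hup using hdual
  have hcountA : Nat.card F * Nat.card (SPt R) ≤ Nat.card {x // AX x} := by
    rw [← Nat.card_prod]
    let Φ : F × SPt R → {x // AX x} := fun cp =>
      ⟨((E Q y ((cp.1 • up' cp.2 : perpPair Q y f) : V) * gp cp.2 : eo Q) : eo Q ⧸ H), _,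
        (cp.2.2 : Q ((cp.2.1.rep : perpPair Q y f) : V) = 0), by rw [hout]; exact hmove _ _ cp.2.2 (hgp cp.2) _⟩
    refine Nat.card_le_card_of_injective Φ fun cp cp' e => ?_
    obtain ⟨c, p⟩ := cp
    obtain ⟨c', p'⟩ := cp'
    have e' := congrArg Subtype.val e
    simp only [Φ] at e'
    have hK := congrArg (fun x : eo Q ⧸ H => conjO x.out H) e'
    simp only [hout] at hK
    have h1 := hmove _ _ p.2 (hgp p) (c • up' p)
    have h2 := hmove _ _ p'.2 (hgp p') (c' • up' p')
    rw [← hK] at h2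
    obtain ⟨a, b, hab⟩ := Submodule.mem_span_pair.1 (hypKind_span hQ h1 h2)
    have ha : a = 0 := by
      have := congrArg (polar Q f) hab
      rw [polar_add_right, polar_smul_right, polar_smul_right, polar_comm Q f y, hyf,
        (mem_perpPair.1 (p.1.rep).2).2, (mem_perpPair.1 (p'.1.rep).2).2] at this
      simpa using this
    rw [ha, zero_smul, zero_add] at hab
    have hp : p' = p := Subtype.ext (by
      rw [← mk_rep p'.1, ← mk_rep p.1, mk_eq_mk_iff']
      exact ⟨b, Subtype.ext hab⟩)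
    subst hp
    refine Prod.ext ?_ rfl
    have hm := QuotientGroup.eq.1 e'
    have hu := fun c : F => (mem_perpPair.1 (c • up' p' : perpPair Q y f).2).1
    rw [mul_inv_rev, E_inv hy1 (hu c), show (gp p')⁻¹ * E Q y (-((c • up' p' : perpPair Q y f) : V)) *
      (E Q y ((c' • up' p' : perpPair Q y f) : V) * gp p') = (gp p')⁻¹ * (E Q y (-((c • up' p' : perpPair Q y f) : V)) *
      E Q y ((c' • up' p' : perpPair Q y f) : V)) * gp p' by group, E_add hy1 (polar_perp_neg (hu c)) (hu c'),
      ← mem_conjO, (hgp p').2.2 _ (polar_perp_add (polar_perp_neg (hu c)) (hu c'))] at hm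
    rw [Submodule.coe_smul, Submodule.coe_smul, ← neg_smul, ← add_smul, polar_smul_left, hup, smul_eq_mul,
      mul_one, neg_add_eq_zero] at hm
    exact hm
  -- the points of the other kind
  obtain ⟨k, hk, t, ht, hkt⟩ := exists_eo_point hQ (by omega) hy20 hy2 hy10 hy1
  have hB0 : NilKind (conjO ((⟨k, hk⟩ : eo Q) * g2) H) y := by
    have := nilKind_conj hy2 hB ⟨k, hk⟩
    rw [conjO_conjO, show (⟨k, hk⟩ : eo Q).1.1 y2 = t • y from hkt] at this
    exact nilKind_smul ht hy1 this
  set gB := (⟨k, hk⟩ : eo Q) * g2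
  have hcountB : Nat.card (perpPair Q y f) ≤ Nat.card {x // BX x} := by
    have hnil : ∀ u : perpPair Q y f, NilKind (conjO (E Q y (u : V) * gB) H) y := fun u => by
      have huy := (mem_perpPair.1 u.2).1
      have := nilKind_conj hy1 hB0 (E Q y (u : V))
      rwa [conjO_conjO, E_fix hy1 huy (by rw [polar_self', hy1, mul_zero]) huy] at this
    refine Nat.card_le_card_of_injective (fun u => (⟨((E Q y (u : V) * gB : eo Q) : eo Q ⧸ H), by
      show NilKind _ y
      rw [hout]; exact hnil u⟩ : {x // BX x})) fun u u' e => ?_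
    have hm := QuotientGroup.eq.1 (congrArg Subtype.val e)
    have hu := fun u : perpPair Q y f => (mem_perpPair.1 u.2).1
    rw [mul_inv_rev, E_inv hy1 (hu u), show gB⁻¹ * E Q y (-(u : V)) * (E Q y (u' : V) * gB) =
      gB⁻¹ * (E Q y (-(u : V)) * E Q y (u' : V)) * gB by group, E_add hy1 (polar_perp_neg (hu u)) (hu u'),
      ← mem_conjO] at hm
    obtain ⟨s, hs⟩ := Submodule.mem_span_singleton.1
      (hB0 _ (polar_perp_add (polar_perp_neg (hu u)) (hu u')) hm)
    have := congrArg (polar Q f) hs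
    rw [polar_smul_right, polar_comm Q f y, hyf, polar_add_right, polar_neg_right, (mem_perpPair.1 u.2).2,
      (mem_perpPair.1 u'.2).2] at this
    simp at this
    rw [this, zero_smul] at hs
    exact Subtype.ext (neg_add_eq_zero.1 hs.symm)
  have hdisj : ∀ x, BX x → ¬AX x := by
    rintro x hb ⟨w, -, hw1, hw2, hw3⟩
    let φ : perpPair Q y f →ₗ[F] F := ((polarBilin Q).flip w).domRestrict (perpPair Q y f)
    have hker : 1 ≤ finrank F (LinearMap.ker φ) := by
      have h1 := LinearMap.finrank_range_add_finrank_ker φ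
      have h2 := Submodule.finrank_le (LinearMap.range φ)
      rw [Module.finrank_self] at h2
      omega
    have : Nontrivial (LinearMap.ker φ) := Module.nontrivial_of_finrank_pos (R := F) (by omega)
    obtain ⟨⟨u, hu⟩, hu0⟩ := exists_ne (0 : LinearMap.ker φ)
    have huy := (mem_perpPair.1 u.2).1
    obtain ⟨s, hs⟩ := Submodule.mem_span_singleton.1 (hb _ huy ((hw3 _ huy).2 hu))
    have hfu := congrArg (polar Q f) hs
    rw [polar_smul_right, polar_comm Q f y, hyf, (mem_perpPair.1 u.2).2] at hfu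
    simp at hfu
    rw [hfu, zero_smul] at hs
    exact hu0 (Subtype.ext (Subtype.ext hs.symm))
  have hsum : Nat.card {x // AX x} + Nat.card {x // ¬AX x} = H.index := by
    rw [← Nat.card_sum, Nat.card_congr (Equiv.sumCompl AX)]; rfl
  have hBle : Nat.card {x // BX x} ≤ Nat.card {x // ¬AX x} :=
    Nat.card_le_card_of_injective (fun x => ⟨x.1, hdisj _ x.2⟩) fun a b e => Subtype.ext (congrArg Subtype.val e :)
  have hrec := pts_rec hy1 hf hyf (k := finrank F (perpPair Q y f)) rfl
  rw [← Module.natCard_eq_pow_finrank (K := F)] at hrec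
  rw [← hR] at hrec
  by_contra hlt
  push Not at hlt
  have hd : H.index + 1 = Nat.card (SPt Q) := by omega
  set Rel : eo Q → Prop := fun g => ∃ w, Q w = 0 ∧ HypKind H (g.1.1 y) w with hRel
  have hRelX : ∀ x : eo Q ⧸ H, Rel x.out⁻¹ ↔ AX x := fun x => by
    constructor
    · rintro ⟨w, hw, hk'⟩
      have := hypKind_conj (by rw [(x.out⁻¹).1.2, hy1]) hk' x.out
      rw [apply_inv_eo] at this
      exact ⟨_, by rw [x.out.1.2, hw], this⟩
    · rintro ⟨w, hw, hk'⟩
      have := hypKind_conj hy1 hk' x.out⁻¹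
      rw [conjO_conjO, inv_mul_cancel, conjO_one] at this
      exact ⟨_, by rw [(x.out⁻¹).1.2, hw], this⟩
  have hdc := SU.double_count H (Pt (Q := Q) y) Rel (fun h hh g => by
      refine ⟨fun ⟨w, hw, hk'⟩ => ?_, fun ⟨w, hw, hk'⟩ => ?_⟩
      · have := hypKind_conj (by rw [(h * g).1.2, hy1]) hk' h⁻¹
        rw [conjO_self (H.inv_mem hh), ← mul_apply_eo, inv_mul_cancel_left] at this
        exact ⟨_, by rw [(h⁻¹).1.2, hw], this⟩
      · have := hypKind_conj (by rw [g.1.2, hy1]) hk' h
        rw [conjO_self hh, ← mul_apply_eo] at this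
        exact ⟨_, by rw [h.1.2, hw], this⟩)
    (fun k' hk' g => by
      obtain ⟨a, ha⟩ := hk'
      refine ⟨fun ⟨w, hw, hh'⟩ => ?_, fun ⟨w, hw, hh'⟩ => ?_⟩
      · rw [mul_apply_eo, ha, map_smul] at hh'
        exact ⟨w, hw, hypKind_smul a.ne_zero (by rw [g.1.2, hy1]) hh'⟩
      · refine ⟨w, hw, hypKind_smul (inv_ne_zero a.ne_zero) (by rw [(g * k').1.2, hy1]) ?_⟩
        rwa [mul_apply_eo, ha, map_smul, inv_smul_smul₀ a.ne_zero])
  rw [index_Pt hQ (by omega) hy10 hy1, Nat.card_congr (Equiv.subtypeEquivRight hRelX), ← hd] at hdc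
  have hdvd : H.index ∣ Nat.card {x // AX x} :=
    (Nat.coprime_self_add_right.2 (Nat.coprime_one_right _)).dvd_of_dvd_mul_left ⟨_, hdc.symm⟩
  have hApos : 0 < Nat.card {x // AX x} := by
    have : Nonempty {x // AX x} := ⟨⟨(g1 : eo Q ⧸ H), v, hv, by rw [hout]; exact hA⟩⟩
    exact Nat.card_pos
  have hWpos : 0 < Nat.card (perpPair Q y f) := Nat.card_pos
  have := Nat.le_of_dvd hApos hdvd
  omega

end Cfsg.Agent.MinIndexForm.O
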