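import Cfsg.Agent.Classical.OrthSimple

/-!
Siegel transformations inside the group they generate, as a total function, with their basic identities.
-/

set_option autoImplicit false

namespace Cfsg.Agent.MinIndexForm.O

open Cfsg.Agent.Classical Cfsg.Agent.Classical.Quad Module QuadraticMap

variable {F V : Type*} [Field F] [AddCommGroup V] [Module F V] {Q : QuadraticForm F V}

/-- The Siegel transformation, extended by `1` off its domain. -/
noncomputable def E (Q : QuadraticForm F V) (p w : V) : eo Q := by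
  classical exact if h : Q p = 0 ∧ polar Q p w = 0 then ⟨sO h.1 h.2, sO_mem_eo _ _⟩ else 1

theorem E_val {p w : V} (hp : Q p = 0) (hw : polar Q p w = 0) : (E Q p w).1 = sO hp hw := by
  rw [E, dif_pos ⟨hp, hw⟩]

theorem E_apply {p w : V} (hp : Q p = 0) (hw : polar Q p w = 0) (x : V) :
    (E Q p w).1.1 x = x + polar Q x w • p + (-polar Q x p) • w + (-(Q w * polar Q x p)) • p := by
  rw [E_val hp hw, sO_apply]

theorem ext_eo {g h : eo Q} (e : ∀ x, g.1.1 x = h.1.1 x) : g = h := Subtype.ext (ext_oG e)

theorem mul_apply_eo (g h : eo Q) (x : V) : (g * h).1.1 x = g.1.1 (h.1.1 x) := rfl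

theorem one_apply_eo (x : V) : (1 : eo Q).1.1 x = x := rfl

theorem inv_apply_eo (g : eo Q) (x : V) : (g⁻¹).1.1 (g.1.1 x) = x := oG_inv_apply g.1 x

theorem apply_inv_eo (g : eo Q) (x : V) : g.1.1 ((g⁻¹).1.1 x) = x := oG_apply_inv g.1 x

theorem E_zero {p : V} : E Q p 0 = 1 := by
  by_cases h : Q p = 0
  · exact ext_eo fun x => by rw [E_apply h (by simp [polar]), one_apply_eo]; simp [polar]
  · rw [E, dif_neg fun h' => h h'.1]

theorem E_add {p a b : V} (hp : Q p = 0) (ha : polar Q p a = 0) (hb : polar Q p b = 0) :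
    E Q p a * E Q p b = E Q p (a + b) :=
  Subtype.ext (by rw [Subgroup.coe_mul, E_val hp ha, E_val hp hb, E_val hp (polar_perp_add ha hb), sO_mul])

theorem E_inv {p w : V} (hp : Q p = 0) (hw : polar Q p w = 0) : (E Q p w)⁻¹ = E Q p (-w) :=
  inv_eq_of_mul_eq_one_right (by rw [E_add hp hw (polar_perp_neg hw), add_neg_cancel, E_zero])

theorem E_self {p : V} (hp : Q p = 0) (t : F) : E Q p (t • p) = 1 :=
  Subtype.ext (by rw [E_val hp (by simp [polar_smul_right, polar_self', hp]), sO_smul_self]; rfl)

theorem E_add_self {p w : V} (hp : Q p = 0) (hw : polar Q p w = 0) (t : F) :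
    E Q p (w + t • p) = E Q p w := by
  rw [← E_add hp hw (by simp [polar_smul_right, polar_self', hp]), E_self hp, mul_one]

theorem E_smul_left {p w : V} (hp : Q p = 0) (hw : polar Q p w = 0) (c : F) :
    E Q (c • p) w = E Q p (c • w) :=
  Subtype.ext (by
    rw [E_val (by simp [map_smul', hp]) (by simp [polar_smul_left, hw]), E_val hp (polar_perp_smul hw c),
      sO_smul_left hp hw])

theorem conj_E (g : eo Q) {p w : V} (hp : Q p = 0) (hw : polar Q p w = 0) :
    g * E Q p w * g⁻¹ = E Q (g.1.1 p) (g.1.1 w) :=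
  Subtype.ext (by
    rw [Subgroup.coe_mul, Subgroup.coe_mul, Subgroup.coe_inv, E_val hp hw, conj_sO,
      E_val (by rw [g.1.2, hp]) (by rw [polar_oG, hw])])

theorem E_fix {p w x : V} (hp : Q p = 0) (hw : polar Q p w = 0) (h1 : polar Q x p = 0) (h2 : polar Q x w = 0) :
    (E Q p w).1.1 x = x := by
  rw [E_val hp hw]; exact siegel_fix hp hw h1 h2

/-- Exchanging the two vectors of a long root element. -/
theorem E_swap {p p' : V} (hp : Q p = 0) (hp' : Q p' = 0) (h : polar Q p p' = 0) (c : F) :
    E Q p' (c • p) = E Q p (-(c • p')) := ext_eo fun x => by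
  rw [E_apply hp' (by simp [polar_smul_right, polar_comm Q p' p, h]),
    E_apply hp (by simp [polar_neg_right, polar_smul_right, h])]
  simp only [map_smul', QuadraticMap.map_neg, hp, hp', polar_smul_right, polar_neg_right, smul_eq_mul]
  match_scalars <;> ring

/-- Splitting the point of a Siegel transformation. -/
theorem E_add_left {p p' w : V} (hp : Q p = 0) (hp' : Q p' = 0) (h : polar Q p p' = 0) (hw : polar Q p w = 0)
    (hw' : polar Q p' w = 0) : E Q (p + p') w = E Q p w * E Q p' w * E Q p (Q w • p') := ext_eo fun x => by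
  rw [mul_apply_eo, mul_apply_eo, E_apply (by simp [map_add', hp, hp', h]) (by simp [polar_add_left, hw, hw']),
    E_apply hp (w := Q w • p') (by simp [polar_smul_right, h]), E_apply hp' hw', E_apply hp hw]
  simp only [polar_add_left, polar_add_right, polar_smul_left, polar_smul_right, smul_eq_mul, map_smul', hp, hp', h,
    hw, hw', polar_self', polar_comm Q p' p, polar_comm Q w p, polar_comm Q w p']
  match_scalars <;> ring

/-- Commuting two Siegel transformations at orthogonal points. -/
theorem E_conj_two {p p' a b : V} (hp : Q p = 0) (hp' : Q p' = 0) (h : polar Q p p' = 0) (ha : polar Q p a = 0)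
    (ha' : polar Q p' a = 0) (hb : polar Q p b = 0) (hb' : polar Q p' b = 0) :
    E Q p a * E Q p' b * (E Q p a)⁻¹ = E Q p' b * E Q p' (polar Q b a • p) := by
  rw [conj_E _ hp' hb', E_add hp' hb' (by simp [polar_smul_right, polar_comm Q p' p, h]),
    E_fix hp ha (by rw [polar_comm, h]) ha']
  congr 1
  rw [E_apply hp ha, polar_comm Q b p, hb]
  simp

/-- A conjugate subgroup. -/
def conjO (g : eo Q) (H : Subgroup (eo Q)) : Subgroup (eo Q) := H.map (MulAut.conj g).toMonoidHom

theorem mem_conjO {g x : eo Q} {H : Subgroup (eo Q)} : x ∈ conjO g H ↔ g⁻¹ * x * g ∈ H := by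
  rw [conjO, Subgroup.mem_map_equiv, MulAut.conj_symm_apply]

theorem index_conjO (g : eo Q) (H : Subgroup (eo Q)) : (conjO g H).index = H.index :=
  Subgroup.index_map_equiv H (MulAut.conj g)

end Cfsg.Agent.MinIndexForm.O
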