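import Cfsg.Agent.MinIndexForm.O.SmallTypes
import Cfsg.Agent.MinIndexForm.O.Points
import Cfsg.Agent.Classical.OrthElem.Count

/-!
Over a field with two or three elements: the vectors of a given norm, and the bound on the index when a point of
the first kind has an anisotropic vector.
-/

set_option autoImplicit false

namespace Cfsg.Agent.MinIndexForm.O

open Cfsg.Agent.Classical Cfsg.Agent.Classical.Quad Module QuadraticMap Projectivization
open scoped LinearAlgebra.Projectivization

universe uF uV

variable {F : Type uF} {V : Type uV} [Field F] [Finite F] [AddCommGroup V] [Module F V] [FiniteDimensional F V]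
  {Q : QuadraticForm F V}

/-- Over such a field the square of a unit is one. -/
theorem sq_unit (hq : Nat.card F ≤ 3) {t : F} (ht : t ≠ 0) : t * t = 1 := by
  rcases eq_trits hq t with rfl | rfl | rfl
  · exact absurd rfl ht
  · exact one_mul 1
  · ring

/-- The number of vectors of a given norm in even dimension. -/
theorem norm_count {U : Type uV} [AddCommGroup U] [Module F U] [FiniteDimensional F U] {R : QuadraticForm F U}
    (hR : (polarBilin R).Nondegenerate) (hq : Nat.card F ≤ 3) {k : ℕ} (hd : finrank F U = 2 * k) {σ : F}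
    (hσ : σ ≠ 0) :
    (Nat.card F - 1) * Nat.card {w : U // R w = σ} + zcard R = Nat.card F ^ (2 * k) := by
  classical
  have : Finite U := Module.finite_of_finite F
  have h2q := Finite.one_lt_card (α := F)
  have hσσ := sq_unit hq hσ
  rcases Nat.lt_or_ge (Nat.card F) 3 with h2 | h3
  · have hne : ∀ w, ¬ R w = 0 ↔ R w = σ := fun w => by
      refine ⟨fun h => ?_, fun h => h ▸ hσ⟩
      by_contra hne
      have := Fintype.ofFinite F
      have hnd : [(0 : F), R w, σ].Nodup := by simp [Ne.symm h, Ne.symm hσ, hne]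
      have := hnd.length_le_card
      rw [Nat.card_eq_fintype_card] at h2
      simp at this
      omega
    rw [show Nat.card F - 1 = 1 by omega, one_mul, zcard, add_comm, ← Nat.card_sum,
      Nat.card_congr ((Equiv.sumCongr (Equiv.refl _) (Equiv.subtypeEquivRight fun w => (hne w).symm)).trans
        (Equiv.sumCompl fun w => R w = 0)), Module.natCard_eq_pow_finrank (K := F), hd]
  · have hq3 : Nat.card F = 3 := by omega
    have hch : (2 : F) ≠ 0 := fun h => by
      have := Fintype.ofFinite F
      have hev := FiniteField.even_card_of_char_two (F := F)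
        (CharP.ringChar_of_prime_eq_zero Nat.prime_two (by exact_mod_cast h))
      rw [← Nat.card_eq_fintype_card, hq3] at hev
      omega
    have := Fintype.ofFinite F
    set R' : QuadraticForm F (U × F) := R.prod ((-σ) • sqForm F) with hR'
    have hval : ∀ x : U × F, R' x = R x.1 + -σ * (x.2 * x.2) := fun x => by
      simp [hR', sqForm, QuadraticMap.prod_apply]
    have hnd : (polarBilin R').Nondegenerate := nondeg_of fun x hx => by
      have h1 : x.1 = 0 := eq_zero_of_polar hR fun y => by
        have h := hx (y, 0)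
        simp only [polar, hval, Prod.fst_add, Prod.snd_add] at h
        rw [polar]
        linear_combination h
      have h2 := hx (0, 1)
      simp only [polar, hval, Prod.fst_add, Prod.snd_add, h1, map_zero] at h2
      have h3 : (-σ) * (2 * x.2) = 0 := by simp only [add_zero, map_zero] at h2; linear_combination h2
      exact Prod.ext h1 ((mul_eq_zero.1 ((mul_eq_zero.1 h3).resolve_left (neg_ne_zero.2 hσ))).resolve_left hch)
    have hz := OrthElem.zcard_odd_eq hnd (k := k) (by rw [Module.finrank_prod, hd, Module.finrank_self])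
    have h1z : 1 ≤ zcard R' := by
      rw [zcard]
      have : Nonempty {x : U × F // R' x = 0} := ⟨⟨0, map_zero R'⟩⟩
      exact Nat.card_pos
    have h1p : 1 ≤ Nat.card F ^ (2 * k) := Nat.one_le_pow _ _ (by omega)
    rw [← Nat.card_eq_fintype_card] at hz
    let e : {x : U × F // R' x = 0} ≃ {w : U // R w = 0} ⊕ ({w : U // R w = σ} × Fˣ) :=
      { toFun := fun x => if h : x.1.2 = 0 then Sum.inl ⟨x.1.1, by
            have := x.2; rw [hval, h] at this; simpa using this⟩
          else Sum.inr (⟨x.1.1, by
            have := x.2; rw [hval, sq_unit hq h] at this; linear_combination this⟩, Units.mk0 x.1.2 h)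
        invFun := Sum.elim (fun w => ⟨(w.1, 0), by rw [hval, w.2]; simp⟩)
          (fun p => ⟨(p.1.1, (p.2 : F)), by rw [hval, p.1.2, sq_unit hq p.2.ne_zero]; ring⟩)
        left_inv := fun x => by
          by_cases h : x.1.2 = 0
          · simp only [dif_pos h, Sum.elim_inl]
            exact Subtype.ext (Prod.ext rfl h.symm)
          · simp only [dif_neg h, Sum.elim_inr]
            rfl
        right_inv := fun s => by
          rcases s with w | p
          · simp
          · simp [p.2.ne_zero] }
    have hc := Nat.card_congr e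
    rw [Nat.card_sum, Nat.card_prod, Nat.card_units, ← zcard, ← zcard] at hc
    rw [mul_comm]
    omega

/-- If both kinds of points occur, the first with an anisotropic vector, the index is large. -/
theorem index_ge_of_kinds_aniso (hQ : (polarBilin Q).Nondegenerate) (hq : Nat.card F ≤ 3) (hn : 7 ≤ finrank F V)
    (H : Subgroup (eo Q)) {g1 g2 : eo Q} {y1 y2 v f : V} (hy1 : Q y1 = 0) (hy10 : y1 ≠ 0) (hy2 : Q y2 = 0)
    (hy20 : y2 ≠ 0) (hv : Q v ≠ 0) (hf : Q f = 0) (hyf : polar Q y1 f = 1)
    (hA : HypKind (conjO g1 H) y1 v) (hB : NilKind (conjO g2 H) y2) :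
    Nat.card F * Nat.card {w : perpPair Q y1 f // Q (w : V) = Q v} +
      (Nat.card F - 1) * Nat.card (perpPair Q y1 f) ≤ (Nat.card F - 1) * H.index := by
  classical
  have : Finite V := Module.finite_of_finite F
  have := finite_eo (Q := Q)
  set y := y1
  set R := restrictPair Q y f with hR
  have hdim := finrank_perpPair (Q := Q) hy1 hf hyf
  have hRnd := nondeg_restrictPair hQ hy1 hf hyf
  set σ := Q v with hσ
  set AX : eo Q ⧸ H → Prop := fun x => ∃ v, HypKind (conjO x.out H) y v with hAX
  set BX : eo Q ⧸ H → Prop := fun x => NilKind (conjO x.out H) y with hBX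
  have hout : ∀ g : eo Q, conjO (g : eo Q ⧸ H).out H = conjO g H := fun g => by
    obtain ⟨k, hk⟩ := QuotientGroup.mk_out_eq_mul H g
    rw [hk, conjO_mul_mem g k.2]
  -- the base points
  have hv2 := hA.2.1
  set v0 := v + (-polar Q f v) • y with hv0
  have hA0 : HypKind (conjO g1 H) y v0 := hypKind_add hy1 _ hA
  have hv0W : v0 ∈ perpPair Q y f := mem_perpPair.2 ⟨hA0.2.1, by
    rw [hv0, polar_add_right, polar_smul_right, polar_comm Q f y, hyf, smul_eq_mul, mul_one, add_neg_cancel]⟩
  have hv0s : R ⟨v0, hv0W⟩ = σ := by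
    show Q v0 = σ
    rw [hv0, map_add_smul, hy1, polar_comm Q v y, hv2]; ring
  -- the translations
  have hmove : ∀ (g : eo Q) (w : perpPair Q y f), HypKind (conjO g H) y (w : V) →
      ∀ u : perpPair Q y f, HypKind (conjO (E Q y (u : V) * g) H) y (w : V) := by
    intro g w h u
    have huy := (mem_perpPair.1 u.2).1
    have h2 := hypKind_conj hy1 h (E Q y (u : V))
    rw [conjO_conjO, E_fix hy1 huy (by rw [polar_self', hy1, mul_zero]) huy, E_apply hy1 huy,
      polar_comm Q (w : V) y, (mem_perpPair.1 w.2).1] at h2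
    simp only [neg_zero, zero_smul, mul_zero, add_zero] at h2
    simpa using hypKind_add hy1 (-polar Q (w : V) (u : V)) h2
  -- representatives for the lines of the given norm
  let Ln := {p : ℙ F (perpPair Q y f) // R p.rep = σ}
  have hreach : ∀ p : Ln, ∃ g : eo Q, HypKind (conjO g H) y ((p.1.rep : perpPair Q y f) : V) := by
    intro p
    obtain ⟨z0, f0, hz0, hf0, hzf0, e0⟩ := exists_pair_through hRnd (by omega) (v := ⟨v0, hv0W⟩) (by rwa [hv0s])
    obtain ⟨z1, f1, hz1, hf1, hzf1, e1⟩ := exists_pair_through hRnd (by omega) (v := p.1.rep) (by rwa [p.2])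
    rw [hv0s] at e0
    rw [p.2] at e1
    obtain ⟨l, hl, t, ht, hl1, hl2⟩ := exists_eo_pair hRnd (by omega) hz0 hf0 hzf0 hz1 hf1 hzf1
    have hlt : l.1 ⟨v0, hv0W⟩ = t • p.1.rep := by
      rw [e0, map_add, map_smul, hl1, hl2, inv_eq_of_mul_eq_one_right (sq_unit hq ht), e1, smul_add, smul_comm]
    obtain ⟨k, k1, -, k3⟩ := extend_pair hy1 hf l hl
    have h2 := hypKind_conj hy1 hA0 k
    rw [conjO_conjO, k1, k3 ⟨v0, hv0W⟩, hlt, Submodule.coe_smul] at h2
    refine ⟨k * g1, ?_⟩
    obtain ⟨q1, q2, q3⟩ := h2
    refine ⟨fun hc => q1 (Submodule.smul_mem _ t hc), (mem_perpPair.1 (p.1.rep).2).1, fun w hw => ?_⟩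
    rw [q3 w hw, polar_smul_right, smul_eq_mul]
    simp [ht]
  choose gp hgp using hreach
  have hdual : ∀ p : Ln, ∃ u : perpPair Q y f, polar Q (u : V) ((p.1.rep : perpPair Q y f) : V) = 1 := fun p => by
    obtain ⟨z1, f1, hz1, -, hzf1, e1⟩ := exists_pair_through hRnd (by omega) (v := p.1.rep) (by rwa [p.2])
    refine ⟨z1, ?_⟩
    show polar R z1 p.1.rep = 1
    rw [e1, polar_add_right, polar_smul_right, hzf1, polar_self', hz1]
    simp
  choose up' hup using hdual
  have hcountA : Nat.card F * Nat.card Ln ≤ Nat.card {x // AX x} := by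
    rw [← Nat.card_prod]
    let Φ : F × Ln → {x // AX x} := fun cp =>
      ⟨((E Q y ((cp.1 • up' cp.2 : perpPair Q y f) : V) * gp cp.2 : eo Q) : eo Q ⧸ H), _,
        by rw [hout]; exact hmove _ _ (hgp cp.2) _⟩
    refine Nat.card_le_card_of_injective Φ fun cp cp' e => ?_
    obtain ⟨c, p⟩ := cp
    obtain ⟨c', p'⟩ := cp'
    have e' := congrArg Subtype.val e
    simp only [Φ] at e'
    have hK := congrArg (fun x : eo Q ⧸ H => conjO x.out H) e'
    simp only [hout] at hK
    have h1 := hmove _ _ (hgp p) (c • up' p)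
    have h2 := hmove _ _ (hgp p') (c' • up' p')
    rw [← hK] at h2
    obtain ⟨a, b, hab⟩ := Submodule.mem_span_pair.1 (hypKind_span hQ h1 h2)
    have ha : a = 0 := by
      have := congrArg (polar Q f) hab
      rw [polar_add_right, polar_smul_right, polar_smul_right, polar_comm Q f y, hyf,
        (mem_perpPair.1 (p.1.rep).2).2, (mem_perpPair.1 (p'.1.rep).2).2] at this
      simpa using this
    rw [ha, zero_smul, zero_add] at hab
    have hp : p' = p := Subtype.ext (by
      rw [← mk_rep p'.1, ← mk_rep p.1, mk_eq_mk_iff']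
      exact ⟨b, Subtype.ext hab⟩)
    subst hp
    refine Prod.ext ?_ rfl
    have hm := QuotientGroup.eq.1 e'
    have hu := fun c : F => (mem_perpPair.1 (c • up' p' : perpPair Q y f).2).1
    rw [mul_inv_rev, E_inv hy1 (hu c), show (gp p')⁻¹ * E Q y (-((c • up' p' : perpPair Q y f) : V)) *
      (E Q y ((c' • up' p' : perpPair Q y f) : V) * gp p') = (gp p')⁻¹ * (E Q y (-((c • up' p' : perpPair Q y f) : V)) *
      E Q y ((c' • up' p' : perpPair Q y f) : V)) * gp p' by group, E_add hy1 (polar_perp_neg (hu c)) (hu c'),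
      ← mem_conjO, (hgp p').2.2 _ (polar_perp_add (polar_perp_neg (hu c)) (hu c'))] at hm
    rw [Submodule.coe_smul, Submodule.coe_smul, ← neg_smul, ← add_smul, polar_smul_left, hup, smul_eq_mul,
      mul_one, neg_add_eq_zero] at hm
    exact hm
  -- the points of the other kind
  obtain ⟨k, hk, t, ht, hkt⟩ := exists_eo_point hQ (by omega) hy20 hy2 hy10 hy1
  have hB0 : NilKind (conjO ((⟨k, hk⟩ : eo Q) * g2) H) y := by
    have := nilKind_conj hy2 hB ⟨k, hk⟩
    rw [conjO_conjO, show (⟨k, hk⟩ : eo Q).1.1 y2 = t • y from hkt] at this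
    exact nilKind_smul ht hy1 this
  set gB := (⟨k, hk⟩ : eo Q) * g2
  have hcountB : Nat.card (perpPair Q y f) ≤ Nat.card {x // BX x} := by
    have hnil : ∀ u : perpPair Q y f, NilKind (conjO (E Q y (u : V) * gB) H) y := fun u => by
      have huy := (mem_perpPair.1 u.2).1
      have := nilKind_conj hy1 hB0 (E Q y (u : V))
      rwa [conjO_conjO, E_fix hy1 huy (by rw [polar_self', hy1, mul_zero]) huy] at this
    refine Nat.card_le_card_of_injective (fun u => (⟨((E Q y (u : V) * gB : eo Q) : eo Q ⧸ H), by
      show NilKind _ y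
      rw [hout]; exact hnil u⟩ : {x // BX x})) fun u u' e => ?_
    have hm := QuotientGroup.eq.1 (congrArg Subtype.val e)
    have hu := fun u : perpPair Q y f => (mem_perpPair.1 u.2).1
    rw [mul_inv_rev, E_inv hy1 (hu u), show gB⁻¹ * E Q y (-(u : V)) * (E Q y (u' : V) * gB) =
      gB⁻¹ * (E Q y (-(u : V)) * E Q y (u' : V)) * gB by group, E_add hy1 (polar_perp_neg (hu u)) (hu u'),
      ← mem_conjO] at hm
    obtain ⟨s, hs⟩ := Submodule.mem_span_singleton.1
      (hB0 _ (polar_perp_add (polar_perp_neg (hu u)) (hu u')) hm)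
    have := congrArg (polar Q f) hs
    rw [polar_smul_right, polar_comm Q f y, hyf, polar_add_right, polar_neg_right, (mem_perpPair.1 u.2).2,
      (mem_perpPair.1 u'.2).2] at this
    simp at this
    rw [this, zero_smul] at hs
    exact Subtype.ext (neg_add_eq_zero.1 hs.symm)
  have hdisj : ∀ x, BX x → ¬AX x := by
    rintro x hb ⟨w, hw1, hw2, hw3⟩
    let φ : perpPair Q y f →ₗ[F] F := ((polarBilin Q).flip w).domRestrict (perpPair Q y f)
    have hker : 1 ≤ finrank F (LinearMap.ker φ) := by
      have h1 := LinearMap.finrank_range_add_finrank_ker φ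
      have h2 := Submodule.finrank_le (LinearMap.range φ)
      rw [Module.finrank_self] at h2
      omega
    have : Nontrivial (LinearMap.ker φ) := Module.nontrivial_of_finrank_pos (R := F) (by omega)
    obtain ⟨⟨u, hu⟩, hu0⟩ := exists_ne (0 : LinearMap.ker φ)
    have huy := (mem_perpPair.1 u.2).1
    obtain ⟨s, hs⟩ := Submodule.mem_span_singleton.1 (hb _ huy ((hw3 _ huy).2 hu))
    have hfu := congrArg (polar Q f) hs
    rw [polar_smul_right, polar_comm Q f y, hyf, (mem_perpPair.1 u.2).2] at hfu
    simp at hfu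
    rw [hfu, zero_smul] at hs
    exact hu0 (Subtype.ext (Subtype.ext hs.symm))
  have hsum : Nat.card {x // AX x} + Nat.card {x // ¬AX x} = H.index := by
    rw [← Nat.card_sum, Nat.card_congr (Equiv.sumCompl AX)]; rfl
  have hBle : Nat.card {x // BX x} ≤ Nat.card {x // ¬AX x} :=
    Nat.card_le_card_of_injective (fun x => ⟨x.1, hdisj _ x.2⟩) fun a b e => Subtype.ext (congrArg Subtype.val e :)
  have hlines : Nat.card {w : perpPair Q y f // Q (w : V) = σ} ≤ Nat.card Ln * Nat.card Fˣ := by
    rw [← Nat.card_prod]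
    have hne : ∀ w : {w : perpPair Q y f // Q (w : V) = σ}, w.1 ≠ 0 := fun w h => hv (by
      rw [← w.2, h, Submodule.coe_zero, map_zero])
    choose a ha using fun w : {w : perpPair Q y f // Q (w : V) = σ} => exists_smul_eq_mk_rep F w.1 (hne w)
    have hsc : ∀ w, R (mk F w.1 (hne w)).rep = σ := fun w => by
      rw [← ha w, Units.smul_def, Quad.map_smul', sq_unit hq (a w).ne_zero, one_mul]
      exact w.2
    refine Nat.card_le_card_of_injective (fun w => ((⟨mk F w.1 (hne w), hsc w⟩ : Ln), a w)) fun w w' e => ?_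
    have e1 : mk F w.1 (hne w) = mk F w'.1 (hne w') := congrArg (fun p => p.1.1) e
    have e2 : a w = a w' := congrArg Prod.snd e
    have h1 := ha w
    rw [e1, e2, ← ha w'] at h1
    exact Subtype.ext (MulAction.injective (a w') h1)
  rw [Nat.card_units] at hlines
  have h4 := Nat.mul_le_mul_left (Nat.card F - 1) (add_le_add hcountA (hcountB.trans hBle))
  rw [hsum, Nat.mul_add] at h4
  refine le_trans (Nat.add_le_add_right ?_ _) h4
  calc _ ≤ Nat.card F * (Nat.card Ln * (Nat.card F - 1)) := Nat.mul_le_mul_left _ hlines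
    _ = _ := by ring

end Cfsg.Agent.MinIndexForm.O
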