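import Cfsg.Agent.MinIndexForm.O.Main
import Cfsg.Agent.MinIndexForm.O.Perfect
import Cfsg.Agent.MinIndexForm.O.SmallCount

/-!
The minimal index in minus type over the fields with two and three elements.
-/

set_option autoImplicit false

namespace Cfsg.Agent.MinIndexForm.O

open Cfsg.Agent.Classical Cfsg.Agent.Classical.Quad Module QuadraticMap

universe uF uV

variable {F : Type uF} [Field F] [Finite F] {V : Type uV} [AddCommGroup V] [Module F V] [FiniteDimensional F V]
  {Q : QuadraticForm F V}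

/-- The minimal index for a small field. -/
theorem index_bound_minus (hQ : (polarBilin Q).Nondegenerate) (hq : Nat.card F ≤ 3) {k : ℕ} (hk : 2 ≤ k)
    (hd : finrank F V = 2 * (k + 2)) (hm : ¬ OrthElem.Plus Q ⊤) (H : Subgroup (eo Q)) (hH : H ≠ ⊤) :
    Nat.card (SPt Q) ≤ H.index := by
  have hq2 : 2 ≤ Nat.card F := Finite.one_lt_card
  have := Fintype.ofFinite F
  have hz := OrthElem.zcard_minus_eq (R := Q) (F := F) hQ (k := k + 1) (by rw [hd]) hm
  rw [← zcard_pts, Nat.add_sub_cancel, ← Nat.card_eq_fintype_card] at hz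
  set q := Nat.card F with hqd
  set N := Nat.card (SPt Q) with hNd
  set X := q ^ (k + 1) with hXd
  have hX1 : 1 ≤ X := Nat.one_le_pow _ _ (by omega)
  have hz' : (q - 1) * N + q * X + 1 = q * (X * X) + X := by
    rw [hz, show q ^ (k + 1 + 1) = q * X from pow_succ' q (k + 1)]
    obtain ⟨r, hr⟩ := Nat.exists_eq_add_of_le' hX1
    rw [hr, Nat.add_sub_cancel]
    ring
  have hbound : N ≤ q ^ (2 * k + 1) * (q + 2) := by
    have e : q * (q ^ (2 * k + 1) * (q + 2)) = X * X * (q + 2) := by rw [hXd]; ring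
    have h4 : X ≤ X * X := Nat.le_mul_self X
    rcases (show q = 2 ∨ q = 3 by omega) with h | h <;> rw [h] at hz' e hXd ⊢ <;> omega
  obtain ⟨τ, hZ⟩ := exists_line hQ (by omega) hH
  rcases τ.line_cases H hd (by omega) (show 2 * (k + 2) = 2 * k + 4 by ring) hbound hZ
      (Or.inr fun I hI => τ.small_index hq (by omega) hm I hI) with h | ⟨r, hr⟩ | ⟨Z, hZb⟩
  · exact h
  · obtain ⟨g, hg⟩ := τ.alpha_normal H hr
    obtain ⟨g', s, hA, hB⟩ := τ.alpha_kinds_small _ hq (by omega) hg
    rw [conjO_conjO] at hA hB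
    have hQv : Q (τ.f2 + s • τ.y2) = s := by
      rw [map_add_smul, τ.hf2, τ.hy2, τ.h22']
      ring
    by_cases hs : s = 0
    · exact index_ge_of_kinds hQ (by omega) H τ.hy1 τ.y1_ne τ.hy2 τ.y2_ne (hQv.trans hs) hA hB
    · obtain ⟨f, hf, hyf⟩ := exists_hyp_pair hQ τ.y1_ne τ.hy1
      have h := index_ge_of_kinds_aniso hQ hq (by omega) H τ.hy1 τ.y1_ne τ.hy2 τ.y2_ne (by rwa [hQv]) hf hyf hA hB
      have hdim := finrank_perpPair (Q := Q) τ.hy1 hf hyf
      have hU : finrank F (perpPair Q τ.y1 f) = 2 * (k + 1) := by omega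
      have hcnt := norm_count (R := restrictPair Q τ.y1 f) (nondeg_restrictPair hQ τ.hy1 hf hyf) hq hU hs
      have hrec := pts_rec τ.hy1 hf hyf hU
      rw [← zcard_pts, ← hqd, show q ^ (2 * (k + 1)) = X * X by rw [hXd]; ring] at hcnt
      rw [← hqd, ← hNd, show q ^ (2 * (k + 1)) = X * X by rw [hXd]; ring] at hrec
      rw [hQv, Module.natCard_eq_pow_finrank (K := F) (V := perpPair Q τ.y1 f), hU, ← hqd,
        show q ^ (2 * (k + 1)) = X * X by rw [hXd]; ring] at h
      change q * Nat.card {w : perpPair Q τ.y1 f // restrictPair Q τ.y1 f w = s} + _ ≤ _ at h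
      rcases (show q = 2 ∨ q = 3 by omega) with hq' | hq' <;> rw [hq'] at hz' hcnt hrec h <;> omega
  · have := τ.finrank_W
    exact (τ.no_ts_plane (by have := hZb.1; omega) hm hZb.2.2.2.1 hZb.2.1).elim

/-- The statement for the quotient by the centre, from a bound for the isometry group. -/
theorem pomega_of_bound {ι : Type} [Fintype ι] [DecidableEq ι] {Q : QuadraticForm F (ι → F)}
    (hQ : (polarBilin Q).Nondegenerate) (hn : 7 ≤ finrank F (ι → F))
    (hb : ∀ H : Subgroup (eo Q), H ≠ ⊤ → Nat.card (SPt Q) ≤ H.index) :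
    (∀ H : Subgroup (Cfsg.POmega F ⇑Q), H ≠ ⊤ → Nat.card (SPt Q) ≤ H.index) ∧
      ∃ H : Subgroup (Cfsg.POmega F ⇑Q), H.index = Nat.card (SPt Q) := by
  set e := omegaEquiv hQ (show 5 ≤ finrank F (ι → F) by omega)
  have hmk : Function.Surjective (QuotientGroup.mk' (Subgroup.center (Cfsg.Omega F ⇑Q))) :=
    QuotientGroup.mk'_surjective _
  constructor
  · intro H hH
    set H' := (H.comap (QuotientGroup.mk' (Subgroup.center (Cfsg.Omega F ⇑Q)))).comap e.symm.toMonoidHom
    have hidx : H'.index = H.index := by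
      rw [Subgroup.index_comap_of_surjective (f := e.symm.toMonoidHom) _ e.symm.surjective,
        Subgroup.index_comap_of_surjective _ hmk]
    have hne : H' ≠ ⊤ := fun h => hH (Subgroup.index_eq_one.1 (by rw [← hidx, h, Subgroup.index_top]))
    rw [← hidx]
    exact hb H' hne
  · obtain ⟨y, hy0, hy⟩ := exists_singular Q (by omega)
    set P := (Pt (Q := Q) y).comap e.toMonoidHom
    have hle : Subgroup.center (Cfsg.Omega F ⇑Q) ≤ P := fun g hg => by
      refine center_le_Pt hQ (by omega) hy0 hy ?_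
      rw [← map_center_omega hQ (show 5 ≤ finrank F (ι → F) by omega)]
      exact ⟨g, hg, rfl⟩
    refine ⟨P.map (QuotientGroup.mk' _), ?_⟩
    rw [SU.index_center_quotient hle, Subgroup.index_comap_of_surjective (f := e.toMonoidHom) _ e.surjective,
      index_Pt hQ (by omega) hy0 hy]

end Cfsg.Agent.MinIndexForm.O
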