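import Cfsg.Agent.MinIndexForm.O.Types

/-!
The two kinds of a point over a field with two or three elements, where the vector of the first kind may be
anisotropic.
-/

set_option autoImplicit false

namespace Cfsg.Agent.MinIndexForm.O

open Cfsg.Agent.Classical Cfsg.Agent.Classical.Quad Module QuadraticMap Matrix
open scoped MatrixGroups

universe uF uV

variable {F : Type uF} {V : Type uV} [Field F] [AddCommGroup V] [Module F V] {Q : QuadraticForm F V}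

/-- A field with at most three elements has no element besides zero, one and minus one. -/
theorem eq_trits [Finite F] (hq : Nat.card F ≤ 3) (r : F) : r = 0 ∨ r = 1 ∨ r = -1 := by
  by_contra hc
  push Not at hc
  obtain ⟨h0, h1, h2⟩ := hc
  have h3 : r + 1 ≠ 0 := fun h => h2 (eq_neg_of_add_eq_zero_left h)
  have := Fintype.ofFinite F
  have hnd : [(0 : F), 1, r, r + 1].Nodup := by
    simp [Ne.symm h0, Ne.symm h1, Ne.symm h3]
    exact h0
  have := hnd.length_le_card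
  rw [Nat.card_eq_fintype_card] at hq
  simp at this
  omega

/-- Additive maps over such a field are linear. -/
def smallLinear [Finite F] (hq : Nat.card F ≤ 3) {U : Type*} [AddCommGroup U] [Module F U] (f : U →+ F) :
    U →ₗ[F] F where
  toFun := f
  map_add' := f.map_add
  map_smul' r a := by
    rcases eq_trits hq r with rfl | rfl | rfl <;> simp

namespace LF

variable (τ : LF Q) (K : Subgroup (eo Q)) [Finite F] [FiniteDimensional F V]

/-- A lift of an upper unipotent matrix gives a Siegel transformation at the first point. -/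
theorem up_lift (hn : 7 ≤ finrank F V) (hZ : ∀ c, τ.z c ∈ K → c = 0) (hE1 : ∀ a : τ.W, E Q τ.y1 (a : V) ∈ K)
    {r : F} {u : τ.P1} (huK : u.1 ∈ K) (eu : τ.sl u = up r) (hul : τ.lam ⟨u.1, u.2.1⟩ = 1) :
    ∃ c : F, E Q τ.y1 (r • τ.f2 + c • τ.y2) ∈ K := by
  have hqe : ∀ (a : τ.W) (c : F), τ.qe a 0 c = E Q τ.y1 ((a : V) + c • τ.y2) := fun a c => by
    rw [qe, Submodule.coe_zero, E_zero, mul_one, z, E_add τ.hy1 (τ.By1 a) (τ.hz c)]
  have hU1 := τ.U1_mem r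
  have hP2 : ((⟨_, hU1.1⟩ : τ.P1)⁻¹ * u).1 ∈ τ.P2 := τ.P2_of_mat ((⟨_, hU1.1⟩ : τ.P1)⁻¹ * u).2.1
    (congrArg Subtype.val (show τ.sl ((⟨_, hU1.1⟩ : τ.P1)⁻¹ * u) = 1 by
      rw [map_mul, map_inv, eu,
        inv_mul_eq_one]
      exact Subtype.ext (by rw [τ.sl_coe, τ.U1_mat, up_coe])))
  obtain ⟨c, hc⟩ := τ.eq_qe hP2 (fun w => τ.lam_one_iff.1
    (show τ.lam ((⟨_, hU1.1.1⟩ : τ.P)⁻¹ * ⟨u.1, u.2.1⟩) = 1 by
      rw [map_mul, map_inv, hul, τ.lam_M hU1, inv_one, one_mul]) w)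
  set a' := (τ.vecOf ((⟨_, hU1.1⟩ : τ.P1)⁻¹ * u).1).1
  set b' := (τ.vecOf ((⟨_, hU1.1⟩ : τ.P1)⁻¹ * u).1).2
  have hX : E Q τ.y1 (r • τ.f2) * τ.qe 0 b' (c + polar Q (b' : V) ((-a' : τ.W) : V)) ∈ K := by
    have hm := K.mul_mem huK (hE1 (-a'))
    rw [← τ.qe_one, show u.1 * τ.qe (-a') 0 0 =
      E Q τ.y1 (r • τ.f2) * (((⟨_, hU1.1⟩ : τ.P1)⁻¹ * u).1 * τ.qe (-a') 0 0) by
        show _ = E Q τ.y1 (r • τ.f2) * ((E Q τ.y1 (r • τ.f2))⁻¹ * u.1 * _)
        group, hc, τ.qe_mul, add_neg_cancel, add_zero, add_zero] at hm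
    exact hm
  set c' := c + polar Q (b' : V) ((-a' : τ.W) : V)
  have hcom : ∀ (a : τ.W) (t : F), E Q τ.y1 (r • τ.f2) * τ.qe a 0 t * (E Q τ.y1 (r • τ.f2))⁻¹ = τ.qe a 0 t := by
    intro a t
    rw [hqe, E_add τ.hy1 (τ.U1_hw r) (polar_perp_add (τ.By1 a) (τ.hz t)), E_inv τ.hy1 (τ.U1_hw r),
      E_add τ.hy1 (polar_perp_add (τ.U1_hw r) (polar_perp_add (τ.By1 a) (τ.hz t))) (polar_perp_neg (τ.U1_hw r))]
    congr 1
    abel
  have hb' : b' = 0 := by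
    refine eq_zero_of_polar τ.nondeg_W fun a => ?_
    refine hZ _ ?_
    have h1 := K.mul_mem (K.mul_mem hX (hE1 a)) (K.inv_mem hX)
    rw [← τ.qe_one, show E Q τ.y1 (r • τ.f2) * τ.qe 0 b' c' * τ.qe a 0 0 *
      (E Q τ.y1 (r • τ.f2) * τ.qe 0 b' c')⁻¹ = E Q τ.y1 (r • τ.f2) *
        (τ.qe 0 b' c' * τ.qe a 0 0 * (τ.qe 0 b' c')⁻¹) * (E Q τ.y1 (r • τ.f2))⁻¹ by group,
      τ.qe_inv, τ.qe_mul, τ.qe_mul] at h1
    simp only [zero_add, add_zero, neg_zero, add_neg_cancel, Submodule.coe_zero] at h1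
    rw [hcom] at h1
    have h2 := K.mul_mem h1 (K.inv_mem (hE1 a))
    rw [← τ.qe_one, τ.qe_inv, τ.qe_mul] at h2
    simp only [add_zero, neg_zero, add_neg_cancel, Submodule.coe_zero, τ.qe_z] at h2
    convert h2 using 2
    rw [τ.polar_QW]
    have z1 : ∀ v : V, polar Q v 0 = 0 := fun v => by simp [polar]
    have z2 : ∀ v : V, polar Q 0 v = 0 := fun v => by simp [polar]
    simp only [z1, z2]
    ring
  rw [hb', τ.qe_z, z, E_add τ.hy1 (τ.U1_hw r) (τ.hz c')] at hX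
  exact ⟨c', hX⟩

/-- No Siegel transformation at the second point. -/
theorem nil_two (hn : 7 ≤ finrank F V) (hZ : ∀ c, τ.z c ∈ K → c = 0) (hS1 : ∀ a : τ.W, ∃ c, τ.qe a 0 c ∈ K)
    (hS0 : ∀ {a b : τ.W} {c : F}, τ.qe a b c ∈ K → b = 0) : NilKind K τ.y2 := fun w hw hwK => by
  have hW : Nontrivial τ.W := Module.nontrivial_of_finrank_pos (R := F) (by have := τ.finrank_W; omega)
  set a := τ.pr w with ha
  set t := polar Q τ.f1 w
  set r := polar Q τ.y1 w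
  set s := polar Q τ.f2 w
  have e : w = (a : V) + r • τ.f1 + t • τ.y1 + s • τ.y2 := by
    conv_lhs => rw [τ.decomp w, hw]
    simp [ha, t, r, s]; abel
  have hz2 : polar Q τ.y2 (t • τ.y1) = 0 := by simp [polar_smul_right, τ.hyy']
  have h1 : polar Q τ.y2 ((a : V) + r • τ.f1) = 0 := polar_perp_add (τ.By2 a) (τ.U2_hw r)
  have hk : E Q τ.y2 w = E Q τ.y2 (a : V) * E Q τ.y2 (r • τ.f1) * τ.z (-t) := by
    rw [← τ.E2_y1, E_add τ.hy2 (τ.By2 a) (τ.U2_hw r), E_add τ.hy2 h1 hz2]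
    conv_lhs => rw [e, E_add_self τ.hy2 (polar_perp_add h1 hz2)]
  rw [hk] at hwK
  have hU2 := τ.U2_mem r
  have hqP : E Q τ.y2 (a : V) ∈ τ.P2 := τ.qe_two a ▸ τ.qe_mem_P2 _ _ _
  have hzP : τ.z (-t) ∈ τ.P2 := τ.qe_z (-t) ▸ τ.qe_mem_P2 _ _ _
  set X : τ.P := ⟨E Q τ.y2 (a : V) * E Q τ.y2 (r • τ.f1) * τ.z (-t),
    τ.P.mul_mem (τ.P.mul_mem (τ.P2_le_P hqP) hU2.1.1) (τ.P2_le_P hzP)⟩ with hX
  have hmat : τ.mat X.1 = !![1, 0; r, 1] := by
    rw [hX, τ.mat_mul _ (τ.P2_le_P hzP), τ.mat_mul _ hU2.1.1, τ.mat_P2 hqP, τ.mat_P2 hzP, one_mul, mul_one,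
      τ.U2_mat]
  have hr : r = 0 := by
    obtain ⟨v, hv⟩ := exists_ne (0 : τ.W)
    obtain ⟨c, hc⟩ := hS1 v
    obtain ⟨c', hc'⟩ := τ.S_inv K X.2 hwK (τ.mem_S K |>.2 ⟨c, hc⟩)
    have := hS0 hc'
    rw [hmat] at this
    simp only [Matrix.of_apply, Matrix.cons_val', Matrix.cons_val_zero, Matrix.cons_val_one,
      Matrix.cons_val_fin_one, map_zero, smul_zero, add_zero, smul_eq_zero] at this
    rcases this with h0 | h0
    · exact h0
    · exact absurd ((LinearEquiv.map_eq_zero_iff _).1 h0) hv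
  rw [hr, zero_smul, E_zero, mul_one, ← τ.qe_two, ← τ.qe_z, τ.qe_mul] at hwK
  have ha0 : a = 0 := by simpa using hS0 hwK
  rw [ha0] at hwK
  simp only [add_zero, zero_add, Submodule.coe_zero] at hwK
  have ht : -t + polar Q (0 : V) 0 = 0 := hZ _ (by rw [← τ.qe_z]; simpa [polar] using hwK)
  simp [polar] at ht
  rw [Submodule.mem_span_singleton]
  exact ⟨s, by rw [e, ha0, hr, ht]; simp⟩

/-- In the normalised configuration over a small field, the two kinds occur. -/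
theorem alpha_kinds_small (hq : Nat.card F ≤ 3) (hn : 7 ≤ finrank F V) (hα : τ.AlphaBad K (1, 0)) :
    ∃ (g : eo Q) (s : F), HypKind (conjO g K) τ.y1 (τ.f2 + s • τ.y2) ∧ NilKind (conjO g K) τ.y2 := by
  obtain ⟨-, hZ, hfull, hline, hlift⟩ := hα
  have hS0 : ∀ {a b : τ.W}, (a, b) ∈ τ.S K → b = 0 := fun {a b} h => by
    have := hline _ h
    simpa [eq_comm] using this
  have hZ0 : ∀ c, τ.z c ∈ K → c = 0 := fun c hc => by rwa [← mem_Zp, hZ, AddSubgroup.mem_bot] at hc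
  have hS1 : ∀ a : τ.W, ∃ c, τ.qe a 0 c ∈ K := fun a => by simpa [mem_S] using hfull a
  choose cf hcf using hS1
  have hadd : ∀ a a', cf (a + a') = cf a + cf a' := fun a a' => by
    have h := K.mul_mem (K.mul_mem (hcf a) (hcf a')) (K.inv_mem (hcf (a + a')))
    rw [τ.qe_mul, τ.qe_inv, τ.qe_mul, add_zero, neg_zero, add_zero, add_neg_cancel, τ.qe_z] at h
    have := hZ0 _ h
    simp only [Submodule.coe_zero, polar_zero_left, add_zero] at this
    exact (eq_of_sub_eq_zero (by rwa [← sub_eq_add_neg] at this)).symm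
  let φ : τ.W →ₗ[F] F := smallLinear hq (AddMonoidHom.mk' (fun a => -cf a) fun a a' => by rw [hadd, neg_add])
  set x : τ.W := (LinearMap.BilinForm.toDual (polarBilin τ.QW) τ.nondeg_W).symm φ with hx
  have hxa : ∀ a, polar τ.QW x a = -cf a := fun a =>
    LinearMap.BilinForm.apply_toDual_symm_apply (hB := τ.nondeg_W) φ a
  refine ⟨τ.qe 0 x 0, ?_⟩
  set K' := conjO (τ.qe 0 x 0) K with hK'
  have hmem : ∀ u : eo Q, u ∈ K → τ.qe 0 x 0 * u * (τ.qe 0 x 0)⁻¹ ∈ K' := fun u hu => ⟨u, hu, rfl⟩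
  have hmem' : ∀ u : eo Q, u ∈ K' → (τ.qe 0 x 0)⁻¹ * u * τ.qe 0 x 0 ∈ K := fun u hu => mem_conjO.1 hu
  have hZ' : ∀ c, τ.z c ∈ K' → c = 0 := fun c hc => by
    refine hZ0 c ?_
    have := hmem' _ hc
    rwa [mul_assoc, τ.z_comm_qe, inv_mul_cancel_left] at this
  have hE1 : ∀ a : τ.W, E Q τ.y1 (a : V) ∈ K' := fun a => by
    have := hmem _ (hcf a)
    rw [τ.qe_inv, τ.qe_mul, τ.qe_mul] at this
    simp only [zero_add, add_zero, neg_zero, add_neg_cancel, Submodule.coe_zero, polar_zero_right,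
      ← τ.polar_QW, hxa, add_neg_cancel] at this
    rwa [τ.qe_one] at this
  have hS1' : ∀ a : τ.W, ∃ c, τ.qe a 0 c ∈ K' := fun a => ⟨0, by rw [τ.qe_one]; exact hE1 a⟩
  have hS0' : ∀ {a b : τ.W} {c : F}, τ.qe a b c ∈ K' → b = 0 := fun {a b c} hc => by
    have := hmem' _ hc
    rw [τ.qe_inv, τ.qe_mul, τ.qe_mul] at this
    simp only [zero_add, add_zero, neg_zero, neg_add_cancel_comm] at this
    exact hS0 ⟨_, this⟩
  have hex : ∀ r : F, ∃ c, E Q τ.y1 (r • τ.f2 + c • τ.y2) ∈ K' := fun r => by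
    obtain ⟨u, hu, eu, hul⟩ := hlift (up r) (by simp [mem_lineStab, up_coe])
    have hqP : τ.qe 0 x 0 ∈ τ.P1 := τ.P2_le (τ.qe_mem_P2 _ _ _)
    set u' : τ.P1 := (⟨τ.qe 0 x 0, hqP⟩ : τ.P1) * u * (⟨τ.qe 0 x 0, hqP⟩ : τ.P1)⁻¹ with hu'
    have hu'K : u'.1 ∈ K' := hmem _ hu
    refine τ.up_lift K' hn hZ' hE1 (r := r) (u := u') hu'K ?_ ?_
    · rw [hu', map_mul, map_mul, map_inv, show τ.sl ⟨_, hqP⟩ = 1 from Subtype.ext (τ.mat_P2 (τ.qe_mem_P2 _ _ _)),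
        eu, inv_one, one_mul, mul_one]
    · show τ.lam ((⟨_, hqP.1⟩ : τ.P) * ⟨u.1, u.2.1⟩ * (⟨_, hqP.1⟩ : τ.P)⁻¹) = 1
      rw [map_mul, map_mul, map_inv, hul,
        show τ.lam ⟨τ.qe 0 x 0, hqP.1⟩ = 1 from τ.lam_eq_one fun w => τ.pr_qe_W _ _ _ _, inv_one, mul_one, mul_one]
  obtain ⟨s0, hs0⟩ := hex 1
  rw [one_smul] at hs0
  have hw0 : polar Q τ.y1 (τ.f2 + s0 • τ.y2) = 0 := polar_perp_add τ.h12 (τ.hz s0)
  have hU : ∀ r : F, E Q τ.y1 (r • (τ.f2 + s0 • τ.y2)) ∈ K' := fun r => by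
    rcases eq_trits hq r with rfl | rfl | rfl
    · rw [zero_smul, E_zero]; exact K'.one_mem
    · rw [one_smul]; exact hs0
    · rw [neg_one_smul, ← E_inv τ.hy1 hw0]; exact K'.inv_mem hs0
  refine ⟨-s0, ⟨?_, polar_perp_add τ.h12 (τ.hz _), fun w hw => ?_⟩, τ.nil_two K' hn hZ' hS1' hS0'⟩
  · intro hc
    obtain ⟨s, hs⟩ := Submodule.mem_span_singleton.1 hc
    have := congrArg (polar Q τ.y2) hs
    rw [polar_smul_right, τ.hyy', polar_add_right, polar_smul_right, τ.h22, τ.s22, smul_zero, smul_zero,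
      add_zero] at this
    exact zero_ne_one this
  · set a := τ.pr w with ha
    set t := polar Q τ.f2 w
    set r := polar Q τ.y2 w
    have e : w = (a : V) + r • τ.f2 + t • τ.y2 + polar Q τ.f1 w • τ.y1 := by
      conv_lhs => rw [τ.decomp w, hw]
      simp [ha, t, r]; abel
    have hr : polar Q τ.y1 (r • (τ.f2 + s0 • τ.y2)) = 0 := polar_perp_smul hw0 r
    have h1 : polar Q τ.y1 ((a : V) + r • (τ.f2 + s0 • τ.y2)) = 0 := polar_perp_add (τ.By1 a) hr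
    have hk : E Q τ.y1 w =
        E Q τ.y1 (a : V) * E Q τ.y1 (r • (τ.f2 + s0 • τ.y2)) * τ.z (t - r * s0) := by
      rw [z, E_add τ.hy1 (τ.By1 a) hr, E_add τ.hy1 h1 (τ.hz _)]
      conv_lhs => rw [e, E_add_self τ.hy1 (polar_perp_add (polar_perp_add (τ.By1 a) (τ.U1_hw r)) (τ.hz t))]
      congr 1
      module
    rw [hk, K'.mul_mem_cancel_left (K'.mul_mem (hE1 a) (hU r)),
      show polar Q w (τ.f2 + -s0 • τ.y2) = t - r * s0 by
        rw [polar_add_right, polar_smul_right, polar_comm Q w τ.f2, polar_comm Q w τ.y2, smul_eq_mul]; ring]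
    exact ⟨hZ' _, fun h0 => by rw [h0, τ.z_zero]; exact K'.one_mem⟩

end LF

end Cfsg.Agent.MinIndexForm.O
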