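import Cfsg.Agent.MinIndexForm.O.Cases

/-!
The two kinds of a point with respect to a subgroup, produced by the first exceptional configuration at a line.
-/

set_option autoImplicit false

namespace Cfsg.Agent.MinIndexForm.O

open Cfsg.Agent.Classical Cfsg.Agent.Classical.Quad Module QuadraticMap Matrix
open scoped MatrixGroups

universe uF uV

variable {F : Type uF} {V : Type uV} [Field F] [AddCommGroup V] [Module F V] {Q : QuadraticForm F V}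

/-- The Siegel transformations at the vector in the subgroup are those orthogonal to `v`. -/
def HypKind (K : Subgroup (eo Q)) (y v : V) : Prop :=
  v ∉ Submodule.span F {y} ∧ polar Q y v = 0 ∧ ∀ w, polar Q y w = 0 → (E Q y w ∈ K ↔ polar Q w v = 0)

/-- No Siegel transformation at the vector is in the subgroup. -/
def NilKind (K : Subgroup (eo Q)) (y : V) : Prop :=
  ∀ w, polar Q y w = 0 → E Q y w ∈ K → w ∈ Submodule.span F {y}

theorem conjO_mem' {g x : eo Q} {K : Subgroup (eo Q)} : x ∈ conjO g⁻¹ K ↔ g * x * g⁻¹ ∈ K := by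
  rw [mem_conjO, inv_inv]

namespace LF

variable (τ : LF Q) (K : Subgroup (eo Q))

theorem M_mat {g : eo Q} (hg : g ∈ τ.M) (a b : τ.W) (c : F) :
    ∃ c', g * τ.qe a b c * g⁻¹ =
      τ.qe (τ.mat g 0 0 • a + τ.mat g 0 1 • b) (τ.mat g 1 0 • a + τ.mat g 1 1 • b) c' := by
  have := τ.conj_qe hg.1.1 a b c
  rwa [τ.lam_M hg] at this

theorem M_z {g : eo Q} (hg : g ∈ τ.M) (c : F) : g * τ.z c * g⁻¹ = τ.z c := by
  rw [τ.conj_z hg.1.1, hg.1.2, one_mul]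

theorem Zp_conj_M {g : eo Q} (hg : g ∈ τ.M) : τ.Zp (conjO g⁻¹ K) = τ.Zp K := by
  ext c; rw [mem_Zp, mem_Zp, conjO_mem', τ.M_z hg]

theorem S_conj_M {g : eo Q} (hg : g ∈ τ.M) (a b : τ.W) :
    (a, b) ∈ τ.S (conjO g⁻¹ K) ↔
      (τ.mat g 0 0 • a + τ.mat g 0 1 • b, τ.mat g 1 0 • a + τ.mat g 1 1 • b) ∈ τ.S K := by
  constructor
  · rintro ⟨c, hc⟩
    obtain ⟨c', e⟩ := τ.M_mat hg a b c
    exact ⟨c', by rw [← e, ← conjO_mem']; exact hc⟩
  · rintro ⟨c, hc⟩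
    obtain ⟨c', e⟩ := τ.M_mat hg a b 0
    refine ⟨c - c', conjO_mem'.2 ?_⟩
    have e' : τ.qe a b (c - c') = τ.qe a b 0 * τ.z (c - c') := by rw [← τ.qe_z, τ.qe_mul]; simp [polar]
    rw [e', show g * (τ.qe a b 0 * τ.z (c - c')) * g⁻¹ = (g * τ.qe a b 0 * g⁻¹) * (g * τ.z (c - c') * g⁻¹) by group,
      τ.M_z hg, e, ← τ.qe_z, τ.qe_mul]
    convert hc using 2 <;> simp [polar]

variable [Finite F]

/-- The point of the line can be put first. -/
theorem alpha_normal {r : F × F} (hα : τ.AlphaBad K r) :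
    ∃ g : eo Q, τ.AlphaBad (conjO g⁻¹ K) (1, 0) := by
  obtain ⟨hr, hZ, hfull, hline, hlift⟩ := hα
  obtain ⟨C, hC0, hC1⟩ : ∃ C : SL(2, F), C.1 0 0 = r.1 ∧ C.1 1 0 = r.2 := by
    by_cases h1 : r.1 = 0
    · have h2 : r.2 ≠ 0 := fun h2 => hr (Prod.ext h1 h2)
      exact ⟨⟨!![r.1, -r.2⁻¹; r.2, 0], by rw [det_fin_two]; simp [h1, h2]⟩, rfl, rfl⟩
    · exact ⟨⟨!![r.1, 0; r.2, r.1⁻¹], by rw [det_fin_two]; simp [h1]⟩, rfl, rfl⟩
  have hdet : C.1 0 0 * C.1 1 1 - C.1 0 1 * C.1 1 0 = 1 := by rw [← det_fin_two]; exact C.2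
  obtain ⟨g, hg, e⟩ := τ.exists_lev C
  have em : τ.mat g.1 = C.1 := by rw [← τ.sl_coe, e]
  refine ⟨g.1, ?_, (τ.Zp_conj_M K hg).trans hZ, fun v => ?_, ?_, ?_⟩
  · simp
  · rw [τ.S_conj_M K hg, em, hC0, hC1]
    simpa using hfull v
  · rintro ⟨a, b⟩ h
    rw [τ.S_conj_M K hg, em] at h
    have := hline _ h
    rw [← hC0, ← hC1] at this
    show (0 : F) • a = (1 : F) • b
    rw [zero_smul, one_smul]
    have h2 : (C.1 0 0 * C.1 1 1 - C.1 0 1 * C.1 1 0) • b = 0 := by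
      linear_combination (norm := module) -this
    rw [hdet, one_smul] at h2
    exact h2.symm
  · intro A hA
    have hA' : C * A * C⁻¹ ∈ lineStab r := by
      rw [mem_lineStab] at hA ⊢
      have hA10 : A.1 1 0 = 0 := by simpa [eq_comm] using hA
      simp [Matrix.SpecialLinearGroup.coe_mul, Matrix.SpecialLinearGroup.coe_inv, Matrix.adjugate_fin_two,
        Matrix.mul_apply, Fin.sum_univ_two, hA10, hC0, hC1]
      ring
    obtain ⟨g', hg', e', hl⟩ := hlift _ hA'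
    refine ⟨g⁻¹ * g' * g, conjO_mem'.2 ?_, ?_, ?_⟩
    · show g.1 * (g⁻¹ * g' * g : τ.P1).1 * g.1⁻¹ ∈ K
      simpa [mul_assoc] using hg'
    · rw [map_mul, map_mul, map_inv, e, e']; group
    · show τ.lam ((⟨g.1, g.2.1⟩ : τ.P)⁻¹ * ⟨g'.1, g'.2.1⟩ * ⟨g.1, g.2.1⟩) = 1
      rw [map_mul, map_mul, map_inv, hl, τ.lam_M hg, inv_one, one_mul, one_mul]

/-- In the normalised configuration, the two kinds occur. -/
theorem alpha_kinds (hq : 4 ≤ Nat.card F) [FiniteDimensional F V] (hn : 7 ≤ finrank F V)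
    (hα : τ.AlphaBad K (1, 0)) :
    ∃ g : eo Q, HypKind (conjO g K) τ.y1 τ.f2 ∧ NilKind (conjO g K) τ.y2 := by
  obtain ⟨-, hZ, hfull, hline, hlift⟩ := hα
  have hS0 : ∀ {a b : τ.W}, (a, b) ∈ τ.S K → b = 0 := fun {a b} h => by
    have := hline _ h
    simpa [eq_comm] using this
  have hS1 : ∀ a : τ.W, ∃ c, τ.qe a 0 c ∈ K := fun a => by simpa [mem_S] using hfull a
  obtain ⟨b, hb⟩ := exists_sq_ne_one (F := F) hq
  have hb1 : (b : F) ≠ 1 := fun h => hb (by rw [h, one_pow])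
  obtain ⟨h, hhM, eh⟩ := τ.exists_lev (dia b)
  have mh : τ.mat h.1 = !![(b : F), 0; 0, ((b⁻¹ : Fˣ) : F)] := by rw [← τ.sl_coe, eh, dia_coe]
  obtain ⟨k, hk, ek, hkl⟩ := hlift (dia b) (by simp [mem_lineStab, dia_coe])
  -- the lift as a Levi element times a unipotent one
  have hk2 : (h⁻¹ * k).1 ∈ τ.P2 := τ.P2_of_mat (h⁻¹ * k).2.1
    (congrArg Subtype.val (show τ.sl (h⁻¹ * k) = 1 by rw [map_mul, map_inv, eh, ek, inv_mul_cancel]))
  obtain ⟨c0, hc0⟩ := τ.eq_qe hk2 (fun w => τ.lam_one_iff.1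
    (show τ.lam ((⟨h.1, h.2.1⟩ : τ.P)⁻¹ * ⟨k.1, k.2.1⟩) = 1 by
      rw [map_mul, map_inv, hkl, τ.lam_M hhM, inv_one, one_mul]) w)
  set a0 := (τ.vecOf (h⁻¹ * k).1).1
  set b0 := (τ.vecOf (h⁻¹ * k).1).2
  obtain ⟨c', hc'⟩ := hS1 (-a0)
  set c1 := c0 + c' + polar Q (b0 : V) ((-a0 : τ.W) : V) with hc1
  have hh0 : h.1 * τ.qe 0 b0 c1 ∈ K := by
    have hm := K.mul_mem hk hc'
    have e : k.1 * τ.qe (-a0) 0 c' = h.1 * ((h⁻¹ * k).1 * τ.qe (-a0) 0 c') := by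
      show _ = h.1 * (h.1⁻¹ * k.1 * _)
      group
    rw [e, hc0, τ.qe_mul, add_neg_cancel, add_zero] at hm
    exact hm
  set x : τ.W := (1 - (b : F))⁻¹ • b0 with hx
  refine ⟨τ.qe 0 x 0, ?_⟩
  set K' := conjO (τ.qe 0 x 0) K with hK'
  have hmem : ∀ u : eo Q, u ∈ K → τ.qe 0 x 0 * u * (τ.qe 0 x 0)⁻¹ ∈ K' := fun u hu =>
    ⟨u, hu, rfl⟩
  have hmem' : ∀ u : eo Q, u ∈ K' → (τ.qe 0 x 0)⁻¹ * u * τ.qe 0 x 0 ∈ K := fun u hu => mem_conjO.1 hu
  have hzq : ∀ c, (τ.qe 0 x 0)⁻¹ * τ.z c * τ.qe 0 x 0 = τ.z c := fun c => by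
    rw [mul_assoc, τ.z_comm_qe, inv_mul_cancel_left]
  have hZ' : ∀ c, τ.z c ∈ K' → c = 0 := fun c hc => by
    have := hmem' _ hc
    rw [hzq, ← mem_Zp, hZ, AddSubgroup.mem_bot] at this
    exact this
  have hS1' : ∀ a : τ.W, ∃ c, τ.qe a 0 c ∈ K' := fun a => by
    obtain ⟨c, hc⟩ := hS1 a
    have := hmem _ hc
    rw [τ.qe_inv, τ.qe_mul, τ.qe_mul] at this
    simp only [zero_add, add_zero, neg_zero, add_neg_cancel] at this
    exact ⟨_, this⟩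
  have hS0' : ∀ {a b : τ.W} {c : F}, τ.qe a b c ∈ K' → b = 0 := fun {a b c} hc => by
    have := hmem' _ hc
    rw [τ.qe_inv, τ.qe_mul, τ.qe_mul] at this
    simp only [zero_add, add_zero, neg_zero, neg_add_cancel_comm] at this
    exact hS0 ⟨_, this⟩
  -- the normalised torus element
  have hh1 : ∃ c2, h.1 * τ.z c2 ∈ K' := by
    have hm := hmem _ hh0
    obtain ⟨c, hc⟩ := τ.M_mat (τ.M.inv_mem hhM) 0 x 0
    have mhi : τ.mat (h.1⁻¹) = !![((b⁻¹ : Fˣ) : F), 0; 0, (b : F)] := by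
      have := congrArg (fun A : SL(2, F) => (A : Matrix (Fin 2) (Fin 2) F))
        (show τ.sl h⁻¹ = (dia b)⁻¹ by rw [map_inv, eh])
      simp only [τ.sl_coe, Matrix.SpecialLinearGroup.coe_inv, Matrix.adjugate_fin_two, dia_coe] at this
      simpa using this
    rw [mhi, inv_inv] at hc
    rw [show τ.qe 0 x 0 * (h.1 * τ.qe 0 b0 c1) * (τ.qe 0 x 0)⁻¹ =
        h.1 * ((h.1⁻¹ * τ.qe 0 x 0 * h.1) * τ.qe 0 b0 c1 * (τ.qe 0 x 0)⁻¹) by group, hc, τ.qe_inv, τ.qe_mul,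
      τ.qe_mul] at hm
    simp only [Matrix.of_apply, Matrix.cons_val', Matrix.cons_val_zero, Matrix.cons_val_one, Matrix.cons_val_fin_one,
      zero_smul, smul_zero, zero_add, add_zero, neg_zero] at hm
    have e : (b : F) • x + b0 + -x = 0 := by
      have h1b : (1 : F) - b ≠ 0 := sub_ne_zero.2 (Ne.symm hb1)
      rw [hx]
      match_scalars
      field_simp
      ring
    rw [e, τ.qe_z] at hm
    exact ⟨_, hm⟩
  obtain ⟨c2, hc2⟩ := hh1
  have hy1 : h.1.1.1 τ.y1 = (b : F) • τ.y1 := by rw [τ.g_y1 h.2.1, mh]; simp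
  have hy2 : h.1.1.1 τ.y2 = ((b⁻¹ : Fˣ) : F) • τ.y2 := by rw [τ.g_y2 h.2.1, mh]; simp
  have hf2 : h.1.1.1 τ.f2 = (b : F) • τ.f2 := by
    rw [τ.fsp_eq (hhM.2.2 _ τ.f2_mem)]
    have e1 : polar Q τ.y1 (h.1.1.1 τ.f2) = 0 := by
      have := polar_map_eo h.1 τ.y1 τ.f2
      rw [hy1, polar_smul_left, τ.h12, smul_eq_mul] at this
      exact (mul_eq_zero.1 this).resolve_left b.ne_zero
    have e2 : polar Q τ.y2 (h.1.1.1 τ.f2) = (b : F) := by
      have := polar_map_eo h.1 τ.y2 τ.f2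
      rw [hy2, polar_smul_left, τ.h22, smul_eq_mul, Units.val_inv_eq_inv_val] at this
      exact (inv_mul_eq_one₀ b.ne_zero).1 this |>.symm
    rw [e1, e2]; simp
  -- conjugating Siegel transformations at the first point by the torus element
  have conjh : ∀ w : V, polar Q τ.y1 w = 0 → E Q τ.y1 w ∈ K' → E Q τ.y1 ((b : F) • h.1.1.1 w) ∈ K' := by
    intro w hw hm
    have hzc : τ.z c2 * E Q τ.y1 w * (τ.z c2)⁻¹ = E Q τ.y1 w := by
      rw [τ.z_comm1 hw, mul_inv_cancel_right]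
    have hm' := K'.mul_mem (K'.mul_mem hc2 hm) (K'.inv_mem hc2)
    rw [show h.1 * τ.z c2 * E Q τ.y1 w * (h.1 * τ.z c2)⁻¹ =
        h.1 * (τ.z c2 * E Q τ.y1 w * (τ.z c2)⁻¹) * h.1⁻¹ by group, hzc, conj_E _ τ.hy1 hw, hy1,
      E_smul_left τ.hy1 (by
        have := polar_map_eo h.1 τ.y1 w
        rw [hy1, hw, polar_smul_left, smul_eq_mul] at this
        exact (mul_eq_zero.1 this).resolve_left b.ne_zero)] at hm'
    exact hm'
  have hqe : ∀ (a : τ.W) (c : F), τ.qe a 0 c = E Q τ.y1 ((a : V) + c • τ.y2) := fun a c => by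
    rw [qe, Submodule.coe_zero, E_zero, mul_one, z, E_add τ.hy1 (τ.By1 a) (τ.hz c)]
  have hE1 : ∀ a : τ.W, E Q τ.y1 (a : V) ∈ K' := fun a => by
    have h1b : (b : F) - 1 ≠ 0 := sub_ne_zero.2 hb1
    set a' := ((b : F) - 1)⁻¹ • a with ha'
    obtain ⟨c, hc⟩ := hS1' a'
    rw [hqe] at hc
    have hw : polar Q τ.y1 ((a' : V) + c • τ.y2) = 0 := polar_perp_add (τ.By1 _) (τ.hz c)
    have h2 := K'.mul_mem (conjh _ hw hc) (K'.inv_mem hc)
    rw [map_add, map_smul, hhM.2.1, hy2, smul_add, smul_smul, smul_smul, mul_right_comm, Units.mul_inv, one_mul,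
      E_inv τ.hy1 hw, E_add τ.hy1 (polar_perp_add (polar_perp_smul (τ.By1 _) _) (τ.hz c)) (polar_perp_neg hw)] at h2
    convert h2 using 2
    rw [ha', Submodule.coe_smul]
    match_scalars <;> field_simp <;> ring
  have hU : ∀ r : F, E Q τ.y1 (r • τ.f2) ∈ K' := fun r => by
    -- a lift of an upper unipotent element
    have hex : ∀ r : F, ∃ c, E Q τ.y1 (r • τ.f2 + c • τ.y2) ∈ K' := fun r => by
      obtain ⟨u, hu, eu, hul⟩ := hlift (up r) (by simp [mem_lineStab, up_coe])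
      have hqP : τ.qe 0 x 0 ∈ τ.P1 := τ.P2_le (τ.qe_mem_P2 _ _ _)
      set u' : τ.P1 := ⟨_, hqP⟩ * u * ⟨_, hqP⟩⁻¹ with hu'
      have hu'K : u'.1 ∈ K' := hmem _ hu
      have hlq : τ.lam ⟨τ.qe 0 x 0, hqP.1⟩ = 1 := τ.lam_eq_one fun w => τ.pr_qe_W _ _ _ _
      have hu'l : τ.lam ⟨u'.1, u'.2.1⟩ = 1 := by
        show τ.lam ((⟨_, hqP.1⟩ : τ.P) * ⟨u.1, u.2.1⟩ * (⟨_, hqP.1⟩ : τ.P)⁻¹) = 1
        rw [map_mul, map_mul, map_inv, hlq, hul, inv_one, mul_one, mul_one]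
      have hsq : τ.sl ⟨_, hqP⟩ = 1 := Subtype.ext (τ.mat_P2 (τ.qe_mem_P2 _ _ _))
      have hU1 := τ.U1_mem r
      have hP2 : ((⟨_, hU1.1⟩ : τ.P1)⁻¹ * u').1 ∈ τ.P2 := τ.P2_of_mat ((⟨_, hU1.1⟩ : τ.P1)⁻¹ * u').2.1
        (congrArg Subtype.val (show τ.sl ((⟨_, hU1.1⟩ : τ.P1)⁻¹ * u') = 1 by
          rw [map_mul, map_inv, hu', map_mul, map_mul, map_inv, hsq, eu, inv_one, one_mul, mul_one,
            inv_mul_eq_one]
          exact Subtype.ext (by rw [τ.sl_coe, τ.U1_mat, up_coe])))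
      obtain ⟨c, hc⟩ := τ.eq_qe hP2 (fun w => τ.lam_one_iff.1
        (show τ.lam ((⟨_, hU1.1.1⟩ : τ.P)⁻¹ * ⟨u'.1, u'.2.1⟩) = 1 by
          rw [map_mul, map_inv, hu'l, τ.lam_M hU1, inv_one, one_mul]) w)
      set a' := (τ.vecOf ((⟨_, hU1.1⟩ : τ.P1)⁻¹ * u').1).1
      set b' := (τ.vecOf ((⟨_, hU1.1⟩ : τ.P1)⁻¹ * u').1).2
      have hX : E Q τ.y1 (r • τ.f2) * τ.qe 0 b' (c + polar Q (b' : V) ((-a' : τ.W) : V)) ∈ K' := by
        have hm := K'.mul_mem hu'K (hE1 (-a'))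
        rw [← τ.qe_one, show u'.1 * τ.qe (-a') 0 0 =
          E Q τ.y1 (r • τ.f2) * (((⟨_, hU1.1⟩ : τ.P1)⁻¹ * u').1 * τ.qe (-a') 0 0) by
            show _ = E Q τ.y1 (r • τ.f2) * ((E Q τ.y1 (r • τ.f2))⁻¹ * u'.1 * _)
            group, hc, τ.qe_mul, add_neg_cancel, add_zero, add_zero] at hm
        exact hm
      set c' := c + polar Q (b' : V) ((-a' : τ.W) : V)
      have hcom : ∀ (a : τ.W) (t : F), E Q τ.y1 (r • τ.f2) * τ.qe a 0 t * (E Q τ.y1 (r • τ.f2))⁻¹ = τ.qe a 0 t := by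
        intro a t
        rw [hqe, E_add τ.hy1 (τ.U1_hw r) (polar_perp_add (τ.By1 a) (τ.hz t)), E_inv τ.hy1 (τ.U1_hw r),
          E_add τ.hy1 (polar_perp_add (τ.U1_hw r) (polar_perp_add (τ.By1 a) (τ.hz t))) (polar_perp_neg (τ.U1_hw r))]
        congr 1
        abel
      have hb' : b' = 0 := by
        refine eq_zero_of_polar τ.nondeg_W fun a => ?_
        refine hZ' _ ?_
        have h1 := K'.mul_mem (K'.mul_mem hX (hE1 a)) (K'.inv_mem hX)
        rw [← τ.qe_one, show E Q τ.y1 (r • τ.f2) * τ.qe 0 b' c' * τ.qe a 0 0 *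
          (E Q τ.y1 (r • τ.f2) * τ.qe 0 b' c')⁻¹ = E Q τ.y1 (r • τ.f2) *
            (τ.qe 0 b' c' * τ.qe a 0 0 * (τ.qe 0 b' c')⁻¹) * (E Q τ.y1 (r • τ.f2))⁻¹ by group,
          τ.qe_inv, τ.qe_mul, τ.qe_mul] at h1
        simp only [zero_add, add_zero, neg_zero, add_neg_cancel, Submodule.coe_zero] at h1
        rw [hcom] at h1
        have h2 := K'.mul_mem h1 (K'.inv_mem (hE1 a))
        rw [← τ.qe_one, τ.qe_inv, τ.qe_mul] at h2
        simp only [add_zero, neg_zero, add_neg_cancel, Submodule.coe_zero, τ.qe_z] at h2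
        convert h2 using 2
        rw [τ.polar_QW]
        have z1 : ∀ v : V, polar Q v 0 = 0 := fun v => by simp [polar]
        have z2 : ∀ v : V, polar Q 0 v = 0 := fun v => by simp [polar]
        simp only [z1, z2]
        ring
      rw [hb', τ.qe_z, z, E_add τ.hy1 (τ.U1_hw r) (τ.hz c')] at hX
      exact ⟨c', hX⟩
    have h1b : (b : F) ^ 2 - 1 ≠ 0 := sub_ne_zero.2 hb
    set r' := r / ((b : F) ^ 2 - 1) with hr'
    obtain ⟨c, hc⟩ := hex r'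
    have hw : polar Q τ.y1 (r' • τ.f2 + c • τ.y2) = 0 := polar_perp_add (τ.U1_hw _) (τ.hz c)
    have h2 := K'.mul_mem (conjh _ hw hc) (K'.inv_mem hc)
    rw [map_add, map_smul, map_smul, hy2, hf2, smul_add, smul_smul, smul_smul, smul_smul, smul_smul,
      E_inv τ.hy1 hw, E_add τ.hy1 (polar_perp_add (τ.U1_hw _) (τ.hz _)) (polar_perp_neg hw)] at h2
    convert h2 using 2
    rw [hr']
    match_scalars <;> field_simp <;> ring
  have hW : Nontrivial τ.W := Module.nontrivial_of_finrank_pos (R := F) (by have := τ.finrank_W; omega)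
  refine ⟨⟨?_, τ.h12, fun w hw => ?_⟩, fun w hw hwK => ?_⟩
  · intro hc
    obtain ⟨s, hs⟩ := Submodule.mem_span_singleton.1 hc
    have := congrArg (polar Q τ.y2) hs
    rw [polar_smul_right, τ.hyy', τ.h22, smul_zero] at this
    exact zero_ne_one this
  · set a := τ.pr w with ha
    set t := polar Q τ.f2 w
    set r := polar Q τ.y2 w
    have e : w = (a : V) + r • τ.f2 + t • τ.y2 + polar Q τ.f1 w • τ.y1 := by
      conv_lhs => rw [τ.decomp w, hw]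
      simp [ha, t, r]; abel
    have h1 : polar Q τ.y1 ((a : V) + r • τ.f2) = 0 := polar_perp_add (τ.By1 a) (τ.U1_hw r)
    have hk : E Q τ.y1 w = E Q τ.y1 (a : V) * E Q τ.y1 (r • τ.f2) * τ.z t := by
      rw [z, E_add τ.hy1 (τ.By1 a) (τ.U1_hw r), E_add τ.hy1 h1 (τ.hz t)]
      conv_lhs => rw [e, E_add_self τ.hy1 (polar_perp_add h1 (τ.hz t))]
    rw [hk, K'.mul_mem_cancel_left (K'.mul_mem (hE1 a) (hU r)), polar_comm Q w]
    exact ⟨hZ' t, fun h0 => by rw [show t = 0 from h0, τ.z_zero]; exact K'.one_mem⟩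
  · set a := τ.pr w with ha
    set t := polar Q τ.f1 w
    set r := polar Q τ.y1 w
    set s := polar Q τ.f2 w
    have e : w = (a : V) + r • τ.f1 + t • τ.y1 + s • τ.y2 := by
      conv_lhs => rw [τ.decomp w, hw]
      simp [ha, t, r, s]; abel
    have hz2 : polar Q τ.y2 (t • τ.y1) = 0 := by simp [polar_smul_right, τ.hyy']
    have h1 : polar Q τ.y2 ((a : V) + r • τ.f1) = 0 := polar_perp_add (τ.By2 a) (τ.U2_hw r)
    have hk : E Q τ.y2 w = E Q τ.y2 (a : V) * E Q τ.y2 (r • τ.f1) * τ.z (-t) := by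
      rw [← τ.E2_y1, E_add τ.hy2 (τ.By2 a) (τ.U2_hw r), E_add τ.hy2 h1 hz2]
      conv_lhs => rw [e, E_add_self τ.hy2 (polar_perp_add h1 hz2)]
    rw [hk] at hwK
    have hU2 := τ.U2_mem r
    have hqP : E Q τ.y2 (a : V) ∈ τ.P2 := τ.qe_two a ▸ τ.qe_mem_P2 _ _ _
    have hzP : τ.z (-t) ∈ τ.P2 := τ.qe_z (-t) ▸ τ.qe_mem_P2 _ _ _
    set X : τ.P := ⟨E Q τ.y2 (a : V) * E Q τ.y2 (r • τ.f1) * τ.z (-t),
      τ.P.mul_mem (τ.P.mul_mem (τ.P2_le_P hqP) hU2.1.1) (τ.P2_le_P hzP)⟩ with hX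
    have hmat : τ.mat X.1 = !![1, 0; r, 1] := by
      rw [hX, τ.mat_mul _ (τ.P2_le_P hzP), τ.mat_mul _ hU2.1.1, τ.mat_P2 hqP, τ.mat_P2 hzP, one_mul, mul_one,
        τ.U2_mat]
    have hr : r = 0 := by
      obtain ⟨v, hv⟩ := exists_ne (0 : τ.W)
      obtain ⟨c, hc⟩ := hS1' v
      obtain ⟨c', hc'⟩ := τ.S_inv K' X.2 hwK (τ.mem_S K' |>.2 ⟨c, hc⟩)
      have := hS0' hc'
      rw [hmat] at this
      simp only [Matrix.of_apply, Matrix.cons_val', Matrix.cons_val_zero, Matrix.cons_val_one,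
        Matrix.cons_val_fin_one, map_zero, smul_zero, add_zero, smul_eq_zero] at this
      rcases this with h0 | h0
      · exact h0
      · exact absurd ((LinearEquiv.map_eq_zero_iff _).1 h0) hv
    rw [hr, zero_smul, E_zero, mul_one, ← τ.qe_two, ← τ.qe_z, τ.qe_mul] at hwK
    have ha0 : a = 0 := by simpa using hS0' hwK
    rw [ha0] at hwK
    simp only [add_zero, zero_add, Submodule.coe_zero] at hwK
    have ht : -t + polar Q (0 : V) 0 = 0 := hZ' _ (by rw [← τ.qe_z]; simpa [polar] using hwK)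
    simp [polar] at ht
    rw [Submodule.mem_span_singleton]
    exact ⟨s, by rw [e, ha0, hr, ht]; simp⟩

end LF

end Cfsg.Agent.MinIndexForm.O
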